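import Cfsg.Agent.Lib.Classical.MaxFrameEngine
import Cfsg.Agent.Lib.Classical.CliffordTwo.CentreFour.Fusion

/-!
Orthogonal frames in dimension six: if the elements fixing a frame vector are monomial, every element is monomial.
-/

set_option autoImplicit false
set_option linter.unusedSectionVars false
set_option linter.style.haveILetI false
set_option quotPrecheck false

namespace Cfsg.Agent.Classical.LinFour.Six

open Matrix Module MaxTv OrthFrame

variable {F : Type*} [Field F]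

local notation "V₆" => (Fin 6 → F)
local notation "M₆" => Matrix (Fin 6) (Fin 6) F
local notation "GL₆" => GL (Fin 6) F

/-- The sign change of the last two frame vectors. -/
local notation "D" => (dg ({4, 5} : Finset (Fin 6)) : GL₆)

theorem neg_one_ne (h2 : (2 : F) ≠ 0) : (-1 : Fˣ) ≠ 1 := fun e => h2 (by
  have := congrArg Units.val e
  rw [Units.val_neg, Units.val_one] at this
  linear_combination -this)

theorem dg_univ_comm (x : GL₆) : x * dg Finset.univ = dg Finset.univ * x := by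
  have e : ((dg Finset.univ : GL₆) : M₆) = -1 := Matrix.ext_iff_mulVec.2 fun v => funext fun k => by
    rw [dg_mulVec, if_pos (Finset.mem_univ k), Matrix.neg_mulVec, Matrix.one_mulVec, Pi.neg_apply]
  exact Units.ext (by rw [Units.val_mul, Units.val_mul, e]; simp)

theorem dg_compl (S : Finset (Fin 6)) : (dg Sᶜ : GL₆) = dg Finset.univ * dg S := by
  rw [dg_mul]; congr 1; ext i; simp [Finset.mem_symmDiff]

theorem dg_comm (S T : Finset (Fin 6)) : dg S * dg T = (dg T * dg S : GL₆) := by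
  rw [dg_mul, dg_mul, symmDiff_comm]

theorem dg_sq (S : Finset (Fin 6)) : dg S * dg S = (1 : GL₆) := by
  rw [dg_mul, symmDiff_self, Finset.bot_eq_empty, dg_empty]

theorem dg_comm_sp (U : Finset (Fin 6)) (π : Equiv.Perm (Fin 6)) (ε : Fin 6 → Fˣ) (h : ∀ i, π i ∈ U ↔ i ∈ U) :
    dg U * sp π ε = (sp π ε * dg U : GL₆) := by
  rw [dg, sp_mul, sp_mul, one_mul, mul_one]
  congr 1
  funext i
  rw [mul_comm]
  congr 1
  simp [sgn, h]

theorem sp_conj_dg (π : Equiv.Perm (Fin 6)) (ε : Fin 6 → Fˣ) {S S' : Finset (Fin 6)} (h : ∀ i, π i ∈ S' ↔ i ∈ S) :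
    sp π ε * dg S = (dg S' * sp π ε : GL₆) := by
  rw [dg, dg, sp_mul, sp_mul, mul_one, one_mul]
  congr 1
  funext i
  simp [sgn, h, mul_comm]

theorem preserves (h2 : (2 : F) ≠ 0) {σ : Equiv.Perm (Fin 6)} {δ : Fin 6 → Fˣ} {S : Finset (Fin 6)}
    (h : sp σ δ * dg S = (dg S * sp σ δ : GL₆)) (i : Fin 6) : σ i ∈ S ↔ i ∈ S := by
  rw [dg, sp_mul, sp_mul, mul_one, one_mul] at h
  have h1 := congrFun (sp_inj h).2 i
  rw [mul_comm] at h1
  have h1' := mul_right_cancel h1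
  have hne := neg_one_ne h2
  by_cases a : i ∈ S <;> by_cases b : σ i ∈ S <;> simp_all [sgn, hne.symm]

theorem trace_sp (π : Equiv.Perm (Fin 6)) (ε : Fin 6 → Fˣ) :
    ((sp π ε : GL₆) : M₆).trace = ∑ i, if π i = i then (ε i : F) else 0 := by
  simp [Matrix.trace, sp_val, spMat]

theorem trace_conj (g x : GL₆) : ((g * x * g⁻¹ : GL₆) : M₆).trace = (x : M₆).trace := by
  rw [Units.val_mul, Units.val_mul, Matrix.trace_mul_comm, ← mul_assoc, ← Units.val_mul, inv_mul_cancel,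
    Units.val_one, one_mul]

theorem mon_one' : Mon (1 : GL₆) := mon_one

set_option synthInstance.maxSize 4000 in
theorem move_all : ∀ a : Equiv.Perm (Fin 6), a * a = 1 → a 4 = 4 → a 5 = 5 → a ≠ 1 →
    ∀ b : Equiv.Perm (Fin 6), b * b = 1 → b 4 = 4 → b 5 = 5 → b ≠ 1 → a * b = b * a → a ≠ b →
    (Finset.univ.filter fun i => a i = i).card = (Finset.univ.filter fun i => b i = i).card →
    (Finset.univ.filter fun i => b i = i).card = (Finset.univ.filter fun i => (a * b) i = i).card →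
    ∀ i, i ≠ 4 → i ≠ 5 → a i ≠ i ∧ b i ≠ i ∧ (a * b) i ≠ i := by decide +kernel

set_option synthInstance.maxSize 4000 in
theorem cover_all : ∀ p q r : Fin 6, p ≠ 0 → q ≠ 0 → r ≠ 0 → p ≠ q → p ≠ r → q ≠ r → p ≠ 4 → p ≠ 5 → q ≠ 4 → q ≠ 5 →
    r ≠ 4 → r ≠ 5 → ∀ i : Fin 6, i ≠ 4 → i ≠ 5 → i = 0 ∨ i = p ∨ i = q ∨ i = r := by decide +kernel

set_option synthInstance.maxSize 4000 in
theorem pair_all : ∀ U : Finset (Fin 6), U ∈ ({{0, 1}, {0, 1, 3, 4}, {0, 1, 4, 5}, {0, 1, 3, 5}} : Finset (Finset (Fin 6))) →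
    (U.card = 2 ∨ U.card = 4) ∧ ∀ i, Equiv.swap (0 : Fin 6) 1 i ∈ U ↔ i ∈ U := by decide +kernel

set_option synthInstance.maxSize 4000 in
theorem rot_all : ∀ l : Fin 6, l ∈ ({2, 3, 4, 5} : Finset (Fin 6)) →
    ∀ r : Equiv.Perm (Fin 6), r = (if l = 2 then 1 else Equiv.swap 2 l * Equiv.swap 0 1) →
      Equiv.Perm.sign r = 1 ∧ r * Equiv.swap 0 1 * r⁻¹ = Equiv.swap 0 1 ∧
        ∀ i ∈ ({3, 4, 5} : Finset (Fin 6)), r⁻¹ i ∈ ({2, 3, 4, 5} : Finset (Fin 6)) ∧ r⁻¹ i ≠ l := by decide +kernel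

variable [Fintype F] {H : Subgroup (GL (Fin 6) F)} (O : Fr H) (h1 : Fix H 1)
include O

theorem exists_dg {ε : Fin 6 → Fˣ} (h : (sp 1 ε : GL₆) ∈ H) : ∃ W, Even W.card ∧ (sp 1 ε : GL₆) = dg W := by
  classical
  have e : (sp 1 ε : GL₆) = dg (Finset.univ.filter fun i => ε i = -1) := by
    rw [dg]
    congr 1
    funext i
    have hne := neg_one_ne O.two
    rcases O.unit_of_mem h i with e | e <;> simp [sgn, e, hne.symm]
  exact ⟨_, O.even_dg (e ▸ h), e⟩

theorem inv_sp {y : GL₆} {π : Equiv.Perm (Fin 6)} {ε : Fin 6 → Fˣ} (hy : y = sp π ε) (h : y * y = 1) :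
    π * π = 1 ∧ ∀ i, ε (π i) * ε i = 1 := by
  rw [hy, sp_mul, ← sp_one] at h
  exact ⟨(sp_inj h).1, congrFun (sp_inj h).2⟩

include h1

/-- The conjugates of the sign changes of pairs by a centralising element. -/
theorem hdiag {g : GL₆} (hg : g ∈ H) (hc : g * D = D * g) {i j : Fin 6} (hi : i ≠ 4 ∧ i ≠ 5) (hj : j ≠ 4 ∧ j ≠ 5)
    (hij : i ≠ j) : ∃ ε, g * dg {i, j} * g⁻¹ = sp 1 ε := by
  classical
  obtain ⟨d₀, hd₀⟩ : ∃ d₀ : GL₆, d₀ = dg {0, 4} := ⟨_, rfl⟩
  have hd₀H : d₀ ∈ H := hd₀ ▸ O.mem_dg (by decide)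
  have hd₀D : d₀ * D = D * d₀ := hd₀ ▸ dg_comm _ _
  suffices key : ∀ g : GL₆, g ∈ H → g * D = D * g → ∀ a b : F, a * a + b * b = 1 →
      (g : M₆) *ᵥ Pi.single 4 1 = a • Pi.single 4 1 + b • Pi.single 5 1 →
      (g : M₆) *ᵥ Pi.single 5 1 = (-b) • Pi.single 4 1 + a • Pi.single 5 1 →
      ∃ ε, g * dg {i, j} * g⁻¹ = sp 1 ε by
    have hsup : ∀ (l : Fin 6), l = 4 ∨ l = 5 → ∀ k, k ≠ 4 → k ≠ 5 → ((g : M₆) *ᵥ Pi.single l 1) k = 0 :=
      fun l hl k hk4 hk5 => O.pres hc _ (fun m hm => Pi.single_eq_of_ne (fun e => hm (by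
        rcases hl with rfl | rfl <;> simp [e])) 1) k (by simp [hk4, hk5])
    have hdec : ∀ l : Fin 6, l = 4 ∨ l = 5 → (g : M₆) *ᵥ Pi.single l 1 =
        ((g : M₆) *ᵥ Pi.single l 1) 4 • Pi.single 4 1 + ((g : M₆) *ᵥ Pi.single l 1) 5 • Pi.single 5 1 :=
      fun l hl => funext fun k => by
        rcases eq_or_ne k 4 with rfl | hk4
        · simp
        rcases eq_or_ne k 5 with rfl | hk5
        · simp
        simp only [Pi.add_apply, Pi.smul_apply, Pi.single_eq_of_ne hk4, Pi.single_eq_of_ne hk5, smul_zero, add_zero]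
        exact hsup l hl k hk4 hk5
    obtain ⟨a, ha⟩ : ∃ a, a = ((g : M₆) *ᵥ Pi.single 4 1) 4 := ⟨_, rfl⟩
    obtain ⟨b, hb⟩ : ∃ b, b = ((g : M₆) *ᵥ Pi.single 4 1) 5 := ⟨_, rfl⟩
    obtain ⟨c, hc'⟩ : ∃ c, c = ((g : M₆) *ᵥ Pi.single 5 1) 4 := ⟨_, rfl⟩
    obtain ⟨d, hd⟩ : ∃ d, d = ((g : M₆) *ᵥ Pi.single 5 1) 5 := ⟨_, rfl⟩
    have e4 := hdec 4 (Or.inl rfl)
    have e5 := hdec 5 (Or.inr rfl)
    rw [← ha, ← hb] at e4
    rw [← hc', ← hd] at e5
    have p44 := O.polar_eq hg (Pi.single 4 1) (Pi.single 4 1)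
    have p45 := O.polar_eq hg (Pi.single 4 1) (Pi.single 5 1)
    have p55 := O.polar_eq hg (Pi.single 5 1) (Pi.single 5 1)
    rw [e4] at p44 p45
    rw [e5] at p45 p55
    simp [Fin.sum_univ_six, Pi.single_apply] at p44 p45 p55
    have hs : (a * d - b * c) * (a * d - b * c) = 1 := by
      linear_combination (-(a * c + b * d)) * p45 + (c * c + d * d) * p44 + p55
    have hcs : c = -(a * d - b * c) * b := by linear_combination a * p45 - c * p44
    have hds : d = (a * d - b * c) * a := by linear_combination b * p45 - d * p44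
    rcases mul_self_eq_one_iff.1 hs with s | s <;> rw [s] at hcs hds
    · exact key g hg hc a b p44 e4 (by rw [e5, hcs, hds]; simp)
    · have h4 : ((g * d₀ : GL₆) : M₆) *ᵥ Pi.single 4 1 = (-a) • Pi.single 4 1 + (-b) • Pi.single 5 1 := by
        rw [Units.val_mul, ← Matrix.mulVec_mulVec, hd₀, dg_single, Matrix.mulVec_smul, e4]
        simp [sgn]
      have h5 : ((g * d₀ : GL₆) : M₆) *ᵥ Pi.single 5 1 = (-(-b)) • Pi.single 4 1 + (-a) • Pi.single 5 1 := by
        rw [Units.val_mul, ← Matrix.mulVec_mulVec, hd₀, dg_single, Matrix.mulVec_smul, e5, hcs, hds]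
        simp [sgn]
      obtain ⟨ε, e⟩ := key (g * d₀) (mul_mem hg hd₀H)
        (by rw [mul_assoc, hd₀D, ← mul_assoc, hc, mul_assoc]) (-a) (-b) (by linear_combination p44) h4 h5
      refine ⟨ε, ?_⟩
      rw [← e, mul_assoc g d₀, show d₀ * dg {i, j} = dg {i, j} * d₀ from hd₀ ▸ dg_comm _ _, _root_.mul_inv_rev]
      simp [mul_assoc]
  clear hg hc g
  intro g hg hc a b hab hg4 hg5
  -- sign changes outside the pair
  have hA : ∀ g' : GL₆, g' ∈ H → ∀ a b : F, a * a + b * b = 1 →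
      (g' : M₆) *ᵥ Pi.single 4 1 = a • Pi.single 4 1 + b • Pi.single 5 1 →
      (g' : M₆) *ᵥ Pi.single 5 1 = (-b) • Pi.single 4 1 + a • Pi.single 5 1 → Mon (g' * d₀ * g') := by
    intro g' hg' a b hab h4 h5
    have hY : ∀ l : Fin 6, l = 4 → ((g' * d₀ * g' * d₀ : GL₆) : M₆) *ᵥ Pi.single l 1 = Pi.single l 1 := by
      rintro l rfl
      simp only [Units.val_mul, ← Matrix.mulVec_mulVec, hd₀, dg_single, Matrix.mulVec_smul, h4, Matrix.mulVec_add, h5]
      funext k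
      rcases eq_or_ne k 4 with rfl | hk4
      · simp [sgn]; linear_combination hab
      rcases eq_or_ne k 5 with rfl | hk5
      · simp [sgn]; ring
      simp [Pi.single_eq_of_ne hk4, Pi.single_eq_of_ne hk5]
    have hm := h1 _ (mul_mem (mul_mem (mul_mem hg' hd₀H) hg') hd₀H) {4} (by simp) fun l hl =>
      hY l (Finset.mem_singleton.1 hl)
    have h' := hm.mul (hd₀ ▸ mon_sp _ _ : Mon d₀)
    rwa [mul_assoc (g' * d₀ * g'), hd₀, dg_sq, mul_one, ← hd₀] at h'
  obtain ⟨q, hq⟩ : ∃ q : GL₆, q = sp (Equiv.swap i j * Equiv.swap 4 5) (sgn F {j, 5}) := ⟨_, rfl⟩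
  have hqH : q ∈ H := hq ▸ O.mem_sp (by
    rw [map_mul, Equiv.Perm.sign_swap hij, Equiv.Perm.sign_swap (show (4 : Fin 6) ≠ 5 by decide)]; rfl)
    (by rw [Finset.card_pair hj.2]; exact even_two)
  have h54 : (5 : Fin 6) ≠ 4 := by decide
  have h45 : (4 : Fin 6) ≠ 5 := by decide
  have q4 : (q : M₆) *ᵥ Pi.single 4 1 = Pi.single 5 1 := by
    rw [hq, sp_single]; simp [sgn, Equiv.swap_apply_of_ne_of_ne hi.2.symm hj.2.symm, hj.1.symm, h45]
  have q5 : (q : M₆) *ᵥ Pi.single 5 1 = -Pi.single 4 1 := by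
    rw [hq, sp_single]; simp [sgn, Equiv.swap_apply_of_ne_of_ne hi.1.symm hj.1.symm, Pi.single_neg]
  have hgq4 : ((g * q : GL₆) : M₆) *ᵥ Pi.single 4 1 = (-b) • Pi.single 4 1 + a • Pi.single 5 1 := by
    rw [Units.val_mul, ← Matrix.mulVec_mulVec, q4, hg5]
  have hgq5 : ((g * q : GL₆) : M₆) *ᵥ Pi.single 5 1 = (-a) • Pi.single 4 1 + (-b) • Pi.single 5 1 := by
    rw [Units.val_mul, ← Matrix.mulVec_mulVec, q5, Matrix.mulVec_neg, hg4]; simp; abel
  have m1 := hA g hg a b hab hg4 hg5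
  have m2 := hA (g * q) (mul_mem hg hqH) (-b) a (by linear_combination hab) hgq4 hgq5
  obtain ⟨z, hz⟩ : ∃ z, z = g * q * g⁻¹ := ⟨_, rfl⟩
  have hqm : Mon q := hq ▸ mon_sp _ _
  have hzm : Mon z := by
    have hinv := O.mon_inv (mul_mem (mul_mem hg hd₀H) hg) m1
    have hqinv := O.mon_inv hqH hqm
    have h' := (m2.mul hqinv).mul hinv
    rw [hz]
    convert h' using 1
    simp [mul_assoc]
  obtain ⟨π, ε, hzs⟩ := O.exists_sp (hz ▸ mul_mem (mul_mem hg hqH) (inv_mem hg)) hzm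
  have hzg : ∀ x, (z : M₆) *ᵥ ((g : M₆) *ᵥ x) = (g : M₆) *ᵥ ((q : M₆) *ᵥ x) := fun x => by
    rw [hz, Units.val_mul, Units.val_mul, ← Matrix.mulVec_mulVec, ← Matrix.mulVec_mulVec, inv_mulVec_cancel]
  have hz4 : (z : M₆) *ᵥ Pi.single 4 1 = Pi.single 5 1 := by
    have e1 := hzg (Pi.single 4 1)
    have e2 := hzg (Pi.single 5 1)
    rw [q4, hg4, hg5, Matrix.mulVec_add, Matrix.mulVec_smul, Matrix.mulVec_smul] at e1
    rw [q5, Matrix.mulVec_neg, hg4, hg5, Matrix.mulVec_add, Matrix.mulVec_smul, Matrix.mulVec_smul] at e2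
    funext k
    have f1 := congrFun e1 k
    have f2 := congrFun e2 k
    simp only [Pi.add_apply, Pi.smul_apply, Pi.neg_apply, smul_eq_mul] at f1 f2
    linear_combination a * f1 - b * f2 + ((Pi.single 5 1 : V₆) k - ((z : M₆) *ᵥ Pi.single 4 1) k) * hab
  have hπ4 : π 4 = 5 := by
    by_contra hne
    have h := congrFun hz4 5
    rw [hzs, sp_single, Pi.single_eq_of_ne (Ne.symm hne), Pi.single_eq_same] at h
    exact zero_ne_one h
  have hπ5 : π 5 = 4 := by
    by_contra hne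
    have e1 := hzg (Pi.single 4 1)
    rw [q4, hg4, hg5, Matrix.mulVec_add, Matrix.mulVec_smul, Matrix.mulVec_smul, hz4, hzs, sp_single] at e1
    have f1 := congrFun e1 4
    simp [Pi.single_apply, Ne.symm hne] at f1
    have e2 := hzg (Pi.single 5 1)
    rw [q5, Matrix.mulVec_neg, hg4, hg5, Matrix.mulVec_add, Matrix.mulVec_smul, Matrix.mulVec_smul, hz4, hzs,
      sp_single] at e2
    have f2 := congrFun e2 4
    simp [Pi.single_apply, Ne.symm hne, f1] at f2
    rw [f1, f2] at hab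
    simp at hab
  have hfixed : ∃ k, π k = k := by
    by_contra hcon
    push Not at hcon
    have h := trace_conj g q
    rw [← hz, hzs, hq, trace_sp, trace_sp, Finset.sum_eq_zero fun k _ => if_neg (hcon k)] at h
    refine O.two ?_
    rw [h]
    have hcong : ∀ k, (if ((Equiv.swap i j * Equiv.swap 4 5 : Equiv.Perm (Fin 6))) k = k then (sgn F {j, 5} k : F) else 0) =
        if k ∈ ({i, j, 4, 5} : Finset (Fin 6)) then 0 else 1 := fun k => by
      by_cases hk : k ∈ ({i, j, 4, 5} : Finset (Fin 6))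
      · rw [if_pos hk, if_neg]
        simp only [Finset.mem_insert, Finset.mem_singleton] at hk
        rcases hk with rfl | rfl | rfl | rfl
        · rw [Equiv.Perm.mul_apply, Equiv.swap_apply_of_ne_of_ne hi.1 hi.2, Equiv.swap_apply_left]; exact hij.symm
        · rw [Equiv.Perm.mul_apply, Equiv.swap_apply_of_ne_of_ne hj.1 hj.2, Equiv.swap_apply_right]; exact hij
        · rw [Equiv.Perm.mul_apply, Equiv.swap_apply_left, Equiv.swap_apply_of_ne_of_ne hi.2.symm hj.2.symm]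
          exact h54
        · rw [Equiv.Perm.mul_apply, Equiv.swap_apply_right, Equiv.swap_apply_of_ne_of_ne hi.1.symm hj.1.symm]
          exact h45
      · simp only [Finset.mem_insert, Finset.mem_singleton, not_or] at hk
        rw [if_pos (show ((Equiv.swap i j * Equiv.swap 4 5 : Equiv.Perm (Fin 6))) k = k by
            rw [Equiv.Perm.mul_apply, Equiv.swap_apply_of_ne_of_ne hk.2.2.1 hk.2.2.2,
              Equiv.swap_apply_of_ne_of_ne hk.1 hk.2.1]),
          if_neg (show k ∉ ({i, j, 4, 5} : Finset (Fin 6)) by simp [hk])]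
        simp [sgn, hk.2.1, hk.2.2.2]
    rw [Finset.sum_congr rfl fun k _ => hcong k, Finset.sum_ite, Finset.sum_const_zero, zero_add, Finset.sum_const,
      Finset.filter_not, Finset.card_sdiff_of_subset (Finset.filter_subset _ _), Finset.filter_mem_eq_inter,
      Finset.univ_inter, Finset.card_univ, Fintype.card_fin,
      show ({i, j, 4, 5} : Finset (Fin 6)).card = 4 by
        simp [Finset.card_insert_of_notMem, hij, hi.1, hi.2, hj.1, hj.2]]
    norm_num
  have hq4 : q * q * (q * q) = 1 := by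
    rw [hq, sp_mul, sp_mul, ← sp_one]
    congr 1
    · ext k
      simp only [Equiv.Perm.mul_apply, Equiv.Perm.one_apply]
      have hcc : Commute (Equiv.swap i j) (Equiv.swap 4 5 : Equiv.Perm (Fin 6)) :=
        (Equiv.Perm.Disjoint.commute (fun x => by
          by_cases hx : x = i ∨ x = j
          · rcases hx with rfl | rfl
            · exact Or.inr (Equiv.swap_apply_of_ne_of_ne hi.1 hi.2)
            · exact Or.inr (Equiv.swap_apply_of_ne_of_ne hj.1 hj.2)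
          · push Not at hx
            exact Or.inl (Equiv.swap_apply_of_ne_of_ne hx.1 hx.2)))
      have := congrFun (congrArg DFunLike.coe (show (Equiv.swap i j * Equiv.swap 4 5) *
        (Equiv.swap i j * Equiv.swap 4 5) = 1 by
        rw [hcc.symm.mul_mul_mul_comm, Equiv.swap_mul_self, Equiv.swap_mul_self, mul_one])) k
      simp only [Equiv.Perm.mul_apply, Equiv.Perm.one_apply] at this
      simp [this]
    · funext k
      rcases eq_or_ne k i with rfl | hki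
      · simp [sgn, Equiv.swap_apply_of_ne_of_ne, hi.1, hi.2, hj.1, hj.2, hij, hij.symm]
      rcases eq_or_ne k j with rfl | hkj
      · simp [sgn, Equiv.swap_apply_of_ne_of_ne, hi.1, hi.2, hj.1, hj.2, hij, hij.symm]
      rcases eq_or_ne k 4 with rfl | hk4
      · simp [sgn, Equiv.swap_apply_of_ne_of_ne, hi.1.symm, hi.2.symm, hj.1.symm, hj.2.symm, h45, h54]
      rcases eq_or_ne k 5 with rfl | hk5
      · simp [sgn, Equiv.swap_apply_of_ne_of_ne, hi.1.symm, hi.2.symm, hj.1.symm, hj.2.symm, h45, h54]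
      simp [sgn, Equiv.swap_apply_of_ne_of_ne, hki, hkj, hk4, hk5]
  have hπ2 : π * π = 1 := by
    have h : z * z * (z * z) = 1 := by
      rw [hz, show g * q * g⁻¹ * (g * q * g⁻¹) * (g * q * g⁻¹ * (g * q * g⁻¹)) = g * (q * q * (q * q)) * g⁻¹ by
        group, hq4, mul_one, mul_inv_cancel]
    rw [hzs, sp_mul, sp_mul, ← sp_one] at h
    exact (show ∀ π : Equiv.Perm (Fin 6), π 4 = 5 → π 5 = 4 → π * π * (π * π) = 1 → (∃ k, π k = k) →
      π * π = 1 by decide +kernel) π hπ4 hπ5 (sp_inj h).1 hfixed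
  refine ⟨fun k => ε (π k) * ε k * sgn F {4, 5} k, ?_⟩
  have hq2 : q * q = dg {i, j} * D := by
    rw [dg, dg, hq, sp_mul, sp_mul, one_mul]
    congr 1
    · ext k
      simp only [Equiv.Perm.mul_apply, Equiv.Perm.one_apply]
      by_cases hk : k = i ∨ k = j
      · rcases hk with rfl | rfl
        · simp [Equiv.swap_apply_of_ne_of_ne, hi.1, hi.2, hj.1, hj.2]
        · simp [Equiv.swap_apply_of_ne_of_ne, hi.1, hi.2, hj.1, hj.2]
      push Not at hk
      rcases eq_or_ne k 4 with rfl | hk4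
      · simp [Equiv.swap_apply_of_ne_of_ne, hi.1.symm, hi.2.symm, hj.1.symm, hj.2.symm]
      rcases eq_or_ne k 5 with rfl | hk5
      · simp [Equiv.swap_apply_of_ne_of_ne, hi.1.symm, hi.2.symm, hj.1.symm, hj.2.symm]
      simp [Equiv.swap_apply_of_ne_of_ne, hk.1, hk.2, hk4, hk5]
    · funext k
      rcases eq_or_ne k i with rfl | hki
      · simp [sgn, Equiv.swap_apply_of_ne_of_ne, hi.1, hi.2, hj.1, hj.2, hij, hij.symm]
      rcases eq_or_ne k j with rfl | hkj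
      · simp [sgn, Equiv.swap_apply_of_ne_of_ne, hi.1, hi.2, hj.1, hj.2, hij, hij.symm]
      rcases eq_or_ne k 4 with rfl | hk4
      · simp [sgn, Equiv.swap_apply_of_ne_of_ne, hi.1.symm, hi.2.symm, hj.1.symm, hj.2.symm, h45, h54]
      rcases eq_or_ne k 5 with rfl | hk5
      · simp [sgn, Equiv.swap_apply_of_ne_of_ne, hi.1.symm, hi.2.symm, hj.1.symm, hj.2.symm, h45, h54]
      simp [sgn, Equiv.swap_apply_of_ne_of_ne, hki, hkj, hk4, hk5]
  calc g * dg {i, j} * g⁻¹ = (g * (q * q) * g⁻¹) * D := by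
        rw [hq2, mul_assoc _ g⁻¹, ← mul_assoc g, mul_assoc (g * dg {i, j}),
          show g⁻¹ * D = D * g⁻¹ by rw [inv_mul_eq_iff_eq_mul, ← mul_assoc, hc, mul_assoc, mul_inv_cancel, mul_one],
          ← mul_assoc D D, dg_sq, one_mul]
    _ = sp π ε * sp π ε * D := by rw [← hzs, hz]; group
    _ = _ := by
      rw [dg, sp_mul, sp_mul, mul_one, hπ2]
      rfl

/-- Elements centralising the sign change of the last pair are monomial. -/
theorem mon_comm {g : GL₆} (hg : g ∈ H) (hc : g * D = D * g) : Mon g := by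
  classical
  have hci : g⁻¹ * D = D * g⁻¹ := by rw [inv_mul_eq_iff_eq_mul, ← mul_assoc, hc, mul_assoc, mul_inv_cancel, mul_one]
  obtain ⟨w, hw⟩ : ∃ w, w = (g : M₆) *ᵥ Pi.single 0 1 := ⟨_, rfl⟩
  have hwP : ∀ k ∈ ({4, 5} : Finset (Fin 6)), w k = 0 := fun k hk =>
    hw ▸ O.pres_compl hc _ (fun l hl => Pi.single_eq_of_ne (by rintro rfl; revert hl; decide) 1) k hk
  obtain ⟨j, hj⟩ : ∃ j, w j ≠ 0 := by
    by_contra hcon
    push Not at hcon
    have h0 : Pi.single (0 : Fin 6) (1 : F) = 0 := gl_mulVec_injective g (by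
      show (g : M₆) *ᵥ _ = (g : M₆) *ᵥ _
      rw [← hw, Matrix.mulVec_zero]; exact funext hcon)
    simpa using congrFun h0 0
  have hjB : j ≠ 4 ∧ j ≠ 5 := ⟨fun e => hj (hwP j (by simp [e])), fun e => hj (hwP j (by simp [e]))⟩
  have hzero : ∀ k, k ≠ j → w k = 0 := fun k hk => by
    by_cases hkP : k ∈ ({4, 5} : Finset (Fin 6))
    · exact hwP k hkP
    obtain ⟨m, hmj, hmk, hm4, hm5⟩ :=
      (show ∀ j k : Fin 6, ∃ m, m ≠ j ∧ m ≠ k ∧ m ≠ 4 ∧ m ≠ 5 by decide) j k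
    obtain ⟨ε, e⟩ := hdiag O h1 (inv_mem hg) hci hjB ⟨hm4, hm5⟩ (Ne.symm hmj)
    rw [inv_inv] at e
    have h1' : ((dg {j, m} : GL₆) : M₆) *ᵥ w = (ε 0 : F) • w := by
      rw [hw, ← Matrix.mulVec_smul]
      refine gl_mulVec_injective g⁻¹ ?_
      show ((g⁻¹ : GL₆) : M₆) *ᵥ _ = ((g⁻¹ : GL₆) : M₆) *ᵥ _
      rw [inv_mulVec_cancel, Matrix.mulVec_mulVec, Matrix.mulVec_mulVec, ← Units.val_mul, ← Units.val_mul, e,
        sp_single, Equiv.Perm.one_apply, ← Pi.single_smul, smul_eq_mul, mul_one]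
    have h2 := congrFun h1' j
    have h3 := congrFun h1' k
    rw [dg_mulVec, if_pos (by simp), Pi.smul_apply, smul_eq_mul] at h2
    rw [dg_mulVec, if_neg (by simp [hk, Ne.symm hmk]), Pi.smul_apply, smul_eq_mul] at h3
    have hε : (ε 0 : F) = -1 := mul_right_cancel₀ hj (by linear_combination -h2)
    rw [hε] at h3
    exact (mul_eq_zero.1 (by linear_combination h3 : (2 : F) * w k = 0)).resolve_left O.two
  obtain ⟨π, hπ, hπj⟩ : ∃ π : Equiv.Perm (Fin 6), Equiv.Perm.sign π = 1 ∧ π 0 = j := by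
    rcases eq_or_ne j 0 with rfl | hj0
    · exact ⟨1, map_one _, rfl⟩
    · exact ⟨Equiv.swap 0 j * Equiv.swap 4 5, by
        rw [map_mul, Equiv.Perm.sign_swap hj0.symm, Equiv.Perm.sign_swap (show (4 : Fin 6) ≠ 5 by decide)]; rfl, by
        rw [Equiv.Perm.mul_apply, Equiv.swap_apply_of_ne_of_ne (show (0 : Fin 6) ≠ 4 by decide)
          (show (0 : Fin 6) ≠ 5 by decide), Equiv.swap_apply_left]⟩
  obtain ⟨S, hS, hval⟩ : ∃ S : Finset (Fin 6), Even S.card ∧ (sgn F S 0 : F) = w j := by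
    rcases O.unit_col hg (j := j) (i := 0) (fun k hk => hw ▸ hzero k hk) with e | e <;> rw [← hw] at e
    · exact ⟨∅, by simp, by rw [e]; simp [sgn]⟩
    · exact ⟨{0, 4}, by decide, by rw [e]; simp [sgn]⟩
  refine O.mon_of_agree h1 hg (O.mem_sp hπ hS) (mon_sp _ _) (S := {0}) (by simp) fun l hl => funext fun k => ?_
  rw [Finset.mem_singleton] at hl
  subst hl
  rw [sp_single, hπj, ← hw]
  rcases eq_or_ne k j with rfl | hk
  · rw [Pi.single_eq_same, hval]
  · rw [hzero k hk, Pi.single_eq_of_ne hk]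

omit h1 in
/-- Any pair is moved to the last one. -/
theorem exists_move {S : Finset (Fin 6)} (hS : S.card = 2) :
    ∃ m ∈ H, Mon m ∧ m * D = dg S * m := by
  obtain ⟨π, hπ, hπS⟩ := exists_perm_map (S := ({4, 5} : Finset (Fin 6))) (S' := S) (by rw [hS]; rfl)
    (Or.inl (by decide))
  exact ⟨_, O.mem_pure hπ, mon_sp _ _, sp_conj_dg π _ hπS⟩

/-- A sign change conjugate to a sign change comes from a monomial element. -/
theorem mon_conj {g : GL₆} (hg : g ∈ H) {S S' : Finset (Fin 6)} (hS : S.card = 2 ∨ S.card = 4)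
    (h : g * dg S * g⁻¹ = dg S') : Mon g := by
  classical
  suffices hmain : ∀ S S' : Finset (Fin 6), S.card = 2 → g * dg S * g⁻¹ = dg S' → Mon g by
    rcases hS with hS | hS
    · exact hmain S S' hS h
    · refine hmain Sᶜ S'ᶜ (by rw [Finset.card_compl, hS]; rfl) ?_
      rw [dg_compl, dg_compl, ← mul_assoc, dg_univ_comm, mul_assoc (dg Finset.univ) g, mul_assoc (dg Finset.univ), h]
  intro S S' hS h
  have hS' : S'.card = 2 := by
    have h' := congrArg (fun x : GL₆ => finrank F (negSp x)) h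
    simp only [finrank_negSp_conj, finrank_negSp_dg O.two, hS] at h'
    exact h'.symm
  obtain ⟨m₁, hm₁, hm₁m, e₁⟩ := exists_move O hS
  obtain ⟨m₂, hm₂, hm₂m, e₂⟩ := exists_move O hS'
  have hc : (m₂⁻¹ * g * m₁) * D = D * (m₂⁻¹ * g * m₁) := by
    rw [mul_assoc _ m₁, e₁, ← mul_assoc, mul_assoc m₂⁻¹ g, show g * dg S = dg S' * g by rw [← h, inv_mul_cancel_right],
      ← mul_assoc m₂⁻¹, show m₂⁻¹ * dg S' = D * m₂⁻¹ by
        rw [inv_mul_eq_iff_eq_mul, ← mul_assoc, e₂, mul_inv_cancel_right]]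
    group
  have h' := (hm₂m.mul (mon_comm O h1 (mul_mem (mul_mem (inv_mem hm₂) hg) hm₁) hc)).mul (O.mon_inv hm₁ hm₁m)
  convert h' using 1
  group

/-- The image of a sign change commuting with a bad element. -/
theorem img {g : GL₆} (hg : g ∈ H) {π : Equiv.Perm (Fin 6)} {ε : Fin 6 → Fˣ} (hv : g * D * g⁻¹ = sp π ε)
    (hπ : π ≠ 1) {U : Finset (Fin 6)} (hU : U.card = 2 ∨ U.card = 4) (hUπ : ∀ i, π i ∈ U ↔ i ∈ U) :
    ∃ σ δ, g⁻¹ * dg U * g = sp σ δ ∧ (∀ i, σ i ∈ ({4, 5} : Finset (Fin 6)) ↔ i ∈ ({4, 5} : Finset (Fin 6))) ∧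
      σ ≠ 1 ∧ σ * σ = 1 ∧ ∀ i, δ (σ i) * δ i = 1 := by
  obtain ⟨y, hy⟩ : ∃ y, y = g⁻¹ * dg U * g := ⟨_, rfl⟩
  have hyH : y ∈ H := hy ▸ mul_mem (mul_mem (inv_mem hg) (O.mem_dg (by rcases hU with e | e <;> rw [e] <;> decide))) hg
  have hcy : y * D = D * y := by
    have e : D = g⁻¹ * sp π ε * g := by rw [← hv]; group
    rw [hy, e, show g⁻¹ * dg U * g * (g⁻¹ * sp π ε * g) = g⁻¹ * (dg U * sp π ε) * g by group,
      dg_comm_sp U π ε hUπ]
    group
  obtain ⟨σ, δ, hσ⟩ := O.exists_sp hyH (mon_comm O h1 hyH hcy)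
  have hsq : y * y = 1 := by
    rw [hy, show g⁻¹ * dg U * g * (g⁻¹ * dg U * g) = g⁻¹ * (dg U * dg U) * g by group, dg_sq, mul_one, inv_mul_cancel]
  obtain ⟨hσ2, hδ⟩ := inv_sp O hσ hsq
  refine ⟨σ, δ, hy ▸ hσ, preserves O.two (hσ ▸ hcy), fun e => hπ ?_, hσ2, hδ⟩
  rw [e] at hσ
  obtain ⟨W, -, hW⟩ := exists_dg O (hσ ▸ hyH)
  have hm := mon_conj O h1 (inv_mem hg) hU (S' := W) (by rw [inv_inv, ← hy, hσ, hW])
  obtain ⟨τ, η, e'⟩ := O.exists_sp hg (inv_inv g ▸ O.mon_inv (inv_mem hg) hm)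
  rw [e', sp_inv, dg, sp_mul, sp_mul, mul_one, mul_inv_cancel] at hv
  exact (sp_inj hv).1.symm

/-- No transposition is the image of the last pair. -/
theorem no_one {g : GL₆} (hg : g ∈ H) {ε : Fin 6 → Fˣ} (hv : g * D * g⁻¹ = sp (Equiv.swap 0 1) ε)
    (h3 : ε 3 = 1) (h4 : ε 4 = 1) (h5 : ε 5 = 1) : False := by
  classical
  have hne : (Equiv.swap 0 1 : Equiv.Perm (Fin 6)) ≠ 1 := by decide
  have hgv : g * D = sp (Equiv.swap 0 1) ε * g := by rw [← hv, inv_mul_cancel_right]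
  obtain ⟨σ, δ, hσ, hσP, hσ1, hσ2, hδ⟩ := img O h1 hg hv hne (U := {3, 4}) (Or.inl (by decide)) (by decide)
  obtain ⟨τ, η, hτ, hτP, hτ1, hτ2, hη⟩ := img O h1 hg hv hne (U := {4, 5}) (Or.inl (by decide)) (by decide)
  obtain ⟨χ, ζ, hχ, hχP, hχ1, hχ2, hζ⟩ := img O h1 hg hv hne (U := {0, 1}) (Or.inl (by decide)) (by decide)
  have hmul : ∀ (U W : Finset (Fin 6)) (a b : Equiv.Perm (Fin 6)) (p r : Fin 6 → Fˣ),
      g⁻¹ * dg U * g = sp a p → g⁻¹ * dg W * g = sp b r →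
        g⁻¹ * dg (symmDiff U W) * g = sp (a * b) (fun i => p (b i) * r i) := fun U W a b p r ea eb => by
    rw [← sp_mul, ← ea, ← eb, ← dg_mul]; group
  have hcom : ∀ (U W : Finset (Fin 6)) (a b : Equiv.Perm (Fin 6)) (p r : Fin 6 → Fˣ),
      g⁻¹ * dg U * g = sp a p → g⁻¹ * dg W * g = sp b r → a * b = b * a ∧ ∀ i, p (b i) * r i = r (a i) * p i :=
    fun U W a b p r ea eb => by
      have e1 := hmul U W a b p r ea eb
      rw [symmDiff_comm, hmul W U b a r p eb ea] at e1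
      exact ⟨(sp_inj e1).1.symm, fun i => (congrFun (sp_inj e1).2 i).symm⟩
  -- the pairs among the fixed vectors give elements fixing the last two vectors
  have hfix : ∀ (U : Finset (Fin 6)) (a : Equiv.Perm (Fin 6)) (p : Fin 6 → Fˣ), U ⊆ {3, 4, 5} →
      g⁻¹ * dg U * g = sp a p → a 4 = 4 ∧ a 5 = 5 := by
    intro U a p hU e
    have hl : ∀ l : Fin 6, l = 4 ∨ l = 5 → a l = l := fun l hl => by
      obtain ⟨w, hw⟩ : ∃ w, w = (g : M₆) *ᵥ Pi.single l 1 := ⟨_, rfl⟩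
      have hvw : ((sp (Equiv.swap 0 1) ε : GL₆) : M₆) *ᵥ w = -w := by
        rw [hw, Matrix.mulVec_mulVec, ← Units.val_mul, ← hgv, Units.val_mul, ← Matrix.mulVec_mulVec, dg_single,
          Matrix.mulVec_smul]
        rcases hl with rfl | rfl <;> simp [sgn]
      have hz : ((dg U : GL₆) : M₆) *ᵥ w = w := funext fun k => by
        rw [dg_mulVec]
        split_ifs with hk
        · have hk' := hU hk
          have h := congrFun hvw k
          have hkk : (Equiv.swap (0 : Fin 6) 1).symm k = k := by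
            exact (show ∀ k : Fin 6, k ∈ ({3, 4, 5} : Finset (Fin 6)) → (Equiv.swap (0 : Fin 6) 1).symm k = k by
              decide) k hk'
          have hε : ε k = 1 := by
            simp only [Finset.mem_insert, Finset.mem_singleton] at hk'
            rcases hk' with rfl | rfl | rfl <;> assumption
          rw [sp_mulVec, hkk, hε, Units.val_one, one_mul, Pi.neg_apply] at h
          rw [h]; linear_combination h
        · rfl
      by_contra hne'
      have h := congrFun (congrArg (fun x : GL₆ => (x : M₆) *ᵥ Pi.single l 1) e) l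
      simp only [Units.val_mul, ← Matrix.mulVec_mulVec] at h
      rw [← hw, hz, hw, inv_mulVec_cancel, sp_single, Pi.single_eq_same, Pi.single_eq_of_ne (Ne.symm hne')] at h
      exact one_ne_zero h
    exact ⟨hl 4 (Or.inl rfl), hl 5 (Or.inr rfl)⟩
  obtain ⟨hσ4, hσ5⟩ := hfix _ σ δ (by decide) hσ
  obtain ⟨hτ4, hτ5⟩ := hfix _ τ η (by decide) hτ
  have hρ := hmul _ _ _ _ _ _ hσ hτ
  rw [show symmDiff ({3, 4} : Finset (Fin 6)) {4, 5} = {3, 5} by decide] at hρ
  obtain ⟨hρ4, hρ5⟩ := hfix _ _ _ (by decide) hρ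
  -- the three are conjugate by the image of a three cycle
  obtain ⟨ρ, hρdef⟩ : ∃ ρ : Equiv.Perm (Fin 6), ρ = Equiv.swap 3 4 * Equiv.swap 4 5 := ⟨_, rfl⟩
  have hρsign : Equiv.Perm.sign ρ = 1 := hρdef ▸ by decide
  have hυc : sp ρ (fun _ => 1) * sp (Equiv.swap 0 1) ε = (sp (Equiv.swap 0 1) ε * sp ρ (fun _ => 1) : GL₆) := by
    rw [sp_mul, sp_mul]
    congr 1
    · rw [hρdef]; decide
    · funext k
      rw [one_mul, mul_one, hρdef]
      revert k
      rw [Fin.forall_fin_succ, Fin.forall_fin_succ, Fin.forall_fin_succ, Fin.forall_fin_succ, Fin.forall_fin_two]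
      refine ⟨?_, ?_, ?_, ?_, ?_, ?_⟩
      all_goals first | rfl | simp [Equiv.swap_apply_def, h3, h4, h5]
  obtain ⟨υ, hυ⟩ : ∃ υ, υ = g⁻¹ * sp ρ (fun _ => 1) * g := ⟨_, rfl⟩
  have hυH : υ ∈ H := hυ ▸ mul_mem (mul_mem (inv_mem hg) (O.mem_pure hρsign)) hg
  have hυD : υ * D = D * υ := by
    have e : D = g⁻¹ * sp (Equiv.swap 0 1) ε * g := by rw [← hv]; group
    rw [hυ, e, show g⁻¹ * sp ρ (fun _ => 1) * g * (g⁻¹ * sp (Equiv.swap 0 1) ε * g) =
      g⁻¹ * (sp ρ (fun _ => 1) * sp (Equiv.swap 0 1) ε) * g by group, hυc]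
    group
  obtain ⟨s, θ, hs⟩ := O.exists_sp hυH (mon_comm O h1 hυH hυD)
  have hconj : ∀ (U W : Finset (Fin 6)) (a b : Equiv.Perm (Fin 6)) (p r : Fin 6 → Fˣ), (∀ i, ρ i ∈ W ↔ i ∈ U) →
      g⁻¹ * dg U * g = sp a p → g⁻¹ * dg W * g = sp b r → s * a = b * s := by
    intro U W a b p r h ea eb
    have e : υ * sp a p = sp b r * υ := by
      rw [hυ, ← ea, ← eb, show g⁻¹ * sp ρ (fun _ => 1) * g * (g⁻¹ * dg U * g) =
        g⁻¹ * (sp ρ (fun _ => 1) * dg U) * g by group, sp_conj_dg ρ _ h]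
      group
    rw [hs, sp_mul, sp_mul] at e
    exact (sp_inj e).1
  have hs12 := hconj _ _ _ _ _ _ (by rw [hρdef]; decide) hσ hτ
  have hs23 := hconj _ _ _ _ _ _ (by rw [hρdef]; decide) hτ hρ
  have hcard : ∀ a b : Equiv.Perm (Fin 6), s * a = b * s →
      (Finset.univ.filter fun i => a i = i).card = (Finset.univ.filter fun i => b i = i).card := fun a b e =>
    Finset.card_equiv s fun i => by
      have h := Equiv.congr_fun e i
      simp only [Equiv.Perm.mul_apply] at h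
      simp only [Finset.mem_filter, Finset.mem_univ, true_and]
      rw [← h, s.injective.eq_iff]
  have hστ := (hcom _ _ _ _ _ _ hσ hτ).1
  have hρ1 : σ * τ ≠ 1 := by
    obtain ⟨σ', δ', e, -, hne', -⟩ := img O h1 hg hv hne (U := {3, 5}) (Or.inl (by decide)) (by decide)
    intro h
    exact hne' ((sp_inj (e.symm.trans hρ)).1.trans h)
  have hneq : σ ≠ τ := fun e => hρ1 (by rw [e]; exact hτ2)
  have hmove := move_all σ hσ2 hσ4 hσ5 hσ1 τ hτ2 hτ4 hτ5 hτ1 hστ
    hneq (hcard _ _ hs12) (hcard _ _ hs23)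
  -- the sign change on the moved pair
  obtain ⟨m1, m2, m3⟩ := hmove 0 (by decide) (by decide)
  rw [Equiv.Perm.mul_apply] at m3
  have i1 : ∀ (a : Equiv.Perm (Fin 6)), a 4 = 4 → a 5 = 5 → a 0 ≠ 4 ∧ a 0 ≠ 5 := fun a e e' =>
    ⟨fun h => absurd (a.injective (h.trans e.symm)) (by decide), fun h => absurd (a.injective (h.trans e'.symm)) (by decide)⟩
  have hcomm' : ∀ x, σ (τ x) = τ (σ x) := fun x => Equiv.congr_fun hστ x
  have hσσ : ∀ x, σ (σ x) = x := fun x => Equiv.congr_fun hσ2 x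
  have hττ : ∀ x, τ (τ x) = x := fun x => Equiv.congr_fun hτ2 x
  have hcover := cover_all (σ 0) (τ 0) (σ (τ 0))
    m1 m2 m3 (fun e => m3 (by rw [← e, hσσ])) (fun e => m2 (σ.injective e).symm)
    (fun e => m1 (τ.injective (by rw [← hcomm']; exact e.symm))) (i1 σ hσ4 hσ5).1 (i1 σ hσ4 hσ5).2 (i1 τ hτ4 hτ5).1
    (i1 τ hτ4 hτ5).2 (i1 (σ * τ) hρ4 hρ5).1 (i1 (σ * τ) hρ4 hρ5).2
  obtain ⟨U, a, p, hU, ha, haf⟩ : ∃ (U : Finset (Fin 6)) (a : Equiv.Perm (Fin 6)) (p : Fin 6 → Fˣ),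
      U ∈ ({{0, 1}, {0, 1, 3, 4}, {0, 1, 4, 5}, {0, 1, 3, 5}} : Finset (Finset (Fin 6))) ∧
        g⁻¹ * dg U * g = sp a p ∧ a 0 = 0 := by
    have hχB : χ 0 ≠ 4 ∧ χ 0 ≠ 5 := by
      have h := hχP 0
      simp only [Finset.mem_insert, Finset.mem_singleton] at h
      exact ⟨fun e => absurd (h.1 (Or.inl e)) (by decide), fun e => absurd (h.1 (Or.inr e)) (by decide)⟩
    rcases hcover (χ 0) hχB.1 hχB.2 with e | e | e | e
    · exact ⟨_, _, _, by simp, hχ, e⟩
    · have h := hmul _ _ _ _ _ _ hσ hχ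
      rw [show symmDiff ({3, 4} : Finset (Fin 6)) {0, 1} = {0, 1, 3, 4} by decide] at h
      exact ⟨_, _, _, by simp, h, by rw [Equiv.Perm.mul_apply, e, hσσ]⟩
    · have h := hmul _ _ _ _ _ _ hτ hχ
      rw [show symmDiff ({4, 5} : Finset (Fin 6)) {0, 1} = {0, 1, 4, 5} by decide] at h
      exact ⟨_, _, _, by simp, h, by rw [Equiv.Perm.mul_apply, e, hττ]⟩
    · have h := hmul _ _ _ _ _ _ hρ hχ
      rw [show symmDiff ({3, 5} : Finset (Fin 6)) {0, 1} = {0, 1, 3, 5} by decide] at h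
      exact ⟨_, _, _, by simp, h, by rw [Equiv.Perm.mul_apply, e, Equiv.Perm.mul_apply, hcomm' (σ (τ 0)), hσσ, hττ]⟩
  have hUp : (U.card = 2 ∨ U.card = 4) ∧ ∀ i, Equiv.swap (0 : Fin 6) 1 i ∈ U ↔ i ∈ U := by
    exact pair_all U hU
  obtain ⟨a', p', ha', haP, ha1, ha2, hp⟩ := img O h1 hg hv hne hUp.1 hUp.2
  obtain ⟨rfl, rfl⟩ := sp_inj (ha'.symm.trans ha)
  obtain ⟨ca, da⟩ := hcom _ _ _ _ _ _ ha hσ
  obtain ⟨cb, db⟩ := hcom _ _ _ _ _ _ ha hτ
  have haσ : ∀ x, a' (σ x) = σ (a' x) := fun x => Equiv.congr_fun ca x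
  have haτ : ∀ x, a' (τ x) = τ (a' x) := fun x => Equiv.congr_fun cb x
  have haB : ∀ i, i ≠ 4 → i ≠ 5 → a' i = i := fun i h4' h5' => by
    rcases hcover i h4' h5' with rfl | rfl | rfl | rfl
    · exact haf
    · rw [haσ, haf]
    · rw [haτ, haf]
    · rw [haσ, haτ, haf]
  have ha4 : a' = Equiv.swap 4 5 := by
    have h4P := (haP 4).2 (by simp)
    have h5P := (haP 5).2 (by simp)
    simp only [Finset.mem_insert, Finset.mem_singleton] at h4P h5P
    rcases h4P with e | e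
    · refine absurd (Equiv.ext fun i => ?_) ha1
      rcases eq_or_ne i 4 with rfl | h4'
      · exact e
      rcases eq_or_ne i 5 with rfl | h5'
      · exact h5P.resolve_left fun e' => absurd (a'.injective (e'.trans e.symm)) (by decide)
      exact haB i h4' h5'
    · refine Equiv.ext fun i => ?_
      rcases eq_or_ne i 4 with rfl | h4'
      · rw [e, Equiv.swap_apply_left]
      rcases eq_or_ne i 5 with rfl | h5'
      · rw [Equiv.swap_apply_right]
        exact h5P.resolve_right fun e' => absurd (a'.injective (e'.trans e.symm)) (by decide)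
      rw [haB i h4' h5', Equiv.swap_apply_of_ne_of_ne h4' h5']
  have hconst : ∀ i, i ≠ 4 → i ≠ 5 → p' (σ i) = p' i ∧ p' (τ i) = p' i := fun i h4' h5' => by
    have e1 := da i
    have e2 := db i
    rw [haB i h4' h5', mul_comm] at e1 e2
    exact ⟨mul_left_cancel e1, mul_left_cancel e2⟩
  have hd : ∀ i, i ≠ 4 → i ≠ 5 → p' i = p' 0 := fun i h4' h5' => by
    rcases hcover i h4' h5' with rfl | rfl | rfl | rfl
    · rfl
    · exact (hconst 0 (by decide) (by decide)).1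
    · exact (hconst 0 (by decide) (by decide)).2
    · rw [(hconst (τ 0) (i1 τ hτ4 hτ5).1 (i1 τ hτ4 hτ5).2).1, (hconst 0 (by decide) (by decide)).2]
  have hmem : g⁻¹ * dg U * g ∈ H :=
    mul_mem (mul_mem (inv_mem hg) (O.mem_dg (by rcases hUp.1 with e | e <;> rw [e] <;> decide))) hg
  rw [ha] at hmem
  have hdet := O.det _ hmem
  rw [sp_val, det_spMat, ha4, Equiv.Perm.sign_swap (by decide), Fin.prod_univ_six, hd 1 (by decide) (by decide),
    hd 2 (by decide) (by decide), hd 3 (by decide) (by decide)] at hdet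
  have h45' : (p' 4 : F) * p' 5 = 1 := by
    have h := hp 5
    rw [ha4, Equiv.swap_apply_right] at h
    rw [← Units.val_mul, h, Units.val_one]
  have h00 := O.sq_of_mem hmem 0
  refine O.two ?_
  push_cast at hdet
  linear_combination -hdet - (p' 0 : F) * p' 0 * ((p' 0 : F) * p' 0) * h45' - ((p' 0 : F) * p' 0 + 1) * h00

/-- A bad image of the last pair can be relabelled. -/
theorem types {g : GL₆} (hg : g ∈ H) {π : Equiv.Perm (Fin 6)} {ε : Fin 6 → Fˣ} (hv : g * D * g⁻¹ = sp π ε)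
    (hπ : π ≠ 1) :
    (Finset.univ.filter fun i => π i ≠ i).card = 4 ∧ (∀ i, π i = i → ε i = 1) ∧
      ∃ g' ∈ H, ∃ ε', g' * D * g'⁻¹ = sp (Equiv.swap 0 1 * Equiv.swap 2 3) ε' := by
  classical
  have hvH : (sp π ε : GL₆) ∈ H := hv ▸ mul_mem (mul_mem hg (O.mem_dg (by decide))) (inv_mem hg)
  have hv2 : (sp π ε : GL₆) * sp π ε = 1 := by
    rw [← hv, show g * D * g⁻¹ * (g * D * g⁻¹) = g * (D * D) * g⁻¹ by group, dg_sq, mul_one, mul_inv_cancel]
  obtain ⟨hπ2, -⟩ := inv_sp O rfl hv2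
  have htr : ∑ i, (if π i = i then (ε i : F) else 0) = 2 := by
    have h := trace_conj g D
    rw [hv, dg, trace_sp, trace_sp] at h
    rw [h, Fin.sum_univ_six]
    simp [sgn]
    norm_num
  have hnat : ∀ {σ : Equiv.Perm (Fin 6)}, σ * σ = 1 → σ ≠ 1 →
      ∃ k, σ.cycleType = Multiset.replicate (k + 1) 2 := fun {σ} h h' => by
    have ho : orderOf σ = 2 := orderOf_eq_prime (by rw [pow_two, h]) h'
    obtain ⟨k, hk⟩ := Equiv.Perm.cycleType_prime_order (σ := σ) (by rw [ho]; exact Nat.prime_two)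
    exact ⟨k, by rw [hk, ho]⟩
  obtain ⟨k, hk⟩ := hnat hπ2 hπ
  have hsupp : π.support.card = 2 * (k + 1) := by
    rw [← Equiv.Perm.sum_cycleType, hk, Multiset.sum_replicate, smul_eq_mul, mul_comm]
  have hle : π.support.card ≤ 6 := (Finset.card_le_univ _).trans (Fintype.card_fin 6).le
  have hfs : (Finset.univ.filter fun i => π i ≠ i) = π.support := by ext i; simp [Equiv.Perm.mem_support]
  obtain ⟨π₀, hπ₀⟩ : ∃ π₀ : Equiv.Perm (Fin 6), π₀ = if k = 0 then Equiv.swap 0 1 else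
      if k = 1 then Equiv.swap 0 1 * Equiv.swap 2 3 else Equiv.swap 0 1 * Equiv.swap 2 3 * Equiv.swap 4 5 := ⟨_, rfl⟩
  have hk2 : k = 0 ∨ k = 1 ∨ k = 2 := by omega
  rcases eq_or_ne k 2 with rfl | hk2'
  · exfalso
    have hall : ∀ i, π i ≠ i := fun i => by
      have he : π.support = Finset.univ := Finset.eq_univ_of_card _ (by rw [hsupp, Fintype.card_fin])
      exact Equiv.Perm.mem_support.1 (he ▸ Finset.mem_univ i)
    rw [Finset.sum_eq_zero fun i _ => if_neg (hall i)] at htr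
    exact O.two htr.symm
  obtain ⟨c, hc, hcπ⟩ : ∃ c : Equiv.Perm (Fin 6), Equiv.Perm.sign c = 1 ∧ c * π * c⁻¹ = π₀ := by
    have h₀ : π₀ * π₀ = 1 ∧ π₀ ≠ 1 ∧ π₀.support.card = 2 * (k + 1) ∧ Equiv.swap 0 1 * π₀ = π₀ * Equiv.swap 0 1 := by
      rcases hk2 with rfl | rfl | rfl
      · rw [hπ₀, if_pos rfl]; decide +kernel
      · rw [hπ₀, if_neg one_ne_zero, if_pos rfl]; decide +kernel
      · exact absurd rfl hk2'
    obtain ⟨l, hl⟩ := hnat h₀.1 h₀.2.1
    have hls : π₀.support.card = 2 * (l + 1) := by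
      rw [← Equiv.Perm.sum_cycleType, hl, Multiset.sum_replicate, smul_eq_mul, mul_comm]
    obtain ⟨c, hc⟩ := isConj_iff.1 (Equiv.Perm.isConj_iff_cycleType_eq.2 (show π.cycleType = π₀.cycleType by
      rw [hk, hl, show l = k by have := h₀.2.2.1; omega]))
    rcases Int.units_eq_one_or (Equiv.Perm.sign c) with e | e
    · exact ⟨c, e, hc⟩
    · refine ⟨Equiv.swap 0 1 * c, by rw [map_mul, e, Equiv.Perm.sign_swap (by decide)]; rfl, ?_⟩
      rw [_root_.mul_inv_rev, show Equiv.swap 0 1 * c * π * (c⁻¹ * (Equiv.swap 0 1)⁻¹) =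
        Equiv.swap 0 1 * (c * π * c⁻¹) * (Equiv.swap 0 1)⁻¹ by group, hc, h₀.2.2.2, mul_inv_cancel_right]
  obtain ⟨m, hm⟩ : ∃ m : GL₆, m = sp c (fun _ => 1) := ⟨_, rfl⟩
  have hmH : m ∈ H := hm ▸ O.mem_pure hc
  have hv' : (m * g) * D * (m * g)⁻¹ = sp π₀ (fun i => ε (c⁻¹ i)) := by
    rw [show m * g * D * (m * g)⁻¹ = m * (g * D * g⁻¹) * m⁻¹ by group, hv, hm, sp_inv, sp_mul, sp_mul, hcπ]
    congr 1
    funext i
    simp
  have hfix : ∀ i, π i = i ↔ π₀ (c i) = c i := fun i => by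
    rw [← hcπ]
    simp
  rcases hk2 with rfl | rfl | rfl
  · -- one pair
    exfalso
    rw [hπ₀, if_pos rfl] at hv'
    obtain ⟨e, he⟩ : ∃ e : Fin 6 → Fˣ, e = fun i => ε (c⁻¹ i) := ⟨_, rfl⟩
    rw [← he] at hv'
    have heH : (sp (Equiv.swap 0 1) e : GL₆) ∈ H :=
      hv' ▸ mul_mem (mul_mem (mul_mem hmH hg) (O.mem_dg (by decide))) (inv_mem (mul_mem hmH hg))
    have hd := O.det _ heH
    have h01 : (e 0 : F) * e 1 = 1 := by
      have he2 : (sp (Equiv.swap 0 1) e : GL₆) * sp (Equiv.swap 0 1) e = 1 := by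
        rw [← hv', show m * g * D * (m * g)⁻¹ * (m * g * D * (m * g)⁻¹) = m * g * (D * D) * (m * g)⁻¹ by group, dg_sq,
          mul_one, mul_inv_cancel]
      have h := (inv_sp O rfl he2).2 1
      rw [Equiv.swap_apply_right] at h
      rw [← Units.val_mul, h, Units.val_one]
    rw [sp_val, det_spMat, Equiv.Perm.sign_swap (by decide), Fin.prod_univ_six] at hd
    push_cast at hd
    have ht : (e 2 : F) + e 3 + e 4 + e 5 = 2 := by
      have h := trace_conj (m * g) D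
      rw [hv', dg, trace_sp, trace_sp, Fin.sum_univ_six, Fin.sum_univ_six] at h
      simp [sgn, Equiv.swap_apply_def] at h
      linear_combination h
    have hp : (e 2 : F) * e 3 * e 4 * e 5 = -1 := by
      linear_combination -hd - (e 2 : F) * e 3 * e 4 * e 5 * h01
    have h2 := O.two
    have h4 : (4 : F) ≠ 0 := fun h => h2 (mul_self_eq_zero.1 (by linear_combination h))
    have hu : ∀ i, (e i : F) = 1 ∨ (e i : F) = -1 := fun i => mul_self_eq_one_iff.1 (O.sq_of_mem heH i)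
    obtain ⟨l, hl, hl1⟩ : ∃ l : Fin 6, l ∈ ({2, 3, 4, 5} : Finset (Fin 6)) ∧
        ∀ i ∈ ({2, 3, 4, 5} : Finset (Fin 6)), i ≠ l → e i = 1 := by
      have hu' : ∀ i, (e i : F) = 1 → e i = 1 := fun i h => Units.ext h
      rcases hu 2 with a | a <;> rcases hu 3 with b | b <;> rcases hu 4 with c' | c' <;> rcases hu 5 with d | d <;>
        rw [a, b, c', d] at ht hp <;> first
        | exact absurd (show (4 : F) = 0 by linear_combination -ht) h4
        | exact absurd (show (4 : F) = 0 by linear_combination ht) h4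
        | exact absurd (show (2 : F) = 0 by linear_combination hp) h2
        | exact absurd (show (2 : F) = 0 by linear_combination -hp) h2
        | (refine ⟨2, by simp, fun i hi hne => ?_⟩
           fin_cases hi <;> first | exact absurd rfl hne | (apply hu'; assumption))
        | (refine ⟨3, by simp, fun i hi hne => ?_⟩
           fin_cases hi <;> first | exact absurd rfl hne | (apply hu'; assumption))
        | (refine ⟨4, by simp, fun i hi hne => ?_⟩
           fin_cases hi <;> first | exact absurd rfl hne | (apply hu'; assumption))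
        | (refine ⟨5, by simp, fun i hi hne => ?_⟩
           fin_cases hi <;> first | exact absurd rfl hne | (apply hu'; assumption))
    obtain ⟨r, hr, hrc, hr2⟩ : ∃ r : Equiv.Perm (Fin 6), Equiv.Perm.sign r = 1 ∧
        r * Equiv.swap 0 1 * r⁻¹ = Equiv.swap 0 1 ∧
          ∀ i ∈ ({3, 4, 5} : Finset (Fin 6)), r⁻¹ i ∈ ({2, 3, 4, 5} : Finset (Fin 6)) ∧ r⁻¹ i ≠ l := by
      exact ⟨_, rot_all l hl _ rfl⟩
    have hr' : (sp r (fun _ => 1) * (m * g)) * D * (sp r (fun _ => 1) * (m * g))⁻¹ =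
        sp (Equiv.swap 0 1) (fun i => e (r⁻¹ i)) := by
      rw [show sp r (fun _ => 1) * (m * g) * D * (sp r (fun _ => 1) * (m * g))⁻¹ =
        sp r (fun _ => 1) * (m * g * D * (m * g)⁻¹) * (sp r (fun _ => 1))⁻¹ by group, hv', sp_inv, sp_mul, sp_mul, hrc]
      congr 1
      funext i
      simp
    exact no_one O h1 (mul_mem (O.mem_pure hr) (mul_mem hmH hg)) hr'
      (hl1 _ (hr2 3 (by simp)).1 (hr2 3 (by simp)).2) (hl1 _ (hr2 4 (by simp)).1 (hr2 4 (by simp)).2)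
      (hl1 _ (hr2 5 (by simp)).1 (hr2 5 (by simp)).2)
  · -- two pairs
    refine ⟨by rw [hfs, hsupp], fun i hi => ?_, m * g, mul_mem hmH hg, _, by rw [hv', hπ₀, if_neg one_ne_zero, if_pos rfl]⟩
    obtain ⟨j, hj, hji, hsum⟩ : ∃ j, π j = j ∧ j ≠ i ∧ ∀ l, π l = l → l = i ∨ l = j := by
      obtain ⟨Q, hQ⟩ : ∃ Q, Q = Finset.univ.filter fun l => π l = l := ⟨_, rfl⟩
      have hQc : Q.card = 2 := by
        have h' : Q = π.supportᶜ := by rw [hQ]; ext l; simp [Equiv.Perm.mem_support]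
        rw [h', Finset.card_compl, hsupp, Fintype.card_fin]
      obtain ⟨x, y, hxy, hQe⟩ := Finset.card_eq_two.1 hQc
      have hmem : ∀ l, π l = l ↔ l = x ∨ l = y := fun l => by
        have := congrArg (l ∈ ·) hQe; simpa [hQ] using this
      rcases (hmem i).1 hi with rfl | rfl
      · exact ⟨y, (hmem y).2 (Or.inr rfl), Ne.symm hxy, fun l hl => (hmem l).1 hl⟩
      · exact ⟨x, (hmem x).2 (Or.inl rfl), hxy, fun l hl => ((hmem l).1 hl).symm⟩
    rw [Finset.sum_eq_add i j (Ne.symm hji) (fun l _ hl => if_neg fun e => by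
      rcases hsum l e with h | h
      · exact hl.1 h
      · exact hl.2 h) (by simp) (by simp), if_pos hi, if_pos hj] at htr
    have h2 := O.two
    have h4 : (4 : F) ≠ 0 := fun h => h2 (mul_self_eq_zero.1 (by linear_combination h))
    rcases O.unit_of_mem hvH i with e | e
    · exact e
    · exfalso
      rw [e, Units.val_neg, Units.val_one] at htr
      rcases O.unit_of_mem hvH j with e' | e' <;> rw [e'] at htr
      · exact h2 (by rw [Units.val_one] at htr; linear_combination -htr)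
      · exact h4 (by rw [Units.val_neg, Units.val_one] at htr; linear_combination -htr)
  · exact absurd rfl hk2'

/-- The image of the last pair is never off the diagonal. -/
theorem no_bad {g : GL₆} (hg : g ∈ H) {π : Equiv.Perm (Fin 6)} {ε : Fin 6 → Fˣ} (hv : g * D * g⁻¹ = sp π ε) :
    π = 1 := by
  classical
  by_contra hπ
  obtain ⟨-, -, g', hg', ε', hv'⟩ := types O h1 hg hv hπ
  clear hπ hv hg g π ε
  have hne : (Equiv.swap 0 1 * Equiv.swap 2 3 : Equiv.Perm (Fin 6)) ≠ 1 := by decide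
  obtain ⟨π, hπdef⟩ : ∃ π : Equiv.Perm (Fin 6), π = Equiv.swap 0 1 * Equiv.swap 2 3 := ⟨_, rfl⟩
  rw [← hπdef] at hv' hne
  obtain ⟨-, hfix1, -⟩ := types O h1 hg' hv' hne
  have hgv : g' * D = sp π ε' * g' := by rw [← hv', inv_mul_cancel_right]
  have htwo : ∀ U : Finset (Fin 6), U.card = 2 → (∀ i, π i ∈ U ↔ i ∈ U) → ∃ σ δ, g'⁻¹ * dg U * g' = sp σ δ ∧
      (∀ i, σ i ∈ ({4, 5} : Finset (Fin 6)) ↔ i ∈ ({4, 5} : Finset (Fin 6))) ∧ σ * σ = 1 ∧
        (∀ i, δ (σ i) * δ i = 1) ∧ (Finset.univ.filter fun i => σ i ≠ i).card = 4 ∧ ∀ i, σ i = i → δ i = 1 := by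
    intro U hU hUπ
    obtain ⟨σ, δ, hσ, hσP, hσ1, hσ2, hδ⟩ := img O h1 hg' hv' hne (Or.inl hU) hUπ
    obtain ⟨m, hmH, -, hm⟩ := exists_move O hU
    have h : (g'⁻¹ * m) * D * (g'⁻¹ * m)⁻¹ = sp σ δ := by
      rw [show g'⁻¹ * m * D * (g'⁻¹ * m)⁻¹ = g'⁻¹ * (m * D * m⁻¹) * g' by group, hm, mul_inv_cancel_right, hσ]
    obtain ⟨hc4, hfx, -⟩ := types O h1 (mul_mem (inv_mem hg') hmH) h hσ1
    exact ⟨σ, δ, hσ, hσP, hσ2, hδ, hc4, hfx⟩
  obtain ⟨σ, δ, hσ, hσP, hσ2, hδ, hσc, hσf⟩ := htwo {0, 1} (by decide) (hπdef ▸ by decide)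
  obtain ⟨τ, η, hτ, hτP, hτ2, hη, hτc, hτf⟩ := htwo {4, 5} (by decide) (hπdef ▸ by decide)
  have hσσ : ∀ x, σ (σ x) = x := fun x => Equiv.congr_fun hσ2 x
  have hττ : ∀ x, τ (τ x) = x := fun x => Equiv.congr_fun hτ2 x
  -- `τ` fixes the last two vectors
  have hτl : ∀ l : Fin 6, l = 4 ∨ l = 5 → τ l = l := fun l hl => by
    obtain ⟨w, hw⟩ : ∃ w, w = (g' : M₆) *ᵥ Pi.single l 1 := ⟨_, rfl⟩
    have hvw : ((sp π ε' : GL₆) : M₆) *ᵥ w = -w := by
      rw [hw, Matrix.mulVec_mulVec, ← Units.val_mul, ← hgv, Units.val_mul, ← Matrix.mulVec_mulVec, dg_single,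
        Matrix.mulVec_smul]
      rcases hl with rfl | rfl <;> simp [sgn]
    have hz : ((D : GL₆) : M₆) *ᵥ w = w := funext fun k => by
      rw [dg_mulVec]
      split_ifs with hk
      · have hkk : π k = k := by
          simp only [Finset.mem_insert, Finset.mem_singleton] at hk
          rcases hk with rfl | rfl <;> rw [hπdef] <;> decide
        have h := congrFun hvw k
        rw [sp_mulVec, show π.symm k = k from (Equiv.symm_apply_eq π).2 hkk.symm, hfix1 k hkk, Units.val_one, one_mul,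
          Pi.neg_apply] at h
        linear_combination -2 * 0 * h - h
      · rfl
    by_contra hne'
    have h := congrFun (congrArg (fun x : GL₆ => (x : M₆) *ᵥ Pi.single l 1) hτ) l
    simp only [Units.val_mul, ← Matrix.mulVec_mulVec] at h
    rw [← hw, hz, hw, inv_mulVec_cancel, sp_single, Pi.single_eq_same, Pi.single_eq_of_ne (Ne.symm hne')] at h
    exact one_ne_zero h
  have hτ4 := hτl 4 (Or.inl rfl)
  have hτ5 := hτl 5 (Or.inr rfl)
  have hτB : ∀ i, i ≠ 4 → i ≠ 5 → τ i ≠ i := fun i h4 h5 e => by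
    have hsub : (Finset.univ.filter fun l => τ l ≠ l) ⊆ ({4, 5, i} : Finset (Fin 6))ᶜ := fun l hl => by
      simp only [Finset.mem_filter, Finset.mem_univ, true_and] at hl
      simp only [Finset.mem_compl, Finset.mem_insert, Finset.mem_singleton]
      rintro (rfl | rfl | rfl)
      exacts [hl hτ4, hl hτ5, hl e]
    have := Finset.card_le_card hsub
    rw [hτc, Finset.card_compl, Fintype.card_fin, show ({4, 5, i} : Finset (Fin 6)).card = 3 by
      simp [Finset.card_insert_of_notMem, Ne.symm h4, Ne.symm h5]] at this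
    omega
  -- `σ` exchanges the last two
  have hσ45 : σ 4 = 5 := by
    have h := (hσP 4).2 (by simp)
    simp only [Finset.mem_insert, Finset.mem_singleton] at h
    refine h.resolve_left fun e4 => ?_
    have h' := (hσP 5).2 (by simp)
    simp only [Finset.mem_insert, Finset.mem_singleton] at h'
    have e5 : σ 5 = 5 := h'.resolve_left fun e => absurd (σ.injective (e.trans e4.symm)) (by decide)
    obtain ⟨n, hn⟩ : ∃ n : V₆, n = Pi.single 0 1 - (ε' 0 : F) • Pi.single 1 1 := ⟨_, rfl⟩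
    have hvn : ((sp π ε' : GL₆) : M₆) *ᵥ n = -n := by
      have h01 : (ε' 1 : F) * ε' 0 = 1 := by
        have hv2 : (sp π ε' : GL₆) * sp π ε' = 1 := by
          rw [← hv', show g' * D * g'⁻¹ * (g' * D * g'⁻¹) = g' * (D * D) * g'⁻¹ by group, dg_sq, mul_one, mul_inv_cancel]
        have h := (inv_sp O rfl hv2).2 0
        rw [show π 0 = 1 by rw [hπdef]; decide] at h
        rw [← Units.val_mul, h, Units.val_one]
      rw [hn, Matrix.mulVec_sub, Matrix.mulVec_smul, sp_single, sp_single, show π 0 = 1 by rw [hπdef]; decide,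
        show π 1 = 0 by rw [hπdef]; decide]
      funext k
      rcases eq_or_ne k 0 with rfl | h0
      · simp; linear_combination h01
      rcases eq_or_ne k 1 with rfl | h1'
      · simp
      simp [Pi.single_eq_of_ne h0, Pi.single_eq_of_ne h1']
    obtain ⟨x, hx⟩ : ∃ x, x = ((g'⁻¹ : GL₆) : M₆) *ᵥ n := ⟨_, rfl⟩
    have hgx : (g' : M₆) *ᵥ x = n := by rw [hx, mulVec_inv_cancel]
    have hDx : ((D : GL₆) : M₆) *ᵥ x = -x := gl_mulVec_injective g' (by
      show (g' : M₆) *ᵥ _ = (g' : M₆) *ᵥ _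
      rw [Matrix.mulVec_mulVec, ← Units.val_mul, hgv, Units.val_mul, ← Matrix.mulVec_mulVec, hgx, hvn,
        Matrix.mulVec_neg, hgx])
    have hx0 : ∀ k, k ≠ 4 → k ≠ 5 → x k = 0 := fun k h4 h5 => by
      have h := congrFun hDx k
      rw [dg_mulVec, if_neg (by simp [h4, h5]), Pi.neg_apply] at h
      exact (mul_eq_zero.1 (by linear_combination h : (2 : F) * x k = 0)).resolve_left O.two
    have hyx : ((sp σ δ : GL₆) : M₆) *ᵥ x = x := funext fun k => by
      rw [sp_mulVec]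
      rcases eq_or_ne k 4 with rfl | h4
      · rw [show σ.symm 4 = 4 from (Equiv.symm_apply_eq σ).2 e4.symm, hσf 4 e4]; simp
      rcases eq_or_ne k 5 with rfl | h5
      · rw [show σ.symm 5 = 5 from (Equiv.symm_apply_eq σ).2 e5.symm, hσf 5 e5]; simp
      have h4' : σ.symm k ≠ 4 := fun e => h4 (by rw [← Equiv.apply_symm_apply σ k, e, e4])
      have h5' : σ.symm k ≠ 5 := fun e => h5 (by rw [← Equiv.apply_symm_apply σ k, e, e5])
      rw [hx0 k h4 h5, hx0 _ h4' h5', mul_zero]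
    have hfin := congrArg (fun y : V₆ => ((g' : M₆) *ᵥ y) 0) hyx
    simp only [← hσ, Units.val_mul, ← Matrix.mulVec_mulVec, mulVec_inv_cancel, hgx] at hfin
    rw [dg_mulVec, if_pos (by simp), hn] at hfin
    simp at hfin
    exact O.two (by linear_combination -hfin)
  have hσ54 : σ 5 = 4 := by rw [← hσ45, hσσ]
  obtain ⟨x, hx4, hx5, hxm⟩ : ∃ x, x ≠ 4 ∧ x ≠ 5 ∧ σ x ≠ x := by
    by_contra hcon
    push Not at hcon
    have hsub : (Finset.univ.filter fun l => σ l ≠ l) ⊆ ({4, 5} : Finset (Fin 6)) := fun l hl => by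
      simp only [Finset.mem_filter, Finset.mem_univ, true_and] at hl
      simp only [Finset.mem_insert, Finset.mem_singleton]
      by_contra h
      push Not at h
      exact hl (hcon l h.1 h.2)
    have h1' := Finset.card_le_card hsub
    have h2' : ({4, 5} : Finset (Fin 6)).card = 2 := by decide
    rw [hσc, h2'] at h1'
    omega
  have hcomm : σ * τ = τ * σ := by
    have e : sp σ δ * sp τ η = (sp τ η * sp σ δ : GL₆) := by
      rw [← hσ, ← hτ, show g'⁻¹ * dg {0, 1} * g' * (g'⁻¹ * dg {4, 5} * g') = g'⁻¹ * (dg {0, 1} * dg {4, 5}) * g' by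
        group, dg_comm]
      group
    rw [sp_mul, sp_mul] at e
    exact (sp_inj e).1
  have hx4' : σ x ≠ 4 := fun e => hx5 (σ.injective (e.trans hσ54.symm))
  have hx5' : σ x ≠ 5 := fun e => hx4 (σ.injective (e.trans hσ45.symm))
  have hτσ : τ x = σ x := by
    have hset : (Finset.univ.filter fun l => σ l ≠ l) = ({4, 5, x, σ x} : Finset (Fin 6)) :=
      (Finset.eq_of_subset_of_card_le (fun l hl => by
        simp only [Finset.mem_insert, Finset.mem_singleton] at hl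
        simp only [Finset.mem_filter, Finset.mem_univ, true_and]
        rcases hl with rfl | rfl | rfl | rfl
        · rw [hσ45]; decide
        · rw [hσ54]; decide
        · exact hxm
        · rw [hσσ]; exact hxm.symm) (by
        rw [hσc, show ({4, 5, x, σ x} : Finset (Fin 6)).card = 4 by
          simp [Finset.card_insert_of_notMem, Ne.symm hx4, Ne.symm hx5, Ne.symm hx4', Ne.symm hx5', Ne.symm hxm]])).symm
    have hmem : τ x ∈ Finset.univ.filter fun l => σ l ≠ l := by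
      simp only [Finset.mem_filter, Finset.mem_univ, true_and]
      have e : σ (τ x) = τ (σ x) := Equiv.congr_fun hcomm x
      rw [e]
      exact fun h => hxm (τ.injective h)
    rw [hset] at hmem
    simp only [Finset.mem_insert, Finset.mem_singleton] at hmem
    rcases hmem with e | e | e | e
    · exact absurd (τ.injective (e.trans hτ4.symm)) hx4
    · exact absurd (τ.injective (e.trans hτ5.symm)) hx5
    · exact absurd e (hτB x hx4 hx5)
    · exact e
  -- the element exchanging the two pairs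
  obtain ⟨ρ, hρdef⟩ : ∃ ρ : Equiv.Perm (Fin 6), ρ = Equiv.swap 0 2 * Equiv.swap 1 3 := ⟨_, rfl⟩
  have hv'H : (sp π ε' : GL₆) ∈ H := hv' ▸ mul_mem (mul_mem hg' (O.mem_dg (by decide))) (inv_mem hg')
  have hεp : ε' 1 = ε' 0 ∧ ε' 3 = ε' 2 := by
    have hv2 : (sp π ε' : GL₆) * sp π ε' = 1 := by
      rw [← hv', show g' * D * g'⁻¹ * (g' * D * g'⁻¹) = g' * (D * D) * g'⁻¹ by group, dg_sq, mul_one, mul_inv_cancel]
    have h := (inv_sp O rfl hv2).2
    have hsq : ∀ l, ε' l * ε' l = 1 := fun l => Units.ext (O.sq_of_mem hv'H l)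
    refine ⟨?_, ?_⟩
    · have := h 0; rw [show π 0 = 1 by rw [hπdef]; decide] at this
      exact mul_right_cancel (this.trans (hsq 0).symm)
    · have := h 2; rw [show π 2 = 3 by rw [hπdef]; decide] at this
      exact mul_right_cancel (this.trans (hsq 2).symm)
  obtain ⟨S, hSe, hS⟩ : ∃ S : Finset (Fin 6), Even S.card ∧
      sp ρ (sgn F S) * sp π ε' = (sp π ε' * sp ρ (sgn F S) : GL₆) ∧
        ∀ k, k = 4 ∨ k = 5 → k ∉ S := by
    have hf : π 4 = 4 ∧ π 5 = 5 := by rw [hπdef]; decide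
    have h4 := hfix1 4 hf.1
    have h5 := hfix1 5 hf.2
    refine ⟨if ε' 0 = ε' 2 then ∅ else {1, 3}, ?_, ?_, ?_⟩
    · split_ifs <;> decide
    · rw [sp_mul, sp_mul]
      congr 1
      · rw [hπdef, hρdef]; decide
      · funext k
        have hu : ∀ l, ε' l = 1 ∨ ε' l = -1 := O.unit_of_mem hv'H
        have hne := neg_one_ne O.two
        rw [hπdef, hρdef]
        rcases hu 0 with a | a <;> rcases hu 2 with b | b <;>
          simp only [a, b, hne, hne.symm, if_true, if_false] <;> fin_cases k <;>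
            simp [sgn, Equiv.swap_apply_def, a, b, hεp.1, hεp.2, h4, h5]
    · intro k hk; split_ifs <;> rcases hk with rfl | rfl <;> simp
  obtain ⟨υ, hυ⟩ : ∃ υ, υ = g'⁻¹ * sp ρ (sgn F S) * g' := ⟨_, rfl⟩
  have hρsign : Equiv.Perm.sign ρ = 1 := hρdef ▸ by decide
  have hυH : υ ∈ H := hυ ▸ mul_mem (mul_mem (inv_mem hg') (O.mem_sp hρsign hSe)) hg'
  have hυD : υ * D = D * υ := by
    have e : D = g'⁻¹ * sp π ε' * g' := by rw [← hv']; group
    rw [hυ, e, show g'⁻¹ * sp ρ (sgn F S) * g' * (g'⁻¹ * sp π ε' * g') =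
      g'⁻¹ * (sp ρ (sgn F S) * sp π ε') * g' by group, hS.1]
    group
  obtain ⟨s, θ, hs⟩ := O.exists_sp hυH (mon_comm O h1 hυH hυD)
  have hconj : s * σ = σ * τ * s := by
    have e : υ * sp σ δ = dg Finset.univ * (sp σ δ * sp τ η * υ) := by
      have h23 : (dg {2, 3} : GL₆) = dg Finset.univ * (dg {0, 1} * D) := by
        rw [dg_mul, ← dg_compl]; congr 1
      have hc : sp ρ (sgn F S) * dg {0, 1} = (dg {2, 3} * sp ρ (sgn F S) : GL₆) :=
        sp_conj_dg ρ _ (by rw [hρdef]; decide)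
      rw [hυ, ← hσ, ← hτ, show g'⁻¹ * sp ρ (sgn F S) * g' * (g'⁻¹ * dg {0, 1} * g') =
        g'⁻¹ * (sp ρ (sgn F S) * dg {0, 1}) * g' by group, hc, h23, ← mul_assoc g'⁻¹, ← mul_assoc g'⁻¹,
        dg_univ_comm g'⁻¹]
      group
    rw [hs, dg, sp_mul, sp_mul, sp_mul, sp_mul, one_mul] at e
    exact (sp_inj e).1
  -- the exchanging element respects the pairs of `τ`
  obtain ⟨ξ, hξ⟩ : ∃ ξ : V₆, ξ = Pi.single x 1 - Pi.single (τ x) (η x : F) := ⟨_, rfl⟩
  have hτξ : ((sp τ η : GL₆) : M₆) *ᵥ ξ = -ξ := by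
    have hη' : (η (τ x) : F) * η x = 1 := by rw [← Units.val_mul, hη x, Units.val_one]
    rw [hξ, Matrix.mulVec_sub, sp_single, show Pi.single (τ x) (η x : F) = (η x : F) • Pi.single (τ x) (1 : F) by
      rw [← Pi.single_smul, smul_eq_mul, mul_one], Matrix.mulVec_smul, sp_single, hττ, ← Pi.single_smul,
      ← Pi.single_smul, smul_eq_mul, smul_eq_mul, mul_one, mul_comm (η x : F) (η (τ x) : F), hη', neg_sub]
  obtain ⟨ζ, hζ⟩ : ∃ ζ, ζ = (g' : M₆) *ᵥ ξ := ⟨_, rfl⟩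
  have hζ0 : ∀ k, k ≠ 4 → k ≠ 5 → ζ k = 0 := fun k h4 h5 => by
    have h := congrArg (fun y : V₆ => ((g' : M₆) *ᵥ y) k) hτξ
    simp only [← hτ, Units.val_mul, ← Matrix.mulVec_mulVec, mulVec_inv_cancel, Matrix.mulVec_neg, ← hζ,
      Pi.neg_apply] at h
    rw [dg_mulVec, if_neg (by simp [h4, h5])] at h
    exact (mul_eq_zero.1 (by linear_combination h : (2 : F) * ζ k = 0)).resolve_left O.two
  have hυζ : ((sp ρ (sgn F S) : GL₆) : M₆) *ᵥ ζ = ζ := funext fun k => by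
    rw [sp_mulVec]
    rcases eq_or_ne k 4 with rfl | h4
    · rw [show ρ.symm 4 = 4 by rw [hρdef]; decide, show sgn F S 4 = 1 from if_neg (hS.2 4 (Or.inl rfl))]; simp
    rcases eq_or_ne k 5 with rfl | h5
    · rw [show ρ.symm 5 = 5 by rw [hρdef]; decide, show sgn F S 5 = 1 from if_neg (hS.2 5 (Or.inr rfl))]; simp
    have hk' : ρ.symm k ≠ 4 ∧ ρ.symm k ≠ 5 := by
      rw [hρdef]; revert h4 h5; revert k; decide
    rw [hζ0 k h4 h5, hζ0 _ hk'.1 hk'.2, mul_zero]
  have hsξ : ((sp s θ : GL₆) : M₆) *ᵥ ξ = ξ := by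
    rw [← hs, hυ, Units.val_mul, Units.val_mul, ← Matrix.mulVec_mulVec, ← Matrix.mulVec_mulVec, ← hζ, hυζ, hζ,
      inv_mulVec_cancel]
  have hsx : s x = x ∨ s x = τ x := by
    by_contra h
    push Not at h
    have h' := congrFun hsξ (s x)
    rw [sp_mulVec, Equiv.symm_apply_apply, hξ] at h'
    simp [Pi.single_eq_of_ne h.1, Pi.single_eq_of_ne h.2, Pi.single_eq_of_ne (Ne.symm (hτB x hx4 hx5))] at h'
  have h := Equiv.congr_fun hconj x
  simp only [Equiv.Perm.mul_apply] at h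
  have hfin : σ (τ (s x)) = s x := by
    rcases hsx with e | e <;> rw [e]
    · rw [hτσ, hσσ]
    · rw [hττ, hτσ]
  rw [hfin, ← hτσ] at h
  exact hτB x hx4 hx5 (s.injective h)

/-- A monomial conjugate of a sign change comes from a monomial element. -/
theorem conj_mon {g : GL₆} (hg : g ∈ H) {S : Finset (Fin 6)} (hS : S.card = 2 ∨ S.card = 4)
    (h : Mon (g * dg S * g⁻¹)) : Mon g := by
  classical
  suffices hmain : ∀ S : Finset (Fin 6), S.card = 2 → Mon (g * dg S * g⁻¹) → Mon g by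
    rcases hS with hS | hS
    · exact hmain S hS h
    · refine hmain Sᶜ (by rw [Finset.card_compl, hS]; rfl) ?_
      rw [dg_compl, ← mul_assoc, dg_univ_comm, mul_assoc (dg Finset.univ) g, mul_assoc (dg Finset.univ)]
      exact (mon_sp _ _ : Mon (dg Finset.univ : GL₆)).mul h
  intro S hS h
  obtain ⟨m, hm, -, e⟩ := exists_move O hS
  have hmem := mul_mem (mul_mem hg (O.mem_dg (S := S) (by rw [hS]; decide))) (inv_mem hg)
  obtain ⟨π, ε, e'⟩ := O.exists_sp hmem h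
  have hπ := no_bad O h1 (mul_mem hg hm) (π := π) (ε := ε) (by
    rw [show g * m * D * (g * m)⁻¹ = g * (m * D * m⁻¹) * g⁻¹ by group, e, mul_inv_cancel_right, e'])
  rw [e', hπ] at hmem
  obtain ⟨W, -, hW⟩ := exists_dg O hmem
  exact mon_conj O h1 hg (Or.inl hS) (S' := W) (by rw [e', hπ, hW])

/-- Sign changes centralised by non-monomial elements are trivial. -/
theorem mon_comm' {g : GL₆} (hg : g ∈ H) {W : Finset (Fin 6)} (hW : W.card = 2 ∨ W.card = 4)
    (h : g * dg W = dg W * g) : Mon g :=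
  mon_conj O h1 hg hW (S' := W) (by rw [h, mul_inv_cancel_right])

omit h1 in
theorem card_cases {W : Finset (Fin 6)} (hW : Even W.card) (h0 : (dg W : GL₆) ≠ 1)
    (hu : (dg W : GL₆) ≠ dg Finset.univ) : W.card = 2 ∨ W.card = 4 := by
  have hle := Finset.card_le_univ W
  rw [Fintype.card_fin] at hle
  have h0' : W.card ≠ 0 := fun e => h0 (by rw [Finset.card_eq_zero.1 e, dg_empty])
  have h6' : W.card ≠ 6 := fun e => hu (by rw [Finset.eq_univ_of_card W (by rw [e, Fintype.card_fin])])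
  obtain ⟨r, hr⟩ := hW
  omega

/-- Every element is monomial. -/
theorem all_mon : ∀ g ∈ H, Mon g := by
  classical
  intro g hg
  by_contra hgm
  have hDH : D ∈ H := O.mem_dg (by decide)
  obtain ⟨π₀, hπ₀⟩ : ∃ π₀ : Equiv.Perm (Fin 6), π₀ = Equiv.swap 0 1 * Equiv.swap 2 3 := ⟨_, rfl⟩
  obtain ⟨u, hu⟩ : ∃ u : GL₆, u = sp π₀ (fun _ => 1) := ⟨_, rfl⟩
  have hπ₀ne : π₀ ≠ 1 := hπ₀ ▸ by decide
  have hπ₀2 : π₀ * π₀ = 1 := hπ₀ ▸ by decide
  have huH : u ∈ H := hu ▸ O.mem_pure (hπ₀ ▸ by decide)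
  have hu2 : u * u = 1 := by rw [hu, sp_mul, hπ₀2]; simp [sp_one]
  have hne0 : ∀ f ∈ H, f * D * f⁻¹ ≠ u := fun f hf e => hπ₀ne (no_bad O h1 hf (e.trans hu))
  have hneg : ∀ f : GL₆, finrank F (negSp (f * D * f⁻¹)) = 2 := fun f => by
    rw [finrank_negSp_conj, finrank_negSp_dg O.two]; rfl
  have hquad : ∀ f : GL₆, finrank F (negSp (f * D * f⁻¹ * dg Finset.univ)) = 4 := fun f => by
    rw [mul_assoc, dg_univ_comm, ← mul_assoc, mul_assoc f, show D * dg Finset.univ = (dg ({4, 5}ᶜ : Finset (Fin 6)) : GL₆)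
      by rw [dg_univ_comm, dg_compl], finrank_negSp_conj, finrank_negSp_dg O.two]
    rfl
  obtain ⟨x, hx⟩ : ∃ x, x = g * D * g⁻¹ := ⟨_, rfl⟩
  have hxH : x ∈ H := hx ▸ mul_mem (mul_mem hg hDH) (inv_mem hg)
  have hx2 : x * x = 1 := by
    rw [hx, show g * D * g⁻¹ * (g * D * g⁻¹) = g * (D * D) * g⁻¹ by group, dg_sq, mul_one, mul_inv_cancel]
  have hpow : ∀ l : ℕ, (u * x) ^ l ∈ H := fun l => pow_mem (mul_mem huH hxH) l
  obtain ⟨y, h, δ, hyH, hy, hy2, hhH, hhM, hyh⟩ : ∃ (y h : GL₆) (δ : Fin 6 → Fˣ), y ∈ H ∧ y = sp π₀ δ ∧ y * y = 1 ∧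
      h ∈ H ∧ ¬ Mon h ∧ Mon (h⁻¹ * y * h) := by
    rcases CliffordTwo.dihedral_cases hu2 hx2 with ⟨l, hl⟩ | ⟨n, hz1, hz2, hzu, hzx, hcase⟩
    · exfalso
      refine hne0 (((u * x) ^ l)⁻¹ * g) (mul_mem (inv_mem (hpow l)) hg) ?_
      rw [show ((u * x) ^ l)⁻¹ * g * D * (((u * x) ^ l)⁻¹ * g)⁻¹ = ((u * x) ^ l)⁻¹ * (g * D * g⁻¹) * (u * x) ^ l by
        group, ← hx]
      conv_lhs => arg 1; arg 2; rw [hl]
      group
    obtain ⟨z, hz⟩ : ∃ z, z = (u * x) ^ n := ⟨_, rfl⟩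
    rw [← hz] at hz1 hz2 hzu hzx hcase
    have hzH : z ∈ H := hz ▸ hpow n
    have hgz : Mon (g⁻¹ * z * g) := mon_comm O h1 (mul_mem (mul_mem (inv_mem hg) hzH) hg) (by
      have h1' := congrArg (fun w => g⁻¹ * w * g) hzx
      simpa [hx, mul_assoc] using h1')
    have key : ∀ f ∈ H, f * D * f⁻¹ * u = u * (f * D * f⁻¹) → Mon (f⁻¹ * u * f) := fun f hf hc =>
      mon_comm O h1 (mul_mem (mul_mem (inv_mem hf) huH) hf) (by
        have h1' := congrArg (fun w => f⁻¹ * w * f) hc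
        simpa [mul_assoc] using h1'.symm)
    rcases hcase with ⟨l, -, hl⟩ | ⟨l, hl⟩
    · -- the labelled element times the central involution is conjugate to it
      obtain ⟨f, hf⟩ : ∃ f, f = (u * x) ^ l * g := ⟨_, rfl⟩
      have hfH : f ∈ H := hf ▸ mul_mem (hpow l) hg
      have hxz : x * z = f * D * f⁻¹ := by rw [hl, hf, hx]; group
      have hzne : z ≠ dg Finset.univ := fun e => by
        have h' := hneg f
        rw [← hxz, e, hx, hquad] at h'
        omega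
      have hDm : Mon ((g⁻¹ * f) * D * (g⁻¹ * f)⁻¹) := by
        rw [show g⁻¹ * f * D * (g⁻¹ * f)⁻¹ = g⁻¹ * (f * D * f⁻¹) * g by group, ← hxz, hx,
          show g⁻¹ * (g * D * g⁻¹ * z) * g = D * (g⁻¹ * z * g) by group]
        exact (mon_sp _ _ : Mon D).mul hgz
      obtain ⟨π, ε, e⟩ := O.exists_sp (mul_mem (mul_mem (mul_mem (inv_mem hg) hfH) hDH)
        (inv_mem (mul_mem (inv_mem hg) hfH))) hDm
      have hπ := no_bad O h1 (mul_mem (inv_mem hg) hfH) e
      rw [hπ] at e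
      have hz' : g⁻¹ * z * g = D * sp 1 ε := by
        rw [← e, show g⁻¹ * f * D * (g⁻¹ * f)⁻¹ = g⁻¹ * (f * D * f⁻¹) * g by group, ← hxz, hx,
          show g⁻¹ * (g * D * g⁻¹ * z) * g = D * (g⁻¹ * z * g) by group, ← mul_assoc, dg_sq, one_mul]
      rw [dg, sp_mul, mul_one] at hz'
      obtain ⟨W, hWe, hW⟩ := exists_dg O (hz' ▸ mul_mem (mul_mem (inv_mem hg) hzH) hg)
      rw [hW] at hz'
      have hzW : z = g * dg W * g⁻¹ := by rw [← hz']; group
      have hWc := card_cases O hWe (fun e' => hz1 (by rw [hzW, e', mul_one, mul_inv_cancel]))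
        (fun e' => hzne (by rw [hzW, e', dg_univ_comm, mul_inv_cancel_right]))
      refine ⟨u, g, fun _ => 1, huH, hu, hu2, hg, hgm, mon_comm' O h1 (mul_mem (mul_mem (inv_mem hg) huH) hg) hWc ?_⟩
      rw [← hz', show g⁻¹ * u * g * (g⁻¹ * z * g) = g⁻¹ * (u * z) * g by group, ← hzu]
      group
    · obtain ⟨f, hf⟩ : ∃ f, f = (u * x) ^ l * g := ⟨_, rfl⟩
      have hfH : f ∈ H := hf ▸ mul_mem (hpow l) hg
      have huz : u * z = f * D * f⁻¹ := by rw [hl, hf, hx]; group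
      have hfu := key f hfH (by rw [← huz, mul_assoc, hzu])
      by_cases hfM : Mon f
      · obtain ⟨π, ε, e⟩ := O.exists_sp (mul_mem (mul_mem hfH hDH) (inv_mem hfH))
          ((hfM.mul (mon_sp _ _ : Mon D)).mul (O.mon_inv hfH hfM))
        have hπ := no_bad O h1 hfH e
        rw [hπ] at e
        have hzv : z = u * sp 1 ε := by rw [← e, ← huz, ← mul_assoc, hu2, one_mul]
        refine ⟨z, g, fun i => ε i, hzH, ?_, hz2, hg, hgm, hgz⟩
        rw [hzv, hu, sp_mul, mul_one]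
        congr 1
        funext i
        simp
      · exact ⟨u, f, fun _ => 1, huH, hu, hu2, hfH, hfM, hfu⟩
  -- an involution centralising a conjugate sign change
  obtain ⟨y', hy'⟩ : ∃ y', y' = h⁻¹ * y * h := ⟨_, rfl⟩
  have hy'H : y' ∈ H := hy' ▸ mul_mem (mul_mem (inv_mem hhH) hyH) hhH
  obtain ⟨π', ε', ey'⟩ := O.exists_sp hy'H (hy' ▸ hyh)
  have hy'2 : y' * y' = 1 := by
    rw [hy', show h⁻¹ * y * h * (h⁻¹ * y * h) = h⁻¹ * (y * y) * h by group, hy2, mul_one, inv_mul_cancel]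
  obtain ⟨hπ'2, -⟩ := inv_sp O ey' hy'2
  obtain ⟨c, hc⟩ : ∃ c, π' c ≠ c := by
    by_contra hall
    push Not at hall
    have hπ'1 : π' = 1 := Equiv.ext fun i => hall i
    rw [hπ'1] at ey'
    obtain ⟨W, hWe, hW⟩ := exists_dg O (ey' ▸ hy'H)
    have hyW : y = h * dg W * h⁻¹ := by rw [← hW, ← ey', hy']; group
    have hWc := card_cases O hWe (fun e' => hπ₀ne (by
        rw [e', mul_one, mul_inv_cancel, hy, ← sp_one] at hyW; exact (sp_inj hyW).1))
      (fun e' => hπ₀ne (by rw [e', dg_univ_comm, mul_inv_cancel_right, hy, dg] at hyW; exact (sp_inj hyW).1))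
    exact hhM (conj_mon O h1 hhH hWc (hyW ▸ hy ▸ mon_sp _ _))
  obtain ⟨C, hC⟩ : ∃ C : Finset (Fin 6), C = {c, π' c} := ⟨_, rfl⟩
  have hCc : C.card = 2 := hC ▸ Finset.card_pair (Ne.symm hc)
  have hCinv : ∀ i, π' i ∈ C ↔ i ∈ C := fun i => by
    have hcc : π' (π' c) = c := Equiv.congr_fun hπ'2 c
    simp only [hC, Finset.mem_insert, Finset.mem_singleton]
    constructor
    · rintro (e | e)
      · exact Or.inr (π'.injective (e.trans hcc.symm))
      · exact Or.inl (π'.injective e)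
    · rintro (rfl | rfl)
      · exact Or.inr rfl
      · exact Or.inl hcc
  obtain ⟨b', hb'⟩ : ∃ b', b' = h * dg C * h⁻¹ := ⟨_, rfl⟩
  have hCH : (dg C : GL₆) ∈ H := O.mem_dg (by rw [hCc]; decide)
  have hb'H : b' ∈ H := hb' ▸ mul_mem (mul_mem hhH hCH) (inv_mem hhH)
  have hb'2 : b' * b' = 1 := by
    rw [hb', show h * dg C * h⁻¹ * (h * dg C * h⁻¹) = h * (dg C * dg C) * h⁻¹ by group, dg_sq, mul_one, mul_inv_cancel]
  have hb'y : b' * y = y * b' := by
    have h1' : dg C * y' = y' * dg C := by rw [ey']; exact dg_comm_sp C π' ε' hCinv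
    have h2' := congrArg (fun w => h * w * h⁻¹) h1'
    simpa [hy', hb', mul_assoc] using h2'
  have hb'M : ¬ Mon b' := fun hm => hhM (conj_mon O h1 hhH (Or.inl hCc) (hb' ▸ hm))
  obtain ⟨E₀, hE₀, hE₀y, hnc⟩ : ∃ E₀ : Finset (Fin 6), E₀.card = 2 ∧ dg E₀ * y = y * dg E₀ ∧
      ∀ k ∈ H, k * y = y * k → k * dg E₀ * k⁻¹ ≠ b' := by
    have hA : dg ({4, 5} : Finset (Fin 6)) * y = y * dg {4, 5} := hy ▸ dg_comm_sp _ π₀ δ (hπ₀ ▸ by decide)
    have hB : dg ({0, 1} : Finset (Fin 6)) * y = y * dg {0, 1} := hy ▸ dg_comm_sp _ π₀ δ (hπ₀ ▸ by decide)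
    by_contra hcon
    push Not at hcon
    obtain ⟨k₁, hk₁, hk₁y, hk₁e⟩ := hcon _ (by decide) hA
    obtain ⟨k₂, hk₂, hk₂y, hk₂e⟩ := hcon _ (by decide) hB
    obtain ⟨k, hk⟩ : ∃ k, k = k₂⁻¹ * k₁ := ⟨_, rfl⟩
    have hkH : k ∈ H := hk ▸ mul_mem (inv_mem hk₂) hk₁
    have hkab : k * D * k⁻¹ = dg {0, 1} := by
      have h1' := congrArg (fun w => k₂⁻¹ * w * k₂) (hk₁e.trans hk₂e.symm)
      simpa [hk, mul_assoc] using h1'
    have hky : k * y = y * k := by
      rw [hk, mul_assoc, hk₁y, ← mul_assoc, ← mul_assoc]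
      congr 1
      rw [inv_mul_eq_iff_eq_mul, ← mul_assoc, hk₂y, mul_inv_cancel_right]
    obtain ⟨ρ, η, e⟩ := O.exists_sp hkH (mon_conj O h1 hkH (Or.inl (by decide)) hkab)
    rw [e, hy, sp_mul, sp_mul] at hky
    have hρπ : ρ (π₀ 4) = π₀ (ρ 4) := Equiv.congr_fun (sp_inj hky).1 4
    have hkD : k * D = dg {0, 1} * k := by rw [← hkab, inv_mul_cancel_right]
    rw [e, dg, dg, sp_mul, sp_mul, mul_one, one_mul] at hkD
    have h4 := congrFun (sp_inj hkD).2 4
    rw [mul_comm] at h4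
    have h4' := mul_right_cancel h4
    have hmem : ρ 4 = 0 ∨ ρ 4 = 1 := by
      by_contra hno
      have hne := neg_one_ne O.two
      simp [sgn, not_or.1 hno] at h4'
      exact hne h4'
    rw [show π₀ 4 = 4 by rw [hπ₀]; decide] at hρπ
    rcases hmem with e' | e' <;> rw [e', hπ₀] at hρπ <;> revert hρπ <;> decide
  have hpow' : ∀ l : ℕ, (dg E₀ * b') ^ l ∈ H := fun l =>
    pow_mem (mul_mem (O.mem_dg (by rw [hE₀]; decide)) hb'H) l
  have hcy : ∀ l : ℕ, (dg E₀ * b') ^ l * y = y * (dg E₀ * b') ^ l := fun l =>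
    ((Commute.mul_left (show Commute (dg E₀) y from hE₀y) (show Commute b' y from hb'y)).pow_left l).eq
  rcases CliffordTwo.dihedral_cases (dg_sq E₀) hb'2 with ⟨l, hl⟩ | ⟨n, hz1, hz2, hze, hzb, hcase⟩
  · exact hnc _ (hpow' l) (hcy l) hl.symm
  obtain ⟨z, hz⟩ : ∃ z, z = (dg E₀ * b') ^ n := ⟨_, rfl⟩
  rw [← hz] at hz1 hz2 hze hzb hcase
  have hzH : z ∈ H := hz ▸ hpow' n
  have hzM : Mon z := mon_comm' O h1 hzH (Or.inl hE₀) hze
  obtain ⟨m, hmH, -, hm⟩ := exists_move O hE₀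
  obtain ⟨mC, hmCH, -, hmC⟩ := exists_move O hCc
  obtain ⟨f, hfH, hf⟩ : ∃ f ∈ H, dg E₀ * z = f * D * f⁻¹ := by
    rcases hcase with ⟨l, hl, -⟩ | ⟨l, hl⟩
    · refine ⟨(dg E₀ * b') ^ l * m, mul_mem (hpow' l) hmH, hl.trans ?_⟩
      rw [show (dg E₀ * b') ^ l * m * D * ((dg E₀ * b') ^ l * m)⁻¹ =
        (dg E₀ * b') ^ l * (m * D * m⁻¹) * ((dg E₀ * b') ^ l)⁻¹ by group, hm, mul_inv_cancel_right]
    · refine ⟨(dg E₀ * b') ^ l * h * mC, mul_mem (mul_mem (hpow' l) hhH) hmCH, hl.trans ?_⟩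
      rw [show (dg E₀ * b') ^ l * h * mC * D * ((dg E₀ * b') ^ l * h * mC)⁻¹ =
        (dg E₀ * b') ^ l * (h * (mC * D * mC⁻¹) * h⁻¹) * ((dg E₀ * b') ^ l)⁻¹ by group, hmC, mul_inv_cancel_right, ← hb']
  obtain ⟨π, ε, e⟩ := O.exists_sp (mul_mem (O.mem_dg (S := E₀) (by rw [hE₀]; decide)) hzH)
    ((mon_sp _ _ : Mon (dg E₀ : GL₆)).mul hzM)
  have hπ := no_bad O h1 hfH (hf.symm.trans e)
  rw [hπ] at e
  have hz' : z = dg E₀ * sp 1 ε := by rw [← e, ← mul_assoc, dg_sq, one_mul]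
  rw [dg, sp_mul, mul_one] at hz'
  obtain ⟨W, hWe, hW⟩ := exists_dg O (hz' ▸ hzH)
  rw [hW] at hz'
  have hWc := card_cases O hWe (fun e' => hz1 (hz'.trans e')) (fun e' => by
    have h' := hneg f
    rw [← hf, hz', e', dg_univ_comm, ← dg_compl, finrank_negSp_dg O.two, Finset.card_compl, hE₀, Fintype.card_fin] at h'
    omega)
  exact hb'M (mon_comm' O h1 hb'H hWc (hz' ▸ hzb.symm))

end Cfsg.Agent.Classical.LinFour.Six
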