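import Cfsg.Agent.Lib.Classical.LinFour.Klein
import Cfsg.Agent.Lib.Classical.LinFour.SixEngine
import Cfsg.Agent.Lib.Classical.MaxSpFourClifford
import Cfsg.Agent.Lib.Classical.MaxSesq
import Cfsg.Agent.Lib.Classical.FormSimilitude

/-!
Normalisers of two-groups of symplectic type with centre of order four in the special linear group of degree four:
the six alternating matrices, the monomial criterion and the overgroups.
-/

set_option autoImplicit false
set_option linter.unusedSectionVars false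
set_option linter.style.haveILetI false
set_option quotPrecheck false

namespace Cfsg.Agent.Classical.LinFour

open Matrix Module CliffordFour

variable {F : Type*} [Field F]

local notation "G4" => GL (Fin 4) F
local notation "M4" => Matrix (Fin 4) (Fin 4) F
local notation "I4" => (Fin 2 ⊕ Fin 2)

theorem tG_one : tG (1 : G4) = 1 := Units.ext (by rw [tG_val, Units.val_one, Matrix.transpose_one])

theorem tG_neg (g : G4) : tG (-g) = -tG g := Units.ext (by simp [tG_val])

theorem tG_of_sc {g : G4} (h : Sc g) : tG g = g := by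
  obtain ⟨z, hz⟩ := h
  exact Units.ext (by rw [tG_val, hz, Matrix.transpose_smul, Matrix.transpose_one])

/-- The isometries of a form. -/
def isoG (M : GL (Fin 4) F) : Subgroup (GL (Fin 4) F) where
  carrier := {g | tG g * M * g = M}
  one_mem' := by simp [tG_one]
  mul_mem' {g h} hg hh := by
    show tG (g * h) * M * (g * h) = M
    rw [tG_mul, show tG h * tG g * M * (g * h) = tG h * (tG g * M * g) * h by group, hg]
    exact hh
  inv_mem' {g} hg := by
    show tG g⁻¹ * M * g⁻¹ = M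
    rw [tG_inv]
    conv_lhs => rw [← show tG g * M * g = M from hg]
    group

theorem mem_isoG {M g : G4} : g ∈ isoG M ↔ tG g * M * g = M := Iff.rfl

theorem isSymplecticForm_bf' {M : M4} (h2 : (2 : F) ≠ 0) (hdet : M.det ≠ 0) (hsk : Mᵀ = -M) :
    Cfsg.Geo.IsSymplecticForm (FormSim.bf M) := by
  have hal := FormSim.bf_self_zero_of_skew h2 hsk
  have hadd : ∀ x y v, FormSim.bf M (x + y) v = FormSim.bf M x v + FormSim.bf M y v := fun x y v => by
    simp [FormSim.bf, add_dotProduct]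
  have hadd' : ∀ v x y, FormSim.bf M v (x + y) = FormSim.bf M v x + FormSim.bf M v y := fun x y v => by
    simp [FormSim.bf, Matrix.mulVec_add, dotProduct_add]
  have hskew : ∀ v w, FormSim.bf M v w = -FormSim.bf M w v := fun v w => by
    have h := hal (v + w)
    rw [hadd, hadd', hadd', hal, hal, zero_add, add_zero] at h
    exact eq_neg_of_add_eq_zero_left h
  refine ⟨⟨hadd, fun c x v => ?_, hadd', fun c v x => ?_⟩, hskew, hal, fun v hv => ?_⟩
  · simp [FormSim.bf]
  · simp [FormSim.bf, Matrix.mulVec_smul]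
  · obtain ⟨x, hx⟩ : ∃ x, FormSim.bf M x v ≠ 0 := by
      by_contra hc
      push Not at hc
      refine hv (Matrix.eq_zero_of_mulVec_eq_zero hdet (funext fun a => ?_))
      have := hc (Pi.single a 1)
      simpa [FormSim.bf, single_dotProduct] using this
    exact ⟨⟨x, hx⟩, ⟨x, fun e => hx (by rw [hskew, e, neg_zero])⟩⟩

/-- What is used: five anticommuting self-adjoint involutions and a square root of minus one. -/
structure Five (R : Subgroup (GL (Fin 4) F)) (M : GL (Fin 4) F) (γ : Fin 5 → GL (Fin 4) F) (i : GL (Fin 4) F) :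
    Prop where
  sym : Sym R
  card : Nat.card R = 64
  imem : i ∈ R
  isc : Sc i
  isq : i * i = -1
  skew : tG M = -M
  mem : ∀ j, γ j ∈ R
  sq : ∀ j, γ j * γ j = 1
  anti : ∀ j k, j ≠ k → γ j * γ k = -(γ k * γ j)
  tr : ∀ j, tG (γ j) * M = M * γ j
  dec : ∀ u ∈ R, ∃ w ∈ Subgroup.closure (Set.range γ), u = w ∨ u = w * i

/-- The six matrices. -/
def frA (M : GL (Fin 4) F) (γ : Fin 5 → GL (Fin 4) F) (i : GL (Fin 4) F) : Fin 6 → GL (Fin 4) F :=
  Fin.snoc (fun j => γ j * M⁻¹) (i * M⁻¹)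

namespace Five

variable {R : Subgroup (GL (Fin 4) F)} {M : GL (Fin 4) F} {γ : Fin 5 → GL (Fin 4) F} {i : GL (Fin 4) F}
variable (D : Five R M γ i)
include D

theorem A_cast (j : Fin 5) : frA M γ i j.castSucc = γ j * M⁻¹ := Fin.snoc_castSucc (α := fun _ => G4) _ _ j

theorem A_last : frA M γ i (Fin.last 5) = i * M⁻¹ := Fin.snoc_last (α := fun _ => G4) _ _

theorem inv_i : i⁻¹ = -i := inv_eq_of_mul_eq_one_right (by rw [mul_neg, D.isq, neg_neg])

theorem inv_γ (j : Fin 5) : (γ j)⁻¹ = γ j := inv_eq_of_mul_eq_one_right (D.sq j)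

theorem k6 : K6 (frA M γ i) := by
  refine ⟨D.sym.two, fun a => ?_, fun a b hab => ?_⟩
  · have key : ∀ x : G4, tG x * M = M * x → ((x * M⁻¹ : G4) : M4)ᵀ = -((x * M⁻¹ : G4) : M4) := fun x hx => by
      rw [← tG_val, tG_mul, tG_inv, D.skew, show tG x = M * x * M⁻¹ by rw [← hx, mul_inv_cancel_right]]
      simp [mul_assoc]
    refine Fin.lastCases ?_ (fun j => ?_) a
    · rw [D.A_last]; exact key i (by rw [tG_of_sc D.isc, D.isc.comm M])
    · rw [D.A_cast]; exact key _ (D.tr j)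
  · revert hab
    refine Fin.lastCases ?_ (fun j => ?_) a <;> refine Fin.lastCases ?_ (fun k => ?_) b
    · exact fun h => absurd rfl h
    · intro _
      rw [D.A_cast, D.A_last]
      simp [_root_.mul_inv_rev, mul_assoc, D.inv_i, D.inv_γ, D.isc.comm (γ k)]
    · intro _
      rw [D.A_cast, D.A_last]
      simp [_root_.mul_inv_rev, mul_assoc, D.inv_i, D.inv_γ, D.isc.comm (γ j)]
    · intro h
      rw [D.A_cast, D.A_cast]
      simp [_root_.mul_inv_rev, mul_assoc, D.inv_γ]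
      exact D.anti j k fun e => h (by rw [e])

theorem rr_mem (a b : Fin 6) : rr (frA M γ i) a b ∈ R := by
  have key : ∀ a, ∃ x ∈ R, frA M γ i a = x * M⁻¹ := fun a => by
    refine Fin.lastCases ?_ (fun j => ?_) a
    · exact ⟨i, D.imem, D.A_last⟩
    · exact ⟨γ j, D.mem j, D.A_cast j⟩
  obtain ⟨x, hx, ex⟩ := key a
  obtain ⟨y, hy, ey⟩ := key b
  rw [rr, ex, ey, _root_.mul_inv_rev, inv_inv, ← mul_assoc, inv_mul_cancel_right]
  exact mul_mem hx (inv_mem hy)

theorem γ_eq (j : Fin 5) : γ j = rr (frA M γ i) j.castSucc (Fin.last 5) * i := by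
  rw [rr, D.A_cast, D.A_last]; simp [mul_assoc]

theorem induct {P : G4 → Prop} (h1 : P 1) (hmul : ∀ u v, u ∈ R → v ∈ R → P u → P v → P (u * v))
    (hinv : ∀ u ∈ R, P u → P u⁻¹) (hi : P i) (hr : ∀ a b, a ≠ b → P (rr (frA M γ i) a b)) :
    ∀ u ∈ R, P u := by
  intro u hu
  have hle : Subgroup.closure (Set.range γ) ≤ R := (Subgroup.closure_le _).2 (by rintro _ ⟨j, rfl⟩; exact D.mem j)
  have hγ : ∀ w ∈ Subgroup.closure (Set.range γ), P w := fun w hw => by
    induction hw using Subgroup.closure_induction with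
    | mem x hx =>
      obtain ⟨j, rfl⟩ := hx
      rw [D.γ_eq j]
      exact hmul _ _ (D.rr_mem _ _) D.imem (hr _ _ (Fin.castSucc_lt_last j).ne) hi
    | one => exact h1
    | mul a b ha hb pa pb => exact hmul a b (hle ha) (hle hb) pa pb
    | inv a ha pa => exact hinv a (hle ha) pa
  obtain ⟨w, hw, e | e⟩ := D.dec u hu <;> rw [e]
  · exact hγ w hw
  · exact hmul _ _ (hle hw) D.imem (hγ w hw) hi

theorem det_i : (i : M4).det = 1 := by
  obtain ⟨z, hz⟩ := D.isc
  have h := congrArg Units.val D.isq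
  rw [Units.val_mul, hz, Matrix.smul_mul, one_mul, smul_smul, Units.val_neg, Units.val_one] at h
  have hzz : z * z = -1 := by simpa using congrFun (congrFun h 0) 0
  rw [hz, Matrix.det_smul, Matrix.det_one, Fintype.card_fin, mul_one,
    show z ^ 4 = z * z * (z * z) by ring, hzz, neg_one_mul, neg_neg]

theorem det_R : ∀ u ∈ R, (u : M4).det = 1 :=
  D.induct (by simp) (fun u v _ _ hu hv => by rw [Units.val_mul, Matrix.det_mul, hu, hv, one_mul])
    (fun u _ hu => by rw [Matrix.coe_units_inv, Matrix.det_nonsing_inv, hu, Ring.inverse_one]) D.det_i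
    fun _ _ _ => D.k6.det_rr

theorem chi_R : ∀ u ∈ R, ∃ W, D.k6.chi u = OrthFrame.dg W := by
  refine D.induct ⟨∅, by rw [map_one, OrthFrame.dg_empty]⟩
    (fun u v _ _ ⟨W, hW⟩ ⟨W', hW'⟩ => ⟨_, by rw [map_mul, hW, hW', OrthFrame.dg_mul]⟩)
    (fun u _ ⟨W, hW⟩ => ⟨W, by
      rw [map_inv, hW]
      exact inv_eq_of_mul_eq_one_right (by rw [OrthFrame.dg_mul, symmDiff_self, Finset.bot_eq_empty, OrthFrame.dg_empty])⟩) ⟨Finset.univ, ?_⟩
    fun a b h => ⟨_, D.k6.pair_act h⟩
  rw [OrthFrame.dg]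
  refine D.k6.chi_eq_sp _ _ _ fun a => ?_
  obtain ⟨z, hz⟩ := D.isc
  have h := congrArg Units.val D.isq
  rw [Units.val_mul, hz, Matrix.smul_mul, one_mul, smul_smul, Units.val_neg, Units.val_one] at h
  have hzz : z * z = -1 := by simpa using congrFun (congrFun h 0) 0
  rw [hz, Matrix.transpose_smul, Matrix.transpose_one, Matrix.smul_mul, one_mul, Matrix.mul_smul, mul_one, smul_smul,
    hzz]
  simp [OrthFrame.sgn]

theorem mem_normalizer_of {g : G4}
    (h : ∀ a b, a ≠ b → g * rr (frA M γ i) a b * g⁻¹ ∈ R) : g ∈ Subgroup.normalizer (R : Set G4) := by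
  refine CliffordFour.mem_normalizer D.sym fun r hr => ⟨g * r * g⁻¹, ?_, by rw [inv_mul_cancel_right]⟩
  refine D.induct (P := fun r => g * r * g⁻¹ ∈ R) (by simp)
    (fun u v _ _ hu hv => by
      show g * (u * v) * g⁻¹ ∈ R
      rw [show g * (u * v) * g⁻¹ = g * u * g⁻¹ * (g * v * g⁻¹) by group]; exact mul_mem hu hv)
    (fun u _ hu => by
      show g * u⁻¹ * g⁻¹ ∈ R
      rw [show g * u⁻¹ * g⁻¹ = (g * u * g⁻¹)⁻¹ by group]; exact inv_mem hu)
    (by rw [← D.isc.comm g, mul_inv_cancel_right]; exact D.imem) h r hr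

theorem mem_normalizer_of_mon [Fintype F] {g : G4} (hd : (g : M4).det = 1) (hm : OrthFrame.Mon (D.k6.chi g)) :
    g ∈ Subgroup.normalizer (R : Set G4) := by
  obtain ⟨π, ε, he, hε⟩ := OrthFrame.eq_sp_of_mon hm (D.k6.chi_iso hd)
  have hA : ∀ a, g * frA M γ i a * tG g = frA M γ i (π a) ∨ g * frA M γ i a * tG g = -frA M γ i (π a) := fun a => by
    have h1 := congrArg (fun u : GL (Fin 6) F =>
      cmb (frA M γ i) ((u : Matrix (Fin 6) (Fin 6) F) *ᵥ Pi.single a 1)) he
    simp only [D.k6.chi_val, OrthFrame.sp_single, D.k6.cmb_kact, cmb_single, one_smul] at h1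
    rcases mul_self_eq_one_iff.1 (hε a) with e | e <;> rw [e] at h1
    · exact Or.inl (Units.ext (by simpa [tG_val] using h1))
    · exact Or.inr (Units.ext (by simpa [tG_val] using h1))
  refine D.mem_normalizer_of fun a b hab => ?_
  have e : g * rr (frA M γ i) a b * g⁻¹ =
      g * frA M γ i a * tG g * (g * frA M γ i b * tG g)⁻¹ := by rw [rr]; group
  rw [e]
  have h1 : frA M γ i (π a) * (frA M γ i (π b))⁻¹ ∈ R := D.rr_mem _ _
  rcases hA a with ea | ea <;> rcases hA b with eb | eb <;> rw [ea, eb] <;>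
    (try simp only [inv_neg, mul_neg, neg_mul, neg_neg]) <;> first | exact h1 | exact D.sym.neg_mem h1

theorem mon_of_mem_normalizer {g : G4} (h : g ∈ Subgroup.normalizer (R : Set G4)) :
    OrthFrame.Mon (D.k6.chi g) := by
  intro l
  obtain ⟨v, hv⟩ : ∃ v, v = (D.k6.chi g : Matrix (Fin 6) (Fin 6) F) *ᵥ Pi.single l 1 := ⟨_, rfl⟩
  have hcol : ∀ k, (D.k6.chi g : Matrix (Fin 6) (Fin 6) F) k l = v k := fun k => by
    rw [hv, Matrix.mulVec_single_one]; rfl
  have hsign : ∀ p r : Fin 6, p ≠ r → ∃ s : F, ∀ k, (if k ∈ ({p, r} : Finset (Fin 6)) then -v k else v k) = s * v k := by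
    intro p r hpr
    have hu : g⁻¹ * rr (frA M γ i) p r * g ∈ R := by
      have := (Subgroup.mem_normalizer_iff.1 (inv_mem h) _).1 (D.rr_mem p r)
      rwa [inv_inv] at this
    obtain ⟨W, hW⟩ := D.chi_R _ hu
    refine ⟨(OrthFrame.sgn F W l : F), fun k => ?_⟩
    have e : OrthFrame.dg {p, r} * D.k6.chi g = D.k6.chi g * OrthFrame.dg W := by
      rw [← D.k6.pair_act hpr, ← hW, ← map_mul, ← map_mul]; group
    have e' := congrArg (fun u : GL (Fin 6) F => ((u : Matrix (Fin 6) (Fin 6) F) *ᵥ Pi.single l 1) k) e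
    simp only [Units.val_mul, ← Matrix.mulVec_mulVec, OrthFrame.dg_mulVec, OrthFrame.dg_single,
      Matrix.mulVec_smul, ← hv, Pi.smul_apply, smul_eq_mul] at e'
    exact e'
  obtain ⟨j, hj⟩ : ∃ j, v j ≠ 0 := by
    by_contra hcon
    push Not at hcon
    have h0 : v = 0 := funext hcon
    have h1 := MaxTv.gl_mulVec_injective (D.k6.chi g) (a₁ := Pi.single l 1) (a₂ := 0)
      (by show _ *ᵥ _ = _ *ᵥ _; rw [Matrix.mulVec_zero, ← hv, h0])
    simp at h1
  refine ⟨j, fun k hk => ?_⟩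
  rw [hcol]
  by_contra hne
  obtain ⟨r, hr1, hr2⟩ := (show ∀ j k : Fin 6, ∃ r : Fin 6, r ≠ j ∧ r ≠ k by decide) j k
  obtain ⟨s, hs⟩ := hsign j r hr1.symm
  have h1 := hs j
  have h2 := hs k
  rw [if_pos (by simp)] at h1
  rw [if_neg (by simp [hk, hr2.symm])] at h2
  have hs1 : s = 1 := mul_right_cancel₀ hne (by rw [one_mul]; exact h2.symm)
  rw [hs1, one_mul] at h1
  exact hj ((mul_eq_zero.1 (show (2 : F) * v j = 0 by linear_combination -h1)).resolve_left D.sym.two)

theorem fr_of [Fintype F] {K : Subgroup (GL (Fin 4) F)} (hdet : ∀ g ∈ K, (g : M4).det = 1)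
    (hrr : ∀ a b, a ≠ b → rr (frA M γ i) a b ∈ K)
    (hthree : ∀ a b c (hab : a ≠ b) (hbc : b ≠ c), a ≠ c → CliffordFour.three D.k6.two (rr (frA M γ i) a b)
      (rr (frA M γ i) b c) (D.k6.rr_sq hab) (D.k6.rr_sq hbc) ∈ K) : OrthFrame.Fr (K.map D.k6.chi) := by
  classical
  obtain ⟨H, hH⟩ : ∃ H, H = K.map D.k6.chi := ⟨_, rfl⟩
  rw [← hH]
  have hin : ∀ u : G4, u ∈ K → D.k6.chi u ∈ H := fun u hu => hH ▸ Subgroup.mem_map_of_mem _ hu
  refine ⟨D.sym.two, fun g hg => ?_, fun g hg => ?_, fun π ε hε => ?_⟩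
  · obtain ⟨u, hu, rfl⟩ := hH ▸ hg
    exact fun x => D.k6.chi_iso (hdet u hu) x
  · obtain ⟨u, hu, rfl⟩ := hH ▸ hg
    exact D.k6.chi_det (hdet u hu)
  have hpure : ∀ σ : Equiv.Perm (Fin 6), σ ∈ alternatingGroup (Fin 6) →
      (OrthFrame.sp σ (fun _ => 1) : GL (Fin 6) F) ∈ H := fun σ hσ => by
    rw [← Equiv.Perm.closure_three_cycles_eq_alternating] at hσ
    induction hσ using Subgroup.closure_induction with
    | mem c hc =>
      obtain ⟨a, ha⟩ := Finset.card_pos.1 (show 0 < c.support.card by rw [hc.card_support]; norm_num)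
      have hnd := (hc.nodup_iff_mem_support).2 ha
      simp only [List.nodup_cons, List.mem_cons, List.not_mem_nil, not_or] at hnd
      rw [hc.eq_swap_mul_swap_iff_mem_support.2 ha, ← D.k6.three_act hnd.1.1 hnd.2.1.1 hnd.1.2.1]
      exact hin _ (hthree _ _ _ hnd.1.1 hnd.2.1.1 hnd.1.2.1)
    | one => rw [OrthFrame.sp_one]; exact one_mem H
    | mul a b _ _ ha hb => simpa [OrthFrame.sp_mul] using mul_mem ha hb
    | inv a _ ha =>
      have h := inv_mem ha
      have e : (OrthFrame.sp a (fun _ => 1) : GL (Fin 6) F)⁻¹ = OrthFrame.sp a⁻¹ (fun _ => 1) :=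
        inv_eq_of_mul_eq_one_right (by rw [OrthFrame.sp_mul, mul_inv_cancel]; simp [OrthFrame.sp_one])
      rwa [e] at h
  have hdg : ∀ {S : Finset (Fin 6)}, Even S.card → (OrthFrame.dg S : GL (Fin 6) F) ∈ H := by
    intro S
    induction S using Finset.strongInduction with
    | H S ih =>
      intro hS
      rcases Nat.lt_or_ge S.card 2 with h | h
      · obtain rfl : S = ∅ := Finset.card_eq_zero.1 (by obtain ⟨k, hk⟩ := hS; omega)
        rw [OrthFrame.dg_empty]; exact one_mem H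
      · obtain ⟨a, ha, b, hb, hab⟩ := Finset.one_lt_card.1 h
        have hsub : ({a, b} : Finset (Fin 6)) ⊆ S := by simp [Finset.insert_subset_iff, ha, hb]
        have hcard : ({a, b} : Finset (Fin 6)).card = 2 := Finset.card_pair hab
        have h1 := ih (S \ {a, b}) (Finset.sdiff_ssubset hsub ⟨a, by simp⟩) (by
          rw [Finset.card_sdiff_of_subset hsub, hcard]
          exact (Nat.even_sub h).2 (iff_of_true hS even_two))
        have h2 := mul_mem h1 (D.k6.pair_act hab ▸ hin _ (hrr a b hab))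
        rwa [OrthFrame.dg_mul, show symmDiff (S \ {a, b}) {a, b} = S by
          ext i
          have := @hsub i
          simp only [Finset.mem_symmDiff, Finset.mem_sdiff]
          tauto] at h2
  rw [OrthFrame.sp_mul]
  obtain ⟨δ, hδ⟩ : ∃ δ, δ = fun i => ε (π i) * ε i := ⟨_, rfl⟩
  rw [← hδ]
  have hδs : ∀ i, δ i = 1 ∨ δ i = -1 := fun i => by
    rcases mul_self_eq_one_iff.1 (show (δ i : F) * δ i = 1 by
      rw [hδ, Units.val_mul, mul_mul_mul_comm, hε, hε, mul_one]) with e | e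
    · exact Or.inl (Units.ext e)
    · exact Or.inr (Units.ext (by simpa using e))
  obtain ⟨S, hS⟩ : ∃ S, S = Finset.univ.filter fun i => δ i = -1 := ⟨_, rfl⟩
  have hsg : OrthFrame.sgn F S = δ := funext fun i => by
    rcases hδs i with e | e <;> simp [OrthFrame.sgn, hS, e]
    intro h
    exact absurd (congrArg Units.val h) (fun h' => D.sym.two (by simp at h'; linear_combination h'))
  have heven : Even S.card := by
    have hp : ∏ i, (δ i : F) = 1 := by
      simp only [hδ, Units.val_mul, Finset.prod_mul_distrib]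
      rw [Equiv.prod_comp π (fun i => (ε i : F)), ← Finset.prod_mul_distrib]
      exact Finset.prod_eq_one fun i _ => hε i
    have h2 : ∏ i, (δ i : F) = (-1 : F) ^ S.card := by
      rw [← Finset.prod_const, ← Finset.prod_subset S.subset_univ fun i _ hi => by
        rcases hδs i with e | e
        · simp [e]
        · exact absurd (by simp [hS, e]) hi]
      exact Finset.prod_congr rfl fun i hi => by
        simp only [hS, Finset.mem_filter] at hi
        simp [hi.2]
    by_contra hodd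
    rw [Nat.not_even_iff_odd] at hodd
    rw [hp, hodd.neg_one_pow] at h2
    exact D.sym.two (by linear_combination h2)
  have h := mul_mem (hpure (π * π) (Equiv.Perm.mem_alternatingGroup.2 (by
    rw [Equiv.Perm.sign_mul, Int.units_mul_self]))) (hdg heven)
  rw [OrthFrame.dg, OrthFrame.sp_mul, mul_one, hsg] at h
  simpa using h

theorem fr [Fintype F] {K : Subgroup (GL (Fin 4) F)}
    (hK : Subgroup.normalizer (R : Set G4) ⊓ Cfsg.Geo.specialLinear (Fin 4) F ≤ K)
    (hKS : K ≤ Cfsg.Geo.specialLinear (Fin 4) F) : OrthFrame.Fr (K.map D.k6.chi) :=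
  have hSL : ∀ {g : G4}, (g : M4).det = 1 → g ∈ Cfsg.Geo.specialLinear (Fin 4) F := fun {_} h =>
    (MonoidHom.mem_ker.trans Units.ext_iff).2 h
  D.fr_of (fun _ hg => (MonoidHom.mem_ker.trans Units.ext_iff).1 (hKS hg))
    (fun a b _ => hK ⟨Subgroup.le_normalizer (D.rr_mem a b), hSL D.k6.det_rr⟩)
    fun _ _ _ hab hbc hac => hK ⟨CliffordFour.three_mem D.k6.two _ _ D.sym (D.rr_mem _ _) (D.rr_mem _ _),
      hSL (CliffordFour.three_det D.k6.two _ _ D.sym (D.k6.rr_anti hab hbc hac))⟩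

theorem gamma_iso (j : Fin 5) : γ j ∈ isoG M := by rw [mem_isoG, D.tr, mul_assoc, D.sq, mul_one]

theorem closure_iso : Subgroup.closure (Set.range γ) ≤ isoG M :=
  (Subgroup.closure_le _).2 (by rintro _ ⟨j, rfl⟩; exact D.gamma_iso j)

theorem closure_le : Subgroup.closure (Set.range γ) ≤ R :=
  (Subgroup.closure_le _).2 (by rintro _ ⟨j, rfl⟩; exact D.mem j)

theorem i_not_iso : i ∉ isoG M := fun h => by
  rw [mem_isoG, tG_of_sc D.isc, D.isc.comm M, mul_assoc, D.isq, mul_neg_one] at h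
  exact ne_neg_self D.sym.two M h.symm

theorem mem_closure {u : G4} (hu : u ∈ R) (hi : u ∈ isoG M) : u ∈ Subgroup.closure (Set.range γ) := by
  obtain ⟨w, hw, e | e⟩ := D.dec u hu
  · exact e ▸ hw
  · refine absurd ?_ D.i_not_iso
    rw [show i = w⁻¹ * u by rw [e, inv_mul_cancel_left]]
    exact mul_mem (inv_mem (D.closure_iso hw)) hi

theorem pfM_M : pfM (M : M4) ≠ 0 := fun h => by
  have hs : (M : M4)ᵀ = -(M : M4) := by rw [← tG_val, D.skew, Units.val_neg]
  exact M.det_ne_zero (by rw [det_eq_pfM_sq D.sym.two hs, h]; ring)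

theorem det_sim {g : G4} {c : F} (h : (g : M4)ᵀ * (M : M4) * (g : M4) = c • (M : M4)) :
    (g : M4).det = c ^ 2 := by
  have hs : (M : M4)ᵀ = -(M : M4) := by rw [← tG_val, D.skew, Units.val_neg]
  have h1 := pfM_congr D.sym.two (g : M4)ᵀ hs
  rw [Matrix.transpose_transpose, h, pfM_smul, Matrix.det_transpose] at h1
  exact (mul_right_cancel₀ D.pfM_M h1).symm

theorem det_iso {g : G4} (h : g ∈ isoG M) : (g : M4).det = 1 := by
  rw [mem_isoG] at h
  have h' := congrArg Units.val h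
  rw [Units.val_mul, Units.val_mul, tG_val] at h'
  rw [D.det_sim (c := 1) (by rw [one_smul]; exact h'), one_pow]

variable (ψ : Matrix (Fin 4) (Fin 4) F ≃ₐ[F] Matrix (Fin 2 ⊕ Fin 2) (Fin 2 ⊕ Fin 2) F)

theorem sp_sym (hψ : ∀ g : G4, Units.mapEquiv ψ.toMulEquiv g ∈ spGL 2 F ↔ g ∈ isoG M)
    (hZ : Nat.card (Subgroup.center R) = 4) :
    SpClifford.Ga (R.map (Units.mapEquiv ψ.toMulEquiv).toMonoidHom ⊓ spGL 2 F)
      (fun j => Units.mapEquiv ψ.toMulEquiv (γ j)) := by
  classical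
  haveI := D.sym.fin
  obtain ⟨φ, hφ⟩ : ∃ φ : GL (Fin 4) F ≃* GL (Fin 2 ⊕ Fin 2) F, φ = Units.mapEquiv ψ.toMulEquiv := ⟨_, rfl⟩
  rw [← hφ] at hψ ⊢
  have hval : ∀ g : G4, ((φ g : GL (Fin 2 ⊕ Fin 2) F) : Matrix (Fin 2 ⊕ Fin 2) (Fin 2 ⊕ Fin 2) F) = ψ (g : M4) :=
    fun g => by rw [hφ]; rfl
  have hneg : ∀ g : G4, φ (-g) = -φ g := fun g => Units.ext (by
    rw [hval, Units.val_neg, Units.val_neg, map_neg, hval])
  obtain ⟨R', hR'⟩ : ∃ R', R' = R.map φ.toMonoidHom ⊓ spGL 2 F := ⟨_, rfl⟩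
  rw [← hR']
  have hmem : ∀ {x : GL (Fin 2 ⊕ Fin 2) F}, x ∈ R' → ∃ u ∈ R, u ∈ isoG M ∧ φ u = x := fun {x} hx => by
    rw [hR'] at hx
    obtain ⟨⟨u, hu, e⟩, hs⟩ := hx
    exact ⟨u, hu, (hψ u).1 ((show φ u = x from e).symm ▸ hs), e⟩
  have hin : ∀ {u : G4}, u ∈ R → u ∈ isoG M → φ u ∈ R' := fun {u} hu hi =>
    hR' ▸ ⟨⟨u, hu, rfl⟩, (hψ u).2 hi⟩
  have hγ : ∀ j, φ (γ j) ∈ R' := fun j => hin (D.mem j) (D.gamma_iso j)
  have hscv : ∀ {z : F}, ψ (z • 1) = z • 1 := fun {z} => by rw [map_smul, map_one]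
  have hcz : ∀ X : Matrix (Fin 2 ⊕ Fin 2) (Fin 2 ⊕ Fin 2) F,
      (∀ j, X * (φ (γ j) : Matrix (Fin 2 ⊕ Fin 2) (Fin 2 ⊕ Fin 2) F) =
        (φ (γ j) : Matrix (Fin 2 ⊕ Fin 2) (Fin 2 ⊕ Fin 2) F) * X) → ∃ z : F, X = z • 1 := by
    intro X hX
    obtain ⟨Y, rfl⟩ := ψ.surjective X
    obtain ⟨z, hz⟩ := D.sym.sc Y fun g hg => by
      have hw : ∀ w ∈ Subgroup.closure (Set.range γ), Commute Y (w : M4) := fun w hw => by
        induction hw using Subgroup.closure_induction with
        | mem x hx =>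
          obtain ⟨j, rfl⟩ := hx
          refine ψ.injective ?_
          rw [map_mul, map_mul, ← hval]
          exact hX j
        | one => simp
        | mul a b _ _ ha hb => rw [Units.val_mul]; exact ha.mul_right hb
        | inv a _ ha => exact ha.units_inv_right
      obtain ⟨z, hz⟩ := D.isc
      obtain ⟨w, hw', e | e⟩ := D.dec g hg <;> rw [e]
      · exact (hw w hw').eq
      · rw [Units.val_mul, hz, Matrix.mul_smul, mul_one, Matrix.mul_smul, Matrix.smul_mul, (hw w hw').eq]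
    exact ⟨z, by rw [hz, hscv]⟩
  have hfin : Finite R' := by
    have : Finite (R.map φ.toMonoidHom) := Finite.of_equiv R (R.equivMapOfInjective _ φ.injective).toEquiv
    exact hR' ▸ Finite.of_injective (Subgroup.inclusion (inf_le_left : R.map φ.toMonoidHom ⊓ spGL 2 F ≤ _))
      (Subgroup.inclusion_injective _)
  have hnegR : (-1 : GL (Fin 2 ⊕ Fin 2) F) ∈ R' := by
    rw [show (-1 : GL (Fin 2 ⊕ Fin 2) F) = φ (-1) by rw [hneg, map_one]]
    refine hin D.sym.neg ?_
    rw [mem_isoG, tG_neg, tG_one]; simp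
  have hcard : Nat.card R' = 32 := by
    let f : Bool × R' → R.map φ.toMonoidHom := fun p =>
      ⟨(p.2 : GL (Fin 2 ⊕ Fin 2) F) * (if p.1 then φ i else 1), mul_mem (by
        obtain ⟨u, hu, -, e⟩ := hmem p.2.2; exact ⟨u, hu, e⟩) (by
          split_ifs
          · exact ⟨i, D.imem, rfl⟩
          · exact one_mem _)⟩
    have hni : φ i ∉ R' := fun h => by
      obtain ⟨u, -, hi, e⟩ := hmem h
      exact D.i_not_iso (φ.injective e ▸ hi)
    have hbij : Function.Bijective f := by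
      refine ⟨?_, ?_⟩
      · rintro ⟨t, x⟩ ⟨t', x'⟩ h
        have h' : (x : GL (Fin 2 ⊕ Fin 2) F) * (if t then φ i else 1) = x' * (if t' then φ i else 1) :=
          congrArg Subtype.val h
        cases t <;> cases t' <;> simp at h'
        · rw [h']
        · exact absurd (by rw [show φ i = (x' : GL (Fin 2 ⊕ Fin 2) F)⁻¹ * x by rw [h']; group]
                           exact mul_mem (inv_mem x'.2) x.2) hni
        · exact absurd (by rw [show φ i = (x : GL (Fin 2 ⊕ Fin 2) F)⁻¹ * x' by rw [← h']; group]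
                           exact mul_mem (inv_mem x.2) x'.2) hni
        · rw [h']
      · rintro ⟨_, ⟨u, hu, rfl⟩⟩
        obtain ⟨w, hw, e | e⟩ := D.dec u hu
        · exact ⟨⟨false, φ w, hin (D.closure_le hw) (D.closure_iso hw)⟩, Subtype.ext (by simp [f, e])⟩
        · exact ⟨⟨true, φ w, hin (D.closure_le hw) (D.closure_iso hw)⟩, Subtype.ext (by simp [f, e])⟩
    have h := Nat.card_eq_of_bijective f hbij
    rw [Nat.card_prod, Nat.card_eq_fintype_card (α := Bool), Fintype.card_bool,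
      Subgroup.card_map_of_injective φ.injective, D.card] at h
    omega
  have hsc' : ∀ X : Matrix (Fin 2 ⊕ Fin 2) (Fin 2 ⊕ Fin 2) F,
      (∀ g ∈ R', X * (g : Matrix (Fin 2 ⊕ Fin 2) (Fin 2 ⊕ Fin 2) F) =
        (g : Matrix (Fin 2 ⊕ Fin 2) (Fin 2 ⊕ Fin 2) F) * X) → ∃ z : F, X = z • 1 := fun X hX =>
    hcz X fun j => hX _ (hγ j)
  have hcen : Nat.card (Subgroup.center R') = 2 := by
    let T : Set (GL (Fin 2 ⊕ Fin 2) F) := {1, -1}
    have himg : (fun z : Subgroup.center R' => ((z : R') : GL (Fin 2 ⊕ Fin 2) F)) '' Set.univ = T := by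
      refine Set.eq_of_subset_of_subset ?_ ?_
      · rintro _ ⟨⟨⟨x, hx⟩, hxc⟩, -, rfl⟩
        obtain ⟨z, hz⟩ := hsc' (x : Matrix (Fin 2 ⊕ Fin 2) (Fin 2 ⊕ Fin 2) F) fun g hg => by
          have e := congrArg (fun y : R' => ((y : GL (Fin 2 ⊕ Fin 2) F) : Matrix (Fin 2 ⊕ Fin 2) (Fin 2 ⊕ Fin 2) F))
            (Subgroup.mem_center_iff.1 hxc ⟨g, hg⟩)
          simpa using e.symm
        obtain ⟨u, -, hui, e⟩ := hmem hx
        have hu : (u : M4) = z • 1 := ψ.injective (by rw [← hval, e, hz, hscv])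
        rw [mem_isoG] at hui
        have h1 := congrArg Units.val hui
        rw [Units.val_mul, Units.val_mul, tG_val, hu, Matrix.transpose_smul, Matrix.transpose_one, Matrix.smul_mul,
          one_mul, Matrix.mul_smul, mul_one, smul_smul] at h1
        have hz2 : z * z = 1 := by
          have : (z * z - 1) • (M : M4) = 0 := by rw [sub_smul, h1, one_smul, sub_self]
          exact sub_eq_zero.1 ((smul_eq_zero.1 this).resolve_right M.ne_zero)
        rcases mul_self_eq_one_iff.1 hz2 with rfl | rfl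
        · exact Or.inl (Units.ext (by rw [hz, one_smul, Units.val_one]))
        · exact Or.inr (Units.ext (by rw [hz, neg_one_smul, Units.val_neg, Units.val_one]))
      · rintro x (rfl | rfl)
        · exact ⟨1, trivial, rfl⟩
        · exact ⟨⟨⟨-1, hnegR⟩, Subgroup.mem_center_iff.2 fun g => Subtype.ext (by simp)⟩, trivial, rfl⟩
    have h := congrArg Set.ncard himg
    rw [Set.ncard_image_of_injective _ (fun z z' e => Subtype.ext (Subtype.ext e)), Set.ncard_univ,
      Set.ncard_pair (ne_neg_self D.sym.two (1 : GL (Fin 2 ⊕ Fin 2) F))] at h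
    exact h
  refine
    { two := D.sym.two
      sym :=
        { fin := hfin
          dim := by simp
          two := D.sym.two
          comm := fun g hg h hh => by
            obtain ⟨u, hu, -, rfl⟩ := hmem hg
            obtain ⟨v, hv, -, rfl⟩ := hmem hh
            rw [← map_mul, ← map_mul]
            rcases D.sym.comm u hu v hv with e | e
            · exact Or.inl (by rw [e])
            · exact Or.inr (by rw [e, hneg])
          sq := fun g hg => by
            obtain ⟨u, hu, -, rfl⟩ := hmem hg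
            rw [← map_mul]
            rcases D.sym.sq u hu with e | e
            · exact Or.inl (by rw [e, map_one])
            · exact Or.inr (by rw [e, hneg, map_one])
          neg := hnegR
          sc := hsc'
          card := by rw [hcard, hcen] }
      le := hR' ▸ inf_le_right
      mem := hγ
      sq := fun j => by rw [← map_mul, D.sq, map_one]
      anti := fun j k h => by rw [← map_mul, ← map_mul, D.anti j k h, hneg]
      gen := fun x hx => by
        obtain ⟨u, hu, hi, rfl⟩ := hmem hx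
        have h := Subgroup.mem_map_of_mem φ.toMonoidHom (D.mem_closure hu hi)
        rw [MonoidHom.map_closure, ← Set.range_comp] at h
        exact h
      cz := hcz }

theorem mem_N_of_conj (hψ : ∀ g : G4, Units.mapEquiv ψ.toMulEquiv g ∈ spGL 2 F ↔ g ∈ isoG M) {g : G4}
    (hg : Units.mapEquiv ψ.toMulEquiv g ∈ Subgroup.normalizer
      ((R.map (Units.mapEquiv ψ.toMulEquiv).toMonoidHom ⊓ spGL 2 F : Subgroup (GL I4 F)) : Set (GL I4 F))) :
    g ∈ Subgroup.normalizer (R : Set G4) := by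
  refine CliffordFour.mem_normalizer D.sym fun r hr => ⟨g * r * g⁻¹, ?_, by rw [inv_mul_cancel_right]⟩
  have key : ∀ w ∈ Subgroup.closure (Set.range γ), g * w * g⁻¹ ∈ R := fun w hw => by
    obtain ⟨⟨u, hu, e⟩, -⟩ := (Subgroup.mem_normalizer_iff.1 hg (Units.mapEquiv ψ.toMulEquiv w)).1
      ⟨⟨w, D.closure_le hw, rfl⟩, (hψ w).2 (D.closure_iso hw)⟩
    rw [← map_inv, ← map_mul, ← map_mul] at e
    exact (Units.mapEquiv ψ.toMulEquiv).injective e ▸ hu
  obtain ⟨w, hw, rfl | rfl⟩ := D.dec r hr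
  · exact key _ hw
  · rw [show g * (w * i) * g⁻¹ = g * w * g⁻¹ * i by rw [← mul_assoc, mul_assoc (g * w), D.isc.comm g⁻¹]; group]
    exact mul_mem (key _ hw) D.imem

/-- A non-monomial overgroup holds an isometry outside the normaliser. -/
theorem exists_iso [Fintype F] {K : Subgroup (GL (Fin 4) F)} (O' : OrthFrame.Fr (K.map D.k6.chi)) {g₀ : G4}
    (hg₀ : g₀ ∈ K) (hd₀ : (g₀ : M4).det = 1) (hg₀N : g₀ ∉ Subgroup.normalizer (R : Set G4)) :
    ∃ g ∈ K, g ∉ Subgroup.normalizer (R : Set G4) ∧ g ∈ isoG M := by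
  classical
  obtain ⟨H, hH⟩ : ∃ H, H = K.map D.k6.chi := ⟨_, rfl⟩
  have O : OrthFrame.Fr H := hH ▸ O'
  have hfix : ¬ OrthFrame.Fix H 1 := fun h1 => hg₀N (D.mem_normalizer_of_mon hd₀
    (Six.all_mon O h1 _ (hH ▸ Subgroup.mem_map_of_mem _ hg₀)))
  obtain ⟨h, hhH, S, hS, hhS, hhm⟩ : ∃ h ∈ H, ∃ S : Finset (Fin 6), 1 ≤ S.card ∧
      (∀ l ∈ S, (h : Matrix (Fin 6) (Fin 6) F) *ᵥ Pi.single l 1 = Pi.single l 1) ∧ ¬ OrthFrame.Mon h := by
    by_contra hcon
    push Not at hcon
    exact hfix fun g hg S hS hfix' => hcon g hg S hS hfix'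
  obtain ⟨j, hj⟩ := Finset.card_pos.1 (show 0 < S.card by omega)
  obtain ⟨π, hπ, hπj⟩ : ∃ π : Equiv.Perm (Fin 6), Equiv.Perm.sign π = 1 ∧ π (Fin.last 5) = j :=
    (show ∀ j : Fin 6, ∃ π : Equiv.Perm (Fin 6), Equiv.Perm.sign π = 1 ∧ π (Fin.last 5) = j from fun j => by
      rcases eq_or_ne j (Fin.last 5) with rfl | hne
      · exact ⟨1, map_one _, rfl⟩
      obtain ⟨a, b, hab, ha, hb⟩ := (show ∀ j : Fin 6, ∃ a b : Fin 6, a ≠ b ∧ a ≠ Fin.last 5 ∧ b ≠ Fin.last 5 by
        decide) j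
      refine ⟨Equiv.swap (Fin.last 5) j * Equiv.swap a b, by
        rw [map_mul, Equiv.Perm.sign_swap hne.symm, Equiv.Perm.sign_swap hab]; rfl, ?_⟩
      rw [Equiv.Perm.mul_apply, Equiv.swap_apply_of_ne_of_ne ha.symm hb.symm, Equiv.swap_apply_left]) j
  obtain ⟨m, hm⟩ : ∃ m : GL (Fin 6) F, m = OrthFrame.sp π (fun _ => 1) := ⟨_, rfl⟩
  have hmH : m ∈ H := hm ▸ O.mem_pure hπ
  have hme : (m : Matrix (Fin 6) (Fin 6) F) *ᵥ Pi.single (Fin.last 5) 1 = Pi.single j 1 := by
    rw [hm, OrthFrame.sp_single, hπj, Units.val_one]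
  obtain ⟨g, hgK, hgχ⟩ : ∃ g ∈ K, D.k6.chi g = m⁻¹ * h * m := by
    have := mul_mem (mul_mem (inv_mem hmH) hhH) hmH
    rw [hH] at this
    exact Subgroup.mem_map.1 this
  have hgN : g ∉ Subgroup.normalizer (R : Set G4) := fun hN => hhm (by
    have h1 := D.mon_of_mem_normalizer hN
    rw [hgχ] at h1
    have h2 := ((hm ▸ OrthFrame.mon_sp _ _ : OrthFrame.Mon m).mul h1).mul
      (O.mon_inv hmH (hm ▸ OrthFrame.mon_sp _ _))
    simpa [mul_assoc] using h2)
  have hgiso : g ∈ isoG M := by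
    have h1 : (D.k6.chi g : Matrix (Fin 6) (Fin 6) F) *ᵥ Pi.single (Fin.last 5) 1 = Pi.single (Fin.last 5) 1 := by
      refine MaxTv.gl_mulVec_injective m ?_
      show (m : Matrix (Fin 6) (Fin 6) F) *ᵥ _ = (m : Matrix (Fin 6) (Fin 6) F) *ᵥ _
      rw [hgχ, Matrix.mulVec_mulVec, ← Units.val_mul, mul_assoc m⁻¹, mul_inv_cancel_left, Units.val_mul,
        ← Matrix.mulVec_mulVec, hme, hhS j hj]
    have h2 := congrArg (cmb (frA M γ i)) h1
    rw [D.k6.chi_val, D.k6.cmb_kact, cmb_single, one_smul, D.A_last] at h2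
    have h3 : g * (i * M⁻¹) * tG g = i * M⁻¹ := Units.ext (by rw [Units.val_mul, Units.val_mul, tG_val]; exact h2)
    have h4 : g * M⁻¹ * tG g = M⁻¹ := by
      refine mul_left_cancel (a := i) ?_
      rw [← mul_assoc, ← mul_assoc, D.isc.comm g, mul_assoc g i]
      exact h3
    rw [mem_isoG]
    have h5 := congrArg (fun u : G4 => tG g * M * u * M) h4
    simp only [mul_inv_cancel_right] at h5
    rw [show tG g * M * (g * M⁻¹ * tG g) * M = tG g * M * g * M⁻¹ * (tG g * M) by group] at h5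
    exact mul_inv_eq_one.1 (mul_eq_right.1 h5)
  exact ⟨g, hgK, hgN, hgiso⟩

/-- An overgroup with an orthogonal frame has an element which is no similitude. -/
theorem exists_not_sim [Fintype F] {K : Subgroup (GL (Fin 4) F)} (O : OrthFrame.Fr (K.map D.k6.chi))
    (hsim : ∀ y ∈ K, ∃ c : Fˣ, (y : M4)ᵀ * (M : M4) * (y : M4) = (c : F) • (M : M4)) : False := by
  classical
  have hπ5 : Equiv.Perm.sign (Equiv.swap (Fin.last 5) (0 : Fin 6) * Equiv.swap (0 : Fin 6) 1) = 1 := by decide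
  obtain ⟨y, hyK, hyχ⟩ : ∃ y ∈ K, D.k6.chi y =
      OrthFrame.sp (Equiv.swap (Fin.last 5) (0 : Fin 6) * Equiv.swap (0 : Fin 6) 1) (fun _ => 1) := by
    have := O.mem_pure hπ5
    exact Subgroup.mem_map.1 this
  have h1 := congrArg (fun u : GL (Fin 6) F => (u : Matrix (Fin 6) (Fin 6) F) *ᵥ Pi.single (Fin.last 5) 1) hyχ
  simp only [D.k6.chi_val, OrthFrame.sp_single, Units.val_one] at h1
  rw [show (Equiv.swap (Fin.last 5) (0 : Fin 6) * Equiv.swap (0 : Fin 6) 1) (Fin.last 5) = 0 by decide,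
    kact_mulVec, cmb_single, one_smul, D.A_last] at h1
  obtain ⟨c, hc⟩ := hsim y hyK
  have hyM : tG y * M * y = scal c * M := Units.ext (by
    rw [Units.val_mul, Units.val_mul, tG_val, hc, Units.val_mul, coe_scal, Matrix.smul_mul, one_mul])
  have hy5 : y * (i * M⁻¹) * tG y = scal c * (i * M⁻¹) := by
    have hy' : y = M⁻¹ * (tG y)⁻¹ * (scal c * M) := by rw [← hyM]; group
    calc y * (i * M⁻¹) * tG y = i * (y * M⁻¹ * tG y) := by rw [← mul_assoc y, ← D.isc.comm y]; group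
      _ = i * (scal c * M⁻¹) := by
        congr 1
        conv_lhs => arg 1; arg 1; rw [hy']
        rw [show M⁻¹ * (tG y)⁻¹ * (scal c * M) * M⁻¹ * tG y = M⁻¹ * ((tG y)⁻¹ * scal c) * tG y by group,
          ← (scal_sc c).comm]
        rw [show M⁻¹ * (scal c * (tG y)⁻¹) * tG y = M⁻¹ * scal c by group, (scal_sc c).comm]
      _ = _ := by rw [← mul_assoc, D.isc.comm (scal c), mul_assoc]
  have h2 := congrArg Units.val hy5
  rw [Units.val_mul, Units.val_mul, tG_val, Units.val_mul (scal c), coe_scal, Matrix.smul_mul, one_mul] at h2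
  rw [h2, map_smul, ← D.A_last] at h1
  have h3 := congrFun h1 0
  rw [Pi.smul_apply, D.k6.crd_A, if_neg (by decide)] at h3
  simp at h3

/-- Maximality. -/
theorem maximal [Fintype F] (hp : (Fintype.card F).Prime) (hZ : Nat.card (Subgroup.center R) = 4)
    (hψ : ∀ g : G4, Units.mapEquiv ψ.toMulEquiv g ∈ spGL 2 F ↔ g ∈ isoG M) :
    Cfsg.Geo.IsMaximalIn (Cfsg.Geo.specialLinear (Fin 4) F)
      (Cfsg.Geo.subgroupNormalizer R ⊓ Cfsg.Geo.specialLinear (Fin 4) F) := by
  classical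
  have hSL : ∀ g : G4, g ∈ Cfsg.Geo.specialLinear (Fin 4) F ↔ (g : M4).det = 1 := fun g =>
    MonoidHom.mem_ker.trans Units.ext_iff
  refine MaxTv.isMaximalIn_intro inf_le_right (fun hle => ?_) fun K hK hKS g₀ hg₀ hg₀' => ?_
  · obtain ⟨T, hT⟩ : ∃ T : Matrix.SpecialLinearGroup (Fin 4) F, T.1 = Matrix.transvection 0 1 1 :=
      ⟨⟨_, Matrix.det_transvection_of_ne 0 1 (by decide) 1⟩, rfl⟩
    obtain ⟨t, ht', ht⟩ : ∃ t : G4, t = Matrix.SpecialLinearGroup.toGL T ∧ (t : M4) = Matrix.transvection 0 1 1 :=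
      ⟨_, rfl, hT⟩
    obtain ⟨N, hN⟩ : ∃ N : Subgroup (Matrix.SpecialLinearGroup (Fin 4) F),
        N = R.comap (Matrix.SpecialLinearGroup.toGL : _ →* G4) := ⟨_, rfl⟩
    haveI : N.Normal := ⟨fun n hn s => by
      rw [hN, Subgroup.mem_comap] at hn ⊢
      rw [map_mul, map_mul, map_inv]
      exact (Subgroup.mem_normalizer_iff.1 (hle ((hSL _).2 s.2)).1 _).1 hn⟩
    obtain ⟨x, hx⟩ : ∃ x : Matrix.SpecialLinearGroup (Fin 4) F, x.1 = ((rr (frA M γ i) 0 1 : G4) : M4) :=
      ⟨⟨_, D.k6.det_rr⟩, rfl⟩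
    have hxN : x ∈ N := by
      rw [hN, Subgroup.mem_comap]
      exact (show (Matrix.SpecialLinearGroup.toGL x : G4) = rr (frA M γ i) 0 1 from Units.ext hx) ▸ D.rr_mem 0 1
    haveI : IsSimpleGroup (Matrix.ProjectiveSpecialLinearGroup (Fin 4) F) :=
      PSL_isSimple (by norm_num) fun h => absurd h (by norm_num)
    have hperf := SL_commutator_eq_top (F := F) (ι := Fin 4) fun h => absurd h (by simp)
    have htop : N = ⊤ := SL_normal_eq_top hperf N fun hle' => by
      have hc := Subgroup.mem_center_iff.1 (hle' hxN) ⟨((rr (frA M γ i) 1 2 : G4) : M4), D.k6.det_rr⟩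
      have hc' : ((rr (frA M γ i) 1 2 : G4) : M4) * x.1 = x.1 * ((rr (frA M γ i) 1 2 : G4) : M4) :=
        congrArg Subtype.val hc
      rw [hx] at hc'
      exact ne_neg_self D.sym.two (rr (frA M γ i) 0 1 * rr (frA M γ i) 1 2)
        ((D.k6.rr_anti (show (0 : Fin 6) ≠ 1 by decide) (show (1 : Fin 6) ≠ 2 by decide)
          (show (0 : Fin 6) ≠ 2 by decide)).trans (congrArg Neg.neg
            (show rr (frA M γ i) 1 2 * rr (frA M γ i) 0 1 = rr (frA M γ i) 0 1 * rr (frA M γ i) 1 2 from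
              Units.ext (by rw [Units.val_mul, Units.val_mul]; exact hc'))))
    have htR : t ∈ R := by
      have h : T ∈ N := htop.symm ▸ Subgroup.mem_top T
      rw [hN, Subgroup.mem_comap] at h
      exact ht' ▸ h
    have hsq : (t : M4) * (t : M4) = Matrix.transvection 0 1 (1 + 1) := by
      rw [ht, Matrix.transvection_mul_transvection_same 0 1 (by decide)]
    have h01 : ((t : M4) * (t : M4)) 0 1 = (2 : F) := by
      rw [hsq]; norm_num [Matrix.transvection, Matrix.single]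
    rcases D.sym.sq t htR with e | e
    · rw [← Units.val_mul, e, Units.val_one] at h01; exact D.sym.two (by simpa using h01.symm)
    · rw [← Units.val_mul, e, Units.val_neg, Units.val_one] at h01; exact D.sym.two (by simpa using h01.symm)
  have hg₀N : g₀ ∉ Subgroup.normalizer (R : Set G4) := fun h => hg₀' ⟨h, hKS hg₀⟩
  have O : OrthFrame.Fr (K.map D.k6.chi) := D.fr hK hKS
  obtain ⟨g, hgK, hgN, hgiso⟩ := D.exists_iso O hg₀ ((hSL _).1 (hKS hg₀)) hg₀N
  -- all isometries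
  obtain ⟨φ, hφ⟩ : ∃ φ : GL (Fin 4) F ≃* GL (Fin 2 ⊕ Fin 2) F, φ = Units.mapEquiv ψ.toMulEquiv := ⟨_, rfl⟩
  have G := D.sp_sym ψ hψ hZ
  have hmax := G.maximal hp
  rw [← hφ] at hmax hψ
  have hNle : Cfsg.Geo.subgroupNormalizer (R.map φ.toMonoidHom ⊓ spGL 2 F) ⊓ spGL 2 F ≤
      K.map φ.toMonoidHom ⊓ spGL 2 F := by
    rintro x ⟨hx, hxs⟩
    obtain ⟨y, rfl⟩ := φ.surjective x
    refine ⟨⟨y, hK ⟨?_, (hSL _).2 (D.det_iso ((hψ y).1 hxs))⟩, rfl⟩, hxs⟩
    subst hφ
    exact D.mem_N_of_conj ψ hψ hx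
  have hall : ∀ y : G4, y ∈ isoG M → y ∈ K := fun y hy => by
    rcases hmax.2 _ hNle inf_le_right with e | e
    · exfalso
      have h1 : φ g ∈ K.map φ.toMonoidHom ⊓ spGL 2 F := ⟨⟨g, hgK, rfl⟩, (hψ g).2 hgiso⟩
      rw [e] at h1
      subst hφ
      exact hgN (D.mem_N_of_conj ψ hψ h1.1)
    · obtain ⟨⟨z, hz, ez⟩, -⟩ := (e.symm ▸ (hψ y).2 hy : φ y ∈ K.map φ.toMonoidHom ⊓ spGL 2 F)
      exact φ.injective ez ▸ hz
  have hiK : i ∈ K := hK ⟨Subgroup.le_normalizer D.imem, (hSL _).2 D.det_i⟩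
  have hsimK : Cfsg.Geo.similarityGroup (FormSim.bf (M : M4)) ⊓ Cfsg.Geo.specialLinear (Fin 4) F ≤ K := by
    rintro y ⟨hy1, hy2⟩
    obtain ⟨c, hc⟩ := FormSim.mem_sim.1 hy1
    have hc2 : (c : F) ^ 2 = 1 := by rw [← D.det_sim hc]; exact (hSL _).1 hy2
    rcases sq_eq_one_iff.1 hc2 with e | e
    · refine hall y ?_
      rw [mem_isoG]
      exact Units.ext (by rw [Units.val_mul, Units.val_mul, tG_val, hc, e, one_smul])
    · have hyi : y * i ∈ K := hall (y * i) (by
        rw [mem_isoG, tG_mul, tG_of_sc D.isc]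
        have h1 : tG y * M * y = -M :=
          Units.ext (by rw [Units.val_mul, Units.val_mul, tG_val, hc, e, neg_one_smul, Units.val_neg])
        rw [show i * tG y * M * (y * i) = i * (tG y * M * y) * i by group, h1, D.isc.comm (-M), mul_assoc, D.isq]
        simp)
      exact (mul_mem_cancel_right hiK).1 hyi
  have hsymp : Cfsg.Geo.IsSymplecticForm (FormSim.bf (M : M4)) :=
    isSymplecticForm_bf' D.sym.two M.det_ne_zero (by rw [← tG_val, D.skew, Units.val_neg])
  rcases (MaxTv.symplectic_similitude_maximal (by simp) hsymp).2 K hsimK hKS with e | e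
  · exact absurd (fun y hy => FormSim.mem_sim.1 ((e ▸ hy : y ∈ Cfsg.Geo.similarityGroup (FormSim.bf (M : M4)) ⊓ _)).1)
      (D.exists_not_sim O)
  · exact e ▸ le_refl _

end Five

end Cfsg.Agent.Classical.LinFour
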