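import Cfsg.Agent.Lib.Classical.LinFour.C6Card
import Cfsg.Agent.Lib.Classical.LinFour.C6Five

/-!
The normaliser of a two-group of symplectic type with centre of order four is maximal in the special linear group of
degree four over a prime field.
-/

set_option autoImplicit false
set_option linter.unusedSectionVars false
set_option linter.style.haveILetI false
set_option quotPrecheck false

namespace Cfsg.Agent.Classical.LinFour

open Matrix Module CliffordFour

variable {F : Type*} [Field F]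

local notation "G4" => GL (Fin 4) F
local notation "M4" => Matrix (Fin 4) (Fin 4) F

/-- A common eigenvector of two commuting involutions in a frame. -/
theorem exists_eigen {R : Subgroup G4} (S : Sym R) (E : Frame R) {μ : F} (hμ : μ * μ = -1) :
    ∃ w : Fin 4 → F, w ≠ 0 ∧ (E.a : M4) *ᵥ w = w ∧ (E.c : M4) *ᵥ w = (-μ) • w := by
  have ha2 : (E.a : M4) * E.a = 1 := by rw [← Units.val_mul, E.aa, Units.val_one]
  have hc2 : (E.c : M4) * E.c = -1 := by rw [← Units.val_mul, E.cc, Units.val_neg, Units.val_one]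
  have hac : (E.a : M4) * E.c = E.c * E.a := by rw [← Units.val_mul, ← Units.val_mul, E.ac]
  obtain ⟨N, hN⟩ : ∃ N : M4, N = 1 + (E.a : M4) + μ • (E.c : M4) + μ • ((E.a : M4) * E.c) := ⟨_, rfl⟩
  have htr : N.trace = 4 := by
    have t1 := S.trace_zero E.ab
    have t2 := S.trace_zero E.cd
    have t3 := S.trace_zero (g := E.a * E.c) (h := E.b)
      (by rw [mul_assoc, ← E.bc, ← mul_assoc, E.ab, neg_mul, mul_assoc])
    rw [Units.val_mul] at t3
    rw [hN, Matrix.trace_add, Matrix.trace_add, Matrix.trace_add, Matrix.trace_smul, Matrix.trace_smul, t1, t2, t3,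
      Matrix.trace_one]
    simp
  obtain ⟨v, hv⟩ : ∃ v, N *ᵥ v ≠ 0 := by
    by_contra hcon
    push Not at hcon
    have h0 : N = 0 := Matrix.ext_iff_mulVec.2 fun v => by rw [hcon v, Matrix.zero_mulVec]
    rw [h0, Matrix.trace_zero] at htr
    exact mul_ne_zero S.two S.two (by linear_combination -htr)
  have haN : (E.a : M4) * N = N := by
    rw [hN]
    simp only [mul_add, Matrix.mul_smul, mul_one, ← mul_assoc, ha2, one_mul]
    abel
  have hcN : (E.c : M4) * N = (-μ) • N := by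
    rw [hN]
    simp only [mul_add, Matrix.mul_smul, mul_one, ← mul_assoc, hc2, ← hac]
    rw [mul_assoc (E.a : M4) (E.c : M4) (E.c : M4), hc2, mul_neg, mul_one]
    match_scalars <;> first | ring1 | linear_combination hμ | linear_combination -hμ
  exact ⟨_, hv, by rw [Matrix.mulVec_mulVec, haN], by rw [Matrix.mulVec_mulVec, hcN, Matrix.smul_mulVec]⟩

set_option maxHeartbeats 1000000 in
/-- The five matrices, the alternating form and a basis in which it is standard. -/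
theorem exists_five [Fintype F] (h2 : (2 : F) ≠ 0) {R : Subgroup (Matrix.GeneralLinearGroup (Fin 4) F)}
    (hs : Cfsg.Geo.IsSymplecticTypeGroup 2 R) (hirr : Cfsg.Geo.ActsAbsolutelyIrreducibly (Cfsg.Geo.matrixSet R))
    (h64 : Nat.card R = 64) (hZ : Nat.card (Subgroup.center R) = 4) :
    ∃ (P M : G4) (γ : Fin 5 → G4) (z : G4), Five R M γ z ∧ Matrix.J (Fin 2) F =
      ((P : M4)ᵀ * (M : M4) * (P : M4)).submatrix finSumFinEquiv finSumFinEquiv := by
  classical
  have S : Sym R := Sym.of h2 (Fintype.card_fin 4) hs hirr inferInstance (by rw [h64, hZ])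
  obtain ⟨E⟩ := exists_frame S (hasFix_of_card_center S hZ)
  obtain ⟨z, hzR, hzs, hzz⟩ := exists_sqrt_neg S hZ
  obtain ⟨μ, hμv⟩ : ∃ μ : F, (z : M4) = μ • 1 := hzs
  have hμ : μ * μ = -1 := by
    have h := congrArg (fun u : G4 => (u : M4) 0 0) hzz
    simpa [hμv] using h
  obtain ⟨w, hw0, haw, hcw⟩ := exists_eigen S E hμ
  obtain ⟨a, b, c, d, ha, hb, hc, hd, aa, bb, cc, dd, ab, cd, ac, ad, bc, bd⟩ :
      ∃ a b c d : G4, a = E.a ∧ b = E.b ∧ c = E.c ∧ d = E.d ∧ a * a = 1 ∧ b * b = 1 ∧ c * c = -1 ∧ d * d = -1 ∧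
        b * a = -(a * b) ∧ d * c = -(c * d) ∧ c * a = a * c ∧ d * a = a * d ∧ c * b = b * c ∧ d * b = b * d :=
    ⟨_, _, _, _, rfl, rfl, rfl, rfl, E.aa, E.bb, E.cc, E.dd, by rw [E.ab, neg_neg], by rw [E.cd, neg_neg],
      E.ac.symm, E.ad.symm, E.bc.symm, E.bd.symm⟩
  rw [← ha] at haw
  rw [← hc] at hcw
  -- the monomial basis
  have act : ∀ (x y : G4) (v : Fin 4 → F), (x : M4) *ᵥ ((y : M4) *ᵥ v) = ((x * y : G4) : M4) *ᵥ v := fun x y v => by
    rw [Units.val_mul, Matrix.mulVec_mulVec]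
  have actn : ∀ (x : G4) (v : Fin 4 → F), ((-x : G4) : M4) *ᵥ v = -((x : M4) *ᵥ v) := fun x v => by
    rw [Units.val_neg, Matrix.neg_mulVec]
  obtain ⟨v0, hv0⟩ : ∃ v : Fin 4 → (Fin 4 → F),
      v = ![w, (b : M4) *ᵥ w, (d : M4) *ᵥ w, (b : M4) *ᵥ ((d : M4) *ᵥ w)] := ⟨_, rfl⟩
  have hab : ∀ v, (a : M4) *ᵥ ((b : M4) *ᵥ v) = -((b : M4) *ᵥ ((a : M4) *ᵥ v)) := fun v => by
    rw [act, act, ← actn, ab, neg_neg]
  have had : ∀ v, (a : M4) *ᵥ ((d : M4) *ᵥ v) = (d : M4) *ᵥ ((a : M4) *ᵥ v) := fun v => by rw [act, act, ad]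
  have hcb : ∀ v, (c : M4) *ᵥ ((b : M4) *ᵥ v) = (b : M4) *ᵥ ((c : M4) *ᵥ v) := fun v => by rw [act, act, bc]
  have hcd : ∀ v, (c : M4) *ᵥ ((d : M4) *ᵥ v) = -((d : M4) *ᵥ ((c : M4) *ᵥ v)) := fun v => by
    rw [act, act, ← actn, cd, neg_neg]
  have hdb : ∀ v, (d : M4) *ᵥ ((b : M4) *ᵥ v) = (b : M4) *ᵥ ((d : M4) *ᵥ v) := fun v => by rw [act, act, bd]
  have hbb : ∀ v, (b : M4) *ᵥ ((b : M4) *ᵥ v) = v := fun v => by rw [act, bb, Units.val_one, Matrix.one_mulVec]
  have hdd : ∀ v, (d : M4) *ᵥ ((d : M4) *ᵥ v) = -v := fun v => by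
    rw [act, dd, actn, Units.val_one, Matrix.one_mulVec]
  have iA : ∀ k, (a : M4) *ᵥ v0 k = (![1, -1, 1, -1] k : F) • v0 k := fun k => by
    fin_cases k <;> simp [-Matrix.mulVec_mulVec, hv0, haw, hab, had, Matrix.mulVec_neg]
  have iC : ∀ k, (c : M4) *ᵥ v0 k = (![-μ, -μ, μ, μ] k : F) • v0 k := fun k => by
    fin_cases k <;> simp [-Matrix.mulVec_mulVec, hv0, hcw, hcb, hcd, Matrix.mulVec_neg, Matrix.mulVec_smul]
  have hbn : ∀ u : Fin 4 → F, u ≠ 0 → ∀ g : G4, (g : M4) *ᵥ u ≠ 0 := fun u hu g h => hu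
    (MaxTv.gl_mulVec_injective g (a₁ := u) (a₂ := 0) (by show _ *ᵥ _ = _ *ᵥ _; rw [h, Matrix.mulVec_zero]))
  obtain ⟨B, hB⟩ : ∃ B : M4, B = Matrix.of fun j k => v0 k j := ⟨_, rfl⟩
  have hBv : ∀ u : Fin 4 → F, B *ᵥ u = ∑ k, u k • v0 k := fun u => funext fun j => by
    rw [Matrix.mulVec, dotProduct, Finset.sum_apply]
    exact Finset.sum_congr rfl fun k _ => by rw [hB, Pi.smul_apply, smul_eq_mul, mul_comm]; rfl
  have hdet : B.det ≠ 0 := by
    intro h0
    obtain ⟨u, hu, hu0⟩ := Matrix.exists_mulVec_eq_zero_iff.2 h0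
    have h1 := hu0
    rw [hBv, Fin.sum_univ_four] at h1
    have hA := congrArg (fun x => (a : M4) *ᵥ x) h1
    simp only [Matrix.mulVec_add, Matrix.mulVec_smul, iA, Matrix.mulVec_zero] at hA
    have hC := congrArg (fun x => (c : M4) *ᵥ x) h1
    simp only [Matrix.mulVec_add, Matrix.mulVec_smul, iC, Matrix.mulVec_zero] at hC
    have hCA := congrArg (fun x => (c : M4) *ᵥ ((a : M4) *ᵥ x)) h1
    simp only [Matrix.mulVec_add, Matrix.mulVec_smul, iA, iC, Matrix.mulVec_zero] at hCA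
    simp at hA hC hCA
    have h22 : (2 : F) * 2 ≠ 0 := mul_ne_zero h2 h2
    have hv : ∀ k, v0 k ≠ 0 := fun k => by fin_cases k <;> simp [-Matrix.mulVec_mulVec, hv0, hw0] <;> first | exact hbn _ hw0 _ | exact hbn _ (hbn _ hw0 _) _
    refine hu (funext fun k => ?_)
    suffices hk : (2 * 2 * μ * u k) • v0 k = 0 by
      have := (smul_eq_zero.1 hk).resolve_right (hv k)
      refine (mul_eq_zero.1 this).resolve_left (mul_ne_zero h22 fun e => ?_)
      rw [e, mul_zero] at hμ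
      exact one_ne_zero (neg_eq_zero.1 hμ.symm)
    fin_cases k <;> simp only [Fin.zero_eta, Fin.mk_one, Fin.reduceFinMk]
    · linear_combination (norm := module) μ • h1 + μ • hA - hC - hCA
    · linear_combination (norm := module) μ • h1 - μ • hA - hC + hCA
    · linear_combination (norm := module) μ • h1 + μ • hA + hC + hCA
    · linear_combination (norm := module) μ • h1 - μ • hA + hC - hCA
  obtain ⟨P, hP⟩ : ∃ P : G4, (P : M4) = B := ⟨Matrix.GeneralLinearGroup.mkOfDetNeZero B hdet, rfl⟩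
  have hPe : ∀ k, (P : M4) *ᵥ Pi.single k 1 = v0 k := fun k => funext fun j => by
    rw [hP, hB, Matrix.mulVec_single_one]; rfl
  have hconj : ∀ (x : G4) (X : M4), (∀ k, (x : M4) *ᵥ v0 k = ∑ j, X j k • v0 j) →
      ((P⁻¹ * x * P : G4) : M4) = X := fun x X h => by
    have hPX : (x : M4) * (P : M4) = (P : M4) * X := by
      refine Matrix.ext fun j k => ?_
      have h1 := congrFun (h k) j
      rw [← hPe, Matrix.mulVec_mulVec, Matrix.mulVec_single_one, ← hBv, ← hP] at h1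
      exact h1
    rw [Units.val_mul, Units.val_mul, mul_assoc, hPX, ← mul_assoc, Units.inv_mul, one_mul]
  have kA : ((P⁻¹ * a * P : G4) : M4) = Matrix.diagonal ![1, -1, 1, -1] := hconj _ _ fun k => by
    rw [iA, Finset.sum_eq_single k (fun j _ hj => by rw [Matrix.diagonal_apply_ne _ hj, zero_smul]) (by simp),
      Matrix.diagonal_apply_eq]
  have kC : ((P⁻¹ * c * P : G4) : M4) = Matrix.diagonal ![-μ, -μ, μ, μ] := hconj _ _ fun k => by
    rw [iC, Finset.sum_eq_single k (fun j _ hj => by rw [Matrix.diagonal_apply_ne _ hj, zero_smul]) (by simp),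
      Matrix.diagonal_apply_eq]
  have kB : ((P⁻¹ * b * P : G4) : M4) = !![0, 1, 0, 0; 1, 0, 0, 0; 0, 0, 0, 1; 0, 0, 1, 0] := hconj _ _ fun k => by
    fin_cases k <;> simp [-Matrix.mulVec_mulVec, hv0, Fin.sum_univ_four, hbb]
  have kD : ((P⁻¹ * d * P : G4) : M4) = !![0, 0, -1, 0; 0, 0, 0, -1; 1, 0, 0, 0; 0, 1, 0, 0] := hconj _ _ fun k => by
    fin_cases k <;> simp [-Matrix.mulVec_mulVec, hv0, Fin.sum_univ_four, hdb, hdd, Matrix.mulVec_neg]
  obtain ⟨Q, hQ⟩ : ∃ Q : G4, Q = (P * tG P)⁻¹ := ⟨_, rfl⟩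
  have hsym : ∀ x : G4, ((P⁻¹ * x * P : G4) : M4)ᵀ = ((P⁻¹ * x * P : G4) : M4) → tG x * Q = Q * x := fun x h => by
    have h' : tG (P⁻¹ * x * P) = P⁻¹ * x * P := Units.ext h
    rw [tG_mul, tG_mul, tG_inv] at h'
    rw [hQ, show tG x * (P * tG P)⁻¹ = (tG P)⁻¹ * (tG P * (tG x * (tG P)⁻¹)) * P⁻¹ by group, h']
    group
  have hskw : ∀ x : G4, ((P⁻¹ * x * P : G4) : M4)ᵀ = -((P⁻¹ * x * P : G4) : M4) → tG x * Q = -(Q * x) := fun x h => by
    have h' : tG (P⁻¹ * x * P) = -(P⁻¹ * x * P) := Units.ext (by rw [Units.val_neg]; exact h)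
    rw [tG_mul, tG_mul, tG_inv] at h'
    rw [hQ, show tG x * (P * tG P)⁻¹ = (tG P)⁻¹ * (tG P * (tG x * (tG P)⁻¹)) * P⁻¹ by group, h']
    simp [mul_assoc]
  have ta := hsym a (by rw [kA, Matrix.diagonal_transpose])
  have tc := hsym c (by rw [kC, Matrix.diagonal_transpose])
  have tb := hsym b (by rw [kB]; ext j k; fin_cases j <;> fin_cases k <;> simp)
  have td := hskw d (by rw [kD]; ext j k; fin_cases j <;> fin_cases k <;> simp)
  obtain ⟨M, hM⟩ : ∃ M, M = Q * d := ⟨_, rfl⟩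
  obtain ⟨γ, hγ⟩ : ∃ γ : Fin 5 → G4, γ = ![a, b, a * (b * c), a * (b * d), a * (b * (c * d))] := ⟨_, rfl⟩
  have aa' : ∀ x, a * (a * x) = x := fun x => by rw [← mul_assoc, aa, one_mul]
  have bb' : ∀ x, b * (b * x) = x := fun x => by rw [← mul_assoc, bb, one_mul]
  have cc' : ∀ x, c * (c * x) = -x := fun x => by rw [← mul_assoc, cc, neg_one_mul]
  have dd' : ∀ x, d * (d * x) = -x := fun x => by rw [← mul_assoc, dd, neg_one_mul]
  have ab' : ∀ x, b * (a * x) = -(a * (b * x)) := fun x => by rw [← mul_assoc, ab, neg_mul, mul_assoc]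
  have cd' : ∀ x, d * (c * x) = -(c * (d * x)) := fun x => by rw [← mul_assoc, cd, neg_mul, mul_assoc]
  have ac' : ∀ x, c * (a * x) = a * (c * x) := fun x => by rw [← mul_assoc, ac, mul_assoc]
  have ad' : ∀ x, d * (a * x) = a * (d * x) := fun x => by rw [← mul_assoc, ad, mul_assoc]
  have bc' : ∀ x, c * (b * x) = b * (c * x) := fun x => by rw [← mul_assoc, bc, mul_assoc]
  have bd' : ∀ x, d * (b * x) = b * (d * x) := fun x => by rw [← mul_assoc, bd, mul_assoc]
  have ra : ∀ x, tG a * (Q * x) = Q * (a * x) := fun x => by rw [← mul_assoc, ta, mul_assoc]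
  have rb : ∀ x, tG b * (Q * x) = Q * (b * x) := fun x => by rw [← mul_assoc, tb, mul_assoc]
  have rc : ∀ x, tG c * (Q * x) = Q * (c * x) := fun x => by rw [← mul_assoc, tc, mul_assoc]
  have rd : ∀ x, tG d * (Q * x) = -(Q * (d * x)) := fun x => by rw [← mul_assoc, td, neg_mul, mul_assoc]
  have r1 : a ∈ R := ha ▸ E.ha
  have r2 : b ∈ R := hb ▸ E.hb
  have r3 : c ∈ R := hc ▸ E.hc
  have r4 : d ∈ R := hd ▸ E.hd
  have hmem : ∀ j, γ j ∈ R := fun j => by
    have r5 := mul_mem r3 r4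
    fin_cases j <;> simp [hγ, mul_mem, r1, r2, r3, r4, r5]
  have hsq : ∀ j, γ j * γ j = 1 := fun j => by
    fin_cases j <;> simp [hγ, mul_assoc, aa, bb, cc, dd, aa', bb', cc', dd', ab, cd, ac, ad, bc, bd,
      ab', cd', ac', ad', bc', bd']
  have hanti : ∀ j k, j ≠ k → γ j * γ k = -(γ k * γ j) := fun j k hjk => by
    fin_cases j <;> fin_cases k <;> simp at hjk <;>
      simp [hγ, mul_assoc, aa, bb, cc, dd, aa', bb', cc', dd', ab, cd, ac, ad, bc, bd,
        ab', cd', ac', ad', bc', bd']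
  have htr : ∀ j, tG (γ j) * M = M * γ j := fun j => by
    fin_cases j <;> simp [hγ, hM, tG_mul, mul_assoc, ra, rb, rc, rd, aa, bb, cc, dd, aa', bb', cc', dd', ab, cd, ac,
      ad, bc, bd, ab', cd', ac', ad', bc', bd']
  have hskew : tG M = -M := by
    have tQ : tG Q = Q := by
      rw [hQ, tG_inv, tG_mul, show tG (tG P) = P from Units.ext (Matrix.transpose_transpose _)]
    rw [hM, tG_mul, tQ, td]
  obtain ⟨K, hK⟩ : ∃ K, K = Subgroup.closure (Set.range γ) := ⟨_, rfl⟩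
  have hγK : ∀ j, γ j ∈ K := fun j => hK ▸ Subgroup.subset_closure ⟨j, rfl⟩
  have hdec : ∀ u ∈ R, ∃ v ∈ K, u = v ∨ u = v * z := by
    intro u hu
    have hnK : (-1 : G4) ∈ K := by
      have : γ 0 * γ 1 * (γ 0 * γ 1) = -1 := by simp [hγ, mul_assoc, aa, bb, aa', bb', ab, ab']
      exact this ▸ mul_mem (mul_mem (hγK 0) (hγK 1)) (mul_mem (hγK 0) (hγK 1))
    have hneg : ∀ x ∈ K, -x ∈ K := fun x hx => by rw [← neg_one_mul x]; exact mul_mem hnK hx
    have h01 : γ 0 = a ∧ γ 1 = b := by simp [hγ]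
    have hcd : c = -(γ 0 * (γ 1 * γ 2)) ∧ d = -(γ 0 * (γ 1 * γ 3)) := by
      constructor <;> simp [hγ, aa', bb', ab']
    have haK : E.a ∈ K := ha ▸ h01.1 ▸ hγK 0
    have hbK : E.b ∈ K := hb ▸ h01.2 ▸ hγK 1
    have hcK : E.c ∈ K := hc ▸ hcd.1 ▸ hneg _ (mul_mem (hγK 0) (mul_mem (hγK 1) (hγK 2)))
    have hdK : E.d ∈ K := hd ▸ hcd.2 ▸ hneg _ (mul_mem (hγK 0) (mul_mem (hγK 1) (hγK 3)))
    obtain ⟨q, hq⟩ := (E.mon_bijective S).2 ((⟨u, hu⟩ : R) : R ⧸ Subgroup.center R)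
    have hqK : E.mon q ∈ K := by
      refine mul_mem ?_ ?_
      · obtain ⟨j, k⟩ := q; fin_cases j <;> simp [Frame.P, mul_mem, one_mem, haK, hbK]
      · obtain ⟨j, k⟩ := q; fin_cases k <;> simp [Frame.M, mul_mem, one_mem, hcK, hdK]
    obtain ⟨t, htdef⟩ : ∃ t : R, t = (⟨E.mon q, E.mon_mem q⟩ : R)⁻¹ * ⟨u, hu⟩ := ⟨_, rfl⟩
    have htc : t ∈ Subgroup.center R := htdef ▸ QuotientGroup.eq.1 hq
    have hue : u = E.mon q * t := by rw [htdef]; exact (mul_inv_cancel_left (E.mon q) u).symm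
    obtain ⟨s, hs'⟩ := S.sc_of_center t.2 htc
    have hs4 : s * s = 1 ∨ s * s = -1 := by
      rcases S.sq _ t.2 with e | e
      · left
        simpa [hs'] using congrArg (fun g : G4 => (g : M4) 0 0) e
      · right
        simpa [hs'] using congrArg (fun g : G4 => (g : M4) 0 0) e
    rcases hs4 with e | e
    · refine ⟨u, ?_, Or.inl rfl⟩
      rw [hue]
      refine mul_mem hqK ?_
      rcases mul_self_eq_one_iff.1 e with rfl | rfl
      · rw [show (t : G4) = 1 from Units.ext (by simpa using hs')]; exact one_mem K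
      · rw [show (t : G4) = -1 from Units.ext (by simpa using hs')]; exact hnK
    · have hsz : (t : G4) = z ∨ (t : G4) = -z := by
        rcases mul_self_eq_mul_self_iff.1 (e.trans hμ.symm) with rfl | rfl
        · exact Or.inl (Units.ext (by rw [hs', hμv]))
        · exact Or.inr (Units.ext (by rw [hs', Units.val_neg, hμv, neg_smul]))
      rcases hsz with e' | e'
      · exact ⟨_, hqK, Or.inr (by rw [hue, e'])⟩
      · exact ⟨_, hneg _ hqK, Or.inr (by rw [hue, e', neg_mul, mul_neg])⟩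
  have D : Five R M γ z := ⟨S, h64, hzR, ⟨μ, hμv⟩, hzz, hskew, hmem, hsq, hanti, htr, fun u hu => hK ▸ hdec u hu⟩
  refine ⟨P, M, γ, z, D, ?_⟩
  have hPM : (P : M4)ᵀ * (M : M4) * (P : M4) = ((P⁻¹ * d * P : G4) : M4) := by
    rw [← tG_val, ← Units.val_mul, ← Units.val_mul, hM, hQ]
    congr 1
    group
  rw [hPM, kD]
  ext (j | j) (k | k) <;> fin_cases j <;> fin_cases k <;>
    simp [Matrix.J, Matrix.fromBlocks, finSumFinEquiv]


set_option maxHeartbeats 1000000 in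
theorem linear_four_normalizer_maximal [Fintype F] :
    (∃ p : ℕ, p.Prime ∧ Fintype.card F = p ∧ p % 4 = 1) → ∀ R : Subgroup (Matrix.GeneralLinearGroup (Fin 4) F),
      Cfsg.Geo.IsLinearSymplecticTypeData 2 R → Cfsg.Geo.IsMaximalIn (Cfsg.Geo.specialLinear (Fin 4) F)
        (Cfsg.Geo.subgroupNormalizer R ⊓ Cfsg.Geo.specialLinear (Fin 4) F) := by
  classical
  rintro ⟨p, hp, hF, hp4⟩ R hdata
  have h2 : (2 : F) ≠ 0 := by
    intro h
    haveI : Fact p.Prime := ⟨hp⟩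
    haveI := charP_of_card_eq_prime hF
    have h' : ((2 : ℕ) : F) = 0 := by exact_mod_cast h
    have := (Nat.prime_dvd_prime_iff_eq hp Nat.prime_two).1 ((CharP.cast_eq_zero_iff F p 2).1 h')
    omega
  obtain ⟨hs, hirr, p', e', -, -, hcase⟩ := hdata
  obtain ⟨hZ, m, hm⟩ : Nat.card (Subgroup.center R) = 4 ∧ ∃ m : ℕ, Nat.card R = 2 ^ (2 + 2 * m) := by
    rcases hcase with ⟨h, -⟩ | ⟨-, -, hZ, -, hm⟩ | ⟨-, -, h, -⟩
    · exact absurd h (by decide)
    · exact ⟨hZ, hm⟩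
    · simp at h
  have h64 := symp_type_card h2 hs hirr hZ hm
  obtain ⟨P, M, γ, z, D, hJ⟩ := exists_five h2 hs hirr h64 hZ
  -- the change of coordinates
  obtain ⟨ψ, hψ⟩ : ∃ ψ : M4 ≃ₐ[F] Matrix (Fin 2 ⊕ Fin 2) (Fin 2 ⊕ Fin 2) F,
      ∀ X, ψ X = (((P⁻¹ : G4) : M4) * X * (P : M4)).submatrix finSumFinEquiv finSumFinEquiv :=
    ⟨{ toFun := fun X => (((P⁻¹ : G4) : M4) * X * (P : M4)).submatrix finSumFinEquiv finSumFinEquiv
       invFun := fun Y => (P : M4) * Y.submatrix finSumFinEquiv.symm finSumFinEquiv.symm * ((P⁻¹ : G4) : M4)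
       left_inv := fun X => by
        dsimp only
        rw [Matrix.submatrix_submatrix, Equiv.self_comp_symm, Matrix.submatrix_id_id]
        simp [mul_assoc]
       right_inv := fun Y => by
        dsimp only
        rw [show ((P⁻¹ : G4) : M4) * ((P : M4) * Y.submatrix finSumFinEquiv.symm finSumFinEquiv.symm *
          ((P⁻¹ : G4) : M4)) * (P : M4) = Y.submatrix finSumFinEquiv.symm finSumFinEquiv.symm by simp [mul_assoc],
          Matrix.submatrix_submatrix, Equiv.symm_comp_self, Matrix.submatrix_id_id]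
       map_mul' := fun X Y => by
        rw [Matrix.submatrix_mul_equiv]; congr 1; simp [mul_assoc]
       map_add' := fun X Y => by
        rw [mul_add, add_mul]; rfl
       commutes' := fun r => by
        simp [Algebra.algebraMap_eq_smul_one, Matrix.submatrix_smul] }, fun _ => rfl⟩
  refine D.maximal ψ (hF ▸ hp) hZ fun g => ?_
  rw [mem_spGL_iff_mat]
  have hv : ((Units.mapEquiv ψ.toMulEquiv g : GL (Fin 2 ⊕ Fin 2) F) : Matrix (Fin 2 ⊕ Fin 2) (Fin 2 ⊕ Fin 2) F) =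
      ψ (g : M4) := rfl
  rw [hv, hψ, hJ, Matrix.transpose_submatrix, Matrix.submatrix_mul_equiv, Matrix.submatrix_mul_equiv, mem_isoG]
  constructor
  · intro h
    have h' := congrArg (fun Y => Y.submatrix finSumFinEquiv.symm finSumFinEquiv.symm) h
    simp only [Matrix.submatrix_submatrix, Equiv.self_comp_symm, Matrix.submatrix_id_id] at h'
    have h'' : tG (P⁻¹ * g * P) * (tG P * M * P) * (P⁻¹ * g * P) = tG P * M * P :=
      Units.ext (by simpa only [Units.val_mul, tG_val] using h')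
    rw [tG_mul, tG_mul, tG_inv] at h''
    refine mul_right_cancel (b := P) (mul_left_cancel (a := tG P) ?_)
    simpa [mul_assoc] using h''
  · intro h
    have h'' : tG (P⁻¹ * g * P) * (tG P * M * P) * (P⁻¹ * g * P) = tG P * M * P := by
      rw [tG_mul, tG_mul, tG_inv]
      conv_rhs => rw [← h]
      group
    have h' := congrArg Units.val h''
    simp only [Units.val_mul, tG_val] at h'
    rw [h']
where
  mem_spGL_iff_mat {g : GL (Fin 2 ⊕ Fin 2) F} :
      g ∈ spGL 2 F ↔ (g : Matrix (Fin 2 ⊕ Fin 2) (Fin 2 ⊕ Fin 2) F)ᵀ * Matrix.J (Fin 2) F *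
        (g : Matrix (Fin 2 ⊕ Fin 2) (Fin 2 ⊕ Fin 2) F) = Matrix.J (Fin 2) F :=
    MaxTv.mem_spGL.trans (mem_symplecticGroup_iff_form.symm.trans SymplecticGroup.mem_iff')

end Cfsg.Agent.Classical.LinFour
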