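import Cfsg.Agent.Lib.Classical.CliffordFourPairs

/-!
The order of an absolutely irreducible two-group of symplectic type with centre of order four in dimension four.
-/

set_option autoImplicit false
set_option linter.unusedSectionVars false
set_option linter.style.haveILetI false

namespace Cfsg.Agent.Classical.LinFour

open Matrix Module CliffordFour

theorem symp_type_card {F : Type*} [Field F] [Fintype F] (h2 : (2 : F) ≠ 0) {R : Subgroup (GL (Fin 4) F)}
    (hs : Cfsg.Geo.IsSymplecticTypeGroup 2 R)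
    (hirr : Cfsg.Geo.ActsAbsolutelyIrreducibly (Cfsg.Geo.matrixSet R))
    (hZ : Nat.card (Subgroup.center R) = 4) {m : ℕ} (hm : Nat.card R = 2 ^ (2 + 2 * m)) :
    Nat.card R = 64 := by
  classical
  have h4 : ∀ x : R, x ^ 4 = 1 := fun x => by
    have h := Monoid.pow_exponent_eq_one x
    rwa [hs.exponent_eq] at h
  obtain ⟨hsq, hcm, -⟩ := Fus.SympPair.symp_facts (T := R) ⟨hs.pGroup, hs.cyclic_of_characteristic⟩ h4
  have hsc : ∀ M : Matrix (Fin 4) (Fin 4) F,
      (∀ g ∈ R, M * (g : Matrix (Fin 4) (Fin 4) F) = (g : Matrix (Fin 4) (Fin 4) F) * M) → ∃ z : F, M = z • 1 :=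
    fun M hM => hirr.2 M (by rintro _ ⟨g, hg, rfl⟩; exact hM g hg)
  have hsinj : ∀ {s t : F}, s • (1 : Matrix (Fin 4) (Fin 4) F) = t • 1 → s = t := fun {s t} h =>
    smul_left_injective F one_ne_zero h
  have hscc : ∀ {g : GL (Fin 4) F} (hg : g ∈ R), (⟨g, hg⟩ : R) ∈ Subgroup.center R → Sc g := fun {g} hg h =>
    hsc _ fun u hu => by
      simpa using (congrArg (fun x : R => ((x : GL (Fin 4) F) : Matrix (Fin 4) (Fin 4) F))
        (Subgroup.mem_center_iff.1 h ⟨u, hu⟩)).symm
  have hcs : ∀ {g : R}, Sc (g : GL (Fin 4) F) → g ∈ Subgroup.center R := fun {g} h =>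
    Subgroup.mem_center_iff.2 fun u => Subtype.ext (h.comm (u : GL (Fin 4) F)).symm
  have hcen : ∀ z : R, z ∈ Subgroup.center R → z ^ 2 = 1 →
      (z : GL (Fin 4) F) = 1 ∨ (z : GL (Fin 4) F) = -1 := by
    intro z hz hz2
    obtain ⟨s, hs'⟩ := hscc z.2 hz
    have h := congrArg (fun u : R => ((u : GL (Fin 4) F) : Matrix (Fin 4) (Fin 4) F)) hz2
    simp only [SubmonoidClass.coe_pow, Units.val_pow_eq_pow_val, hs', OneMemClass.coe_one, Units.val_one, smul_pow,
      one_pow] at h
    rcases mul_self_eq_one_iff.1 ((pow_two s).symm.trans (hsinj (h.trans (one_smul F _).symm))) with rfl | rfl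
    · exact Or.inl (Units.ext (by rw [hs', one_smul, Units.val_one]))
    · exact Or.inr (Units.ext (by rw [hs', neg_one_smul, Units.val_neg, Units.val_one]))
  have hcomm : ∀ g ∈ R, ∀ h ∈ R, g * h = h * g ∨ g * h = -(h * g) := fun g hg h hh => by
    obtain ⟨h1, h3⟩ := hcm ⟨g, hg⟩ ⟨h, hh⟩
    rcases hcen _ h1 h3 with e | e
    · left
      simp [commutatorElement_def] at e
      rw [mul_inv_eq_one, mul_inv_eq_iff_eq_mul] at e
      exact e
    · right
      simp [commutatorElement_def] at e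
      rw [mul_inv_eq_iff_eq_mul, mul_inv_eq_iff_eq_mul] at e
      simpa using e
  haveI : Fintype (R ⧸ Subgroup.center R) := Fintype.ofFinite _
  have hq := Subgroup.card_eq_card_quotient_mul_card_subgroup (Subgroup.center R)
  rw [hm, hZ, pow_add, pow_mul, show (2 : ℕ) ^ 2 = 4 by norm_num] at hq
  have hq' : Fintype.card (R ⧸ Subgroup.center R) = 4 ^ m := by
    rw [← Nat.card_eq_fintype_card]
    omega
  obtain ⟨vec, hvec⟩ : ∃ vec : R ⧸ Subgroup.center R → Matrix (Fin 4) (Fin 4) F,
      ∀ q, vec q = (((q.out : R) : GL (Fin 4) F) : Matrix (Fin 4) (Fin 4) F) := ⟨_, fun _ => rfl⟩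
  have htr : ∀ g ∈ R, ¬ Sc g → (g : Matrix (Fin 4) (Fin 4) F).trace = 0 := fun g hg hns => by
    obtain ⟨h, hh, hgh⟩ : ∃ h ∈ R, g * h = -(h * g) := by
      by_contra hcon
      push Not at hcon
      exact hns (hsc _ fun u hu => congrArg Units.val ((hcomm g hg u hu).resolve_right (hcon u hu)))
    have e : ((h⁻¹ : GL (Fin 4) F) : Matrix (Fin 4) (Fin 4) F) * (g : Matrix (Fin 4) (Fin 4) F) * h = -(g : Matrix (Fin 4) (Fin 4) F) := by
      rw [← Units.val_mul, ← Units.val_mul, ← Units.val_neg]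
      refine congrArg Units.val ?_
      rw [mul_assoc, hgh, mul_neg, ← mul_assoc, inv_mul_cancel, one_mul]
    have h3 := congrArg Matrix.trace e
    rw [Matrix.trace_units_conj', Matrix.trace_neg] at h3
    exact (mul_eq_zero.1 (show (2 : F) * (g : Matrix (Fin 4) (Fin 4) F).trace = 0 by linear_combination h3)).resolve_left h2
  have hLI : LinearIndependent F vec := by
    rw [Fintype.linearIndependent_iff]
    intro c hc q
    have h := congrArg (fun M : Matrix (Fin 4) (Fin 4) F =>
      (M * (((q.out : R)⁻¹ : R) : GL (Fin 4) F)).trace) hc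
    simp only [Finset.sum_mul, Matrix.trace_sum, zero_mul, Matrix.trace_zero, smul_mul, Matrix.trace_smul] at h
    rw [Finset.sum_eq_single q (fun b _ hb => ?_) (by simp)] at h
    · have e : vec q * ((((q.out : R)⁻¹ : R) : GL (Fin 4) F) : Matrix (Fin 4) (Fin 4) F) = 1 := by
        simp only [hvec, ← Units.val_mul, ← Subgroup.coe_mul, mul_inv_cancel, OneMemClass.coe_one, Units.val_one]
      rw [e, Matrix.trace_one, Fintype.card_fin] at h
      refine (mul_eq_zero.1 h).resolve_right fun h4' => h2 (pow_eq_zero_iff two_ne_zero |>.1 ?_)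
      rw [pow_two]; push_cast at h4'; linear_combination h4'
    · have e : (vec b * ((((q.out : R)⁻¹ : R) : GL (Fin 4) F) : Matrix (Fin 4) (Fin 4) F)).trace = 0 := by
        simp only [hvec, ← Units.val_mul, ← Subgroup.coe_mul]
        refine htr _ (b.out * q.out⁻¹).2 fun h => hb ?_
        have h1 := (QuotientGroup.eq_one_iff _).2 (hcs (g := b.out * q.out⁻¹) h)
        rwa [QuotientGroup.mk_mul, QuotientGroup.mk_inv, QuotientGroup.out_eq', QuotientGroup.out_eq',
          mul_inv_eq_one] at h1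
      rw [e, smul_zero]
  have hle : 4 ^ m ≤ 16 := by
    rw [← hq']
    refine hLI.fintype_card_le_finrank.trans ?_
    simp [Module.finrank_matrix]
  -- the orbit space of a vector
  have hspan : ∀ v : Fin 4 → F, v ≠ 0 → ∀ T : Finset (R ⧸ Subgroup.center R),
      (∀ q, ∃ q' ∈ T, ∃ c : F, vec q *ᵥ v = c • (vec q' *ᵥ v)) → 4 ≤ T.card := by
    intro v hv T hT
    obtain ⟨W, hW⟩ : ∃ W, W = Submodule.span F (((T.image fun q => vec q *ᵥ v) : Finset (Fin 4 → F)) : Set (Fin 4 → F)) :=
      ⟨_, rfl⟩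
    have hmem : ∀ g ∈ R, (g : Matrix (Fin 4) (Fin 4) F) *ᵥ v ∈ W := fun g hg => by
      obtain ⟨q, hq⟩ : ∃ q, q = ((⟨g, hg⟩ : R) : R ⧸ Subgroup.center R) := ⟨_, rfl⟩
      obtain ⟨z, hz⟩ := hscc ((q.out : R)⁻¹ * ⟨g, hg⟩).2
        (QuotientGroup.eq.1 ((QuotientGroup.out_eq' q).trans hq))
      have e : (g : Matrix (Fin 4) (Fin 4) F) = z • vec q := by
        have e1 : (g : Matrix (Fin 4) (Fin 4) F) = vec q * ((((q.out : R)⁻¹ * ⟨g, hg⟩ : R) : GL (Fin 4) F) : Matrix (Fin 4) (Fin 4) F) := by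
          rw [hvec, ← Units.val_mul, ← Subgroup.coe_mul, mul_inv_cancel_left]
        rw [e1, hz, Matrix.mul_smul, mul_one]
      obtain ⟨q', hq', c, hc⟩ := hT q
      rw [e, Matrix.smul_mulVec, hc, smul_smul, hW]
      exact Submodule.smul_mem _ _ (Submodule.subset_span (Finset.mem_coe.2 (Finset.mem_image_of_mem _ hq')))
    have htop : W = ⊤ := by
      refine (hirr.1 W ?_).resolve_left fun h0 => hv (by
        have := hmem 1 (one_mem R)
        rwa [h0, Submodule.mem_bot, Units.val_one, Matrix.one_mulVec] at this)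
      rintro _ ⟨g, hg, rfl⟩
      rw [hW, Submodule.map_span_le]
      intro x hx
      obtain ⟨q, -, rfl⟩ := Finset.mem_image.1 hx
      rw [Matrix.toLin'_apply, Matrix.mulVec_mulVec, hvec, ← Units.val_mul, ← hW]
      exact hmem _ (mul_mem hg (q.out : R).2)
    have h := finrank_span_finset_le_card (R := F) (T.image fun q => vec q *ᵥ v)
    rw [Set.finrank, ← hW, htop, finrank_top, finrank_fintype_fun_eq_card, Fintype.card_fin] at h
    exact h.trans Finset.card_image_le
  have hbig : 4 < 4 ^ m := by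
    by_contra hcon
    push Not at hcon
    obtain ⟨g, hg, hgs⟩ : ∃ g ∈ R, ¬ Sc g := by
      by_contra hall
      push Not at hall
      have hv : (Pi.single 0 1 : Fin 4 → F) ≠ 0 := by simp
      have h := hspan _ hv {((1 : R) : R ⧸ Subgroup.center R)} fun q => by
        obtain ⟨z, hz⟩ := hall _ (q.out : R).2
        obtain ⟨z', hz'⟩ := hall _ (((1 : R) : R ⧸ Subgroup.center R).out : R).2
        refine ⟨_, Finset.mem_singleton_self _, z / z', ?_⟩
        have hz0 : z' ≠ 0 := fun h0 => by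
          have := (((1 : R) : R ⧸ Subgroup.center R).out : GL (Fin 4) F).det_ne_zero
          rw [hz', h0] at this
          simp at this
        rw [hvec, hvec, hz, hz', Matrix.smul_mulVec, Matrix.smul_mulVec, smul_smul, div_mul_cancel₀ _ hz0]
      simp at h
    -- an involution which is not scalar
    obtain ⟨u, huR, huu, hus⟩ : ∃ u ∈ R, u * u = 1 ∧ ¬ Sc u := by
      obtain ⟨h1, h3⟩ := hsq ⟨g, hg⟩
      rcases hcen _ h1 h3 with e | e
      · exact ⟨g, hg, by simpa [pow_two] using e, hgs⟩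
      have hgg : g * g = -1 := by simpa [pow_two] using e
      obtain ⟨z, hzR, hzs, hzz⟩ : ∃ z ∈ R, Sc z ∧ z * z = -1 := by
        by_contra hno
        push Not at hno
        have hle2 : (fun z : Subgroup.center R => ((z : R) : GL (Fin 4) F)) '' Set.univ ⊆ {1, -1} := by
          rintro _ ⟨⟨z, hzc⟩, -, rfl⟩
          obtain ⟨h1', h3'⟩ := hsq z
          rcases hcen _ h1' h3' with e' | e'
          · refine hcen z hzc ?_
            rw [pow_two] at e' ⊢
            exact Subtype.ext (by simpa using e')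
          · exact absurd (by simpa [pow_two] using e') (hno z z.2 (hscc z.2 hzc))
        have h1' := Set.ncard_le_ncard hle2 ((Set.finite_singleton _).insert _)
        rw [Set.ncard_image_of_injective _ (fun z z' e' => Subtype.ext (Subtype.ext e')), Set.ncard_univ, hZ] at h1'
        have h2' : ({1, -1} : Set (GL (Fin 4) F)).ncard ≤ 2 :=
          (Set.ncard_insert_le _ _).trans (by rw [Set.ncard_singleton])
        omega
      refine ⟨z * g, mul_mem hzR hg, ?_, ?_⟩
      · rw [show z * g * (z * g) = z * (g * z) * g by group, ← hzs.comm g, ← mul_assoc, hzz, mul_assoc, hgg]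
        simp
      · rintro ⟨s, hs'⟩
        obtain ⟨t, ht⟩ := hzs
        have ht0 : t ≠ 0 := fun h0 => by
          have := z.det_ne_zero
          rw [ht, h0] at this
          simp at this
        refine hgs ⟨t⁻¹ * s, ?_⟩
        rw [Units.val_mul, ht, Matrix.smul_mul, one_mul] at hs'
        rw [← smul_smul, ← hs', smul_smul, inv_mul_cancel₀ ht0, one_smul]
    obtain ⟨v, hv, huv⟩ : ∃ v : Fin 4 → F, v ≠ 0 ∧ (u : Matrix (Fin 4) (Fin 4) F) *ᵥ v = v := by
      have hne : (u : Matrix (Fin 4) (Fin 4) F) + 1 ≠ 0 := fun h => hus ⟨-1, by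
        rw [neg_one_smul]; exact eq_neg_of_add_eq_zero_left h⟩
      obtain ⟨w, hw⟩ : ∃ w, ((u : Matrix (Fin 4) (Fin 4) F) + 1) *ᵥ w ≠ 0 := by
        by_contra hno
        push Not at hno
        exact hne (Matrix.ext_iff_mulVec.2 fun w => by rw [hno w, Matrix.zero_mulVec])
      refine ⟨_, hw, ?_⟩
      rw [Matrix.mulVec_mulVec, mul_add, mul_one, ← Units.val_mul, huu, Units.val_one, add_comm]
    obtain ⟨q₁, hq₁⟩ : ∃ q₁, q₁ = ((⟨u, huR⟩ : R) : R ⧸ Subgroup.center R) := ⟨_, rfl⟩
    have hne : q₁ ≠ 1 := fun e => hus (hscc huR ((QuotientGroup.eq_one_iff _).1 (hq₁ ▸ e)))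
    have h := hspan v hv (Finset.univ.erase q₁) fun q => by
      rcases eq_or_ne q q₁ with rfl | hq2
      · obtain ⟨z, hz⟩ := hscc ((q.out : R)⁻¹ * ⟨u, huR⟩).2 (QuotientGroup.eq.1 ((QuotientGroup.out_eq' q).trans hq₁))
        obtain ⟨z₁, hz₁⟩ : ∃ z₁ : F, vec 1 = z₁ • 1 := by
          rw [hvec]
          exact hscc ((1 : R ⧸ Subgroup.center R).out : R).2 (by rw [Subtype.coe_eta, ← QuotientGroup.eq_one_iff, QuotientGroup.out_eq'])
        have hz0 : z ≠ 0 := fun h0 => by
          have := (((q.out : R)⁻¹ * ⟨u, huR⟩ : R) : GL (Fin 4) F).det_ne_zero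
          rw [hz, h0] at this
          simp at this
        have hz10 : z₁ ≠ 0 := fun h0 => by
          have := (((1 : R ⧸ Subgroup.center R).out : R) : GL (Fin 4) F).det_ne_zero
          rw [← hvec, hz₁, h0] at this
          simp at this
        refine ⟨1, by simp [hne.symm], z⁻¹ / z₁, ?_⟩
        have e1 : (u : Matrix (Fin 4) (Fin 4) F) = z • vec q := by
          have e2 : (u : Matrix (Fin 4) (Fin 4) F) = vec q * ((((q.out : R)⁻¹ * ⟨u, huR⟩ : R) : GL (Fin 4) F) : Matrix (Fin 4) (Fin 4) F) := by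
            rw [hvec, ← Units.val_mul, ← Subgroup.coe_mul, mul_inv_cancel_left]
          rw [e2, hz, Matrix.mul_smul, mul_one]
        rw [e1, Matrix.smul_mulVec] at huv
        rw [hz₁, Matrix.smul_mulVec, Matrix.one_mulVec, smul_smul, div_mul_cancel₀ _ hz10]
        conv_rhs => rw [← huv, smul_smul, inv_mul_cancel₀ hz0, one_smul]
      · exact ⟨q, by simp [hq2], 1, (one_smul F _).symm⟩
    rw [Finset.card_erase_of_mem (Finset.mem_univ _), Finset.card_univ, hq'] at h
    omega
  have hm2 : m = 2 := by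
    rcases Nat.lt_trichotomy m 2 with h | h | h
    · interval_cases m <;> simp at hbig
    · exact h
    · have : 4 ^ 3 ≤ 4 ^ m := Nat.pow_le_pow_right (by norm_num) h
      omega
  rw [hm, hm2]
  norm_num

end Cfsg.Agent.Classical.LinFour
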