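import Cfsg.Agent.Lib.Classical.LinFour.C6Five

/-!
A skew matrix whose conjugate is its inverse: a basis of vectors rational for it in which it is standard.
-/

set_option autoImplicit false
set_option linter.unusedSectionVars false
set_option linter.style.haveILetI false
set_option quotPrecheck false

namespace Cfsg.Agent.Classical.LinFour

open Matrix Module CliffordFour

variable {F : Type*} [Field F]

local notation "G4" => GL (Fin 4) F
local notation "M4" => Matrix (Fin 4) (Fin 4) F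
local notation "V4" => (Fin 4 → F)

/-- Conjugation of the entries. -/
def cG (σ : F ≃+* F) : GL (Fin 4) F →* GL (Fin 4) F := Matrix.GeneralLinearGroup.map σ.toRingHom

theorem cG_val (σ : F ≃+* F) (g : G4) : ((cG σ g : G4) : M4) = (g : M4).map σ := rfl

theorem cG_tG (σ : F ≃+* F) (g : G4) : cG σ (tG g) = tG (cG σ g) :=
  Units.ext (by rw [cG_val, tG_val, tG_val, cG_val, Matrix.transpose_map])

theorem cG_neg (σ : F ≃+* F) (g : G4) : cG σ (-g) = -cG σ g :=
  Units.ext (by ext a b; simp [cG_val])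

/-- The standard alternating matrix. -/
def jStd (F : Type*) [Field F] : Matrix (Fin 4) (Fin 4) F :=
  (Matrix.J (Fin 2) F).submatrix (finSumFinEquiv : Fin 2 ⊕ Fin 2 ≃ Fin 4).symm (finSumFinEquiv : Fin 2 ⊕ Fin 2 ≃ Fin 4).symm

theorem exists_real [Fintype F] {σ : F ≃+* F} (hinv : ∀ x, σ (σ x) = x) {F₀ : Subfield F}
    (hfix : ∀ x, σ x = x ↔ x ∈ F₀) (h2 : (2 : F) ≠ 0) {τ : F} (hτ0 : τ ≠ 0) (hτ : σ τ = -τ) (M : GL (Fin 4) F)
    (hskew : tG M = -M) (hMM : cG σ M * M = 1) :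
    ∃ (P : GL (Fin 4) F) (ν : F), ν ≠ 0 ∧ cG σ P = M * P ∧
      (P : M4)ᵀ * (M : M4) * (P : M4) = ν • jStd F := by
  classical
  obtain ⟨Mi, hMi⟩ : ∃ Mi, Mi = ((M⁻¹ : G4) : M4) := ⟨_, rfl⟩
  have hcMi : ((M : G4) : M4) = Mi.map σ := by
    have h := congrArg (cG σ) (eq_inv_of_mul_eq_one_left hMM)
    rw [show cG σ (cG σ M) = M from Units.ext (by ext a b; simp [cG_val, hinv])] at h
    rw [hMi, ← cG_val, ← h]
  have hMMi : (M : M4) * Mi = 1 := by rw [hMi, Units.mul_inv]
  let w : Fin 4 × Bool → V4 := fun kb =>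
    if kb.2 then τ • (Pi.single kb.1 1 - Mi *ᵥ Pi.single kb.1 1) else Pi.single kb.1 1 + Mi *ᵥ Pi.single kb.1 1
  have hw : ∀ kb, (fun j => σ (w kb j)) = (M : M4) *ᵥ w kb := by
    rintro ⟨k, b⟩
    have h0 : (fun j => σ ((Mi *ᵥ Pi.single k 1) j)) = (M : M4) *ᵥ Pi.single k 1 := funext fun j => by
      rw [hcMi, Matrix.mulVec_single_one, Matrix.mulVec_single_one]; rfl
    have h1 : (fun j => σ ((Pi.single k 1 : V4) j)) = Pi.single k 1 := funext fun j => by
      by_cases h : j = k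
      · subst h; simp
      · simp [h]
    have hM1 : (M : M4) *ᵥ (Mi *ᵥ Pi.single k 1) = Pi.single k 1 := by
      rw [Matrix.mulVec_mulVec, hMMi, Matrix.one_mulVec]
    cases b
    · simp only [w, Bool.false_eq_true, if_false, Matrix.mulVec_add, hM1]
      funext j
      rw [Pi.add_apply, map_add, congrFun h0 j, congrFun h1 j, Pi.add_apply, add_comm]
    · simp only [w, if_true, Matrix.mulVec_smul, Matrix.mulVec_sub, hM1]
      funext j
      rw [Pi.smul_apply, smul_eq_mul, map_mul, Pi.sub_apply, map_sub, congrFun h0 j, congrFun h1 j, hτ,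
        Pi.smul_apply, Pi.sub_apply, smul_eq_mul]
      ring
  have hspan : Submodule.span F (Set.range w) = ⊤ := by
    refine eq_top_iff.2 fun v _ => ?_
    rw [pi_eq_sum_univ' v]
    refine Submodule.sum_mem _ fun k _ => Submodule.smul_mem _ _ ?_
    have e : (Pi.single k 1 : V4) = (2 : F)⁻¹ • w (k, false) + ((2 : F)⁻¹ * τ⁻¹) • w (k, true) := by
      simp only [w, Bool.false_eq_true, if_false, if_true]
      match_scalars <;> field_simp <;> ring
    rw [e]
    exact add_mem (Submodule.smul_mem _ _ (Submodule.subset_span ⟨_, rfl⟩))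
      (Submodule.smul_mem _ _ (Submodule.subset_span ⟨_, rfl⟩))
  obtain ⟨b, hbS, hbspan, hbli⟩ := exists_linearIndependent F (Set.range w)
  let bas : Basis b F V4 := Basis.mk hbli (by rw [Subtype.range_coe, hbspan, hspan])
  let bb : Basis (Fin 4) F V4 := bas.reindex (bas.indexEquiv (Pi.basisFun F (Fin 4)))
  have hbb : ∀ k, (fun j => σ (bb k j)) = (M : M4) *ᵥ bb k := fun k => by
    obtain ⟨x, hx⟩ : ∃ x : b, bb k = (x : V4) := ⟨(bas.indexEquiv (Pi.basisFun F (Fin 4))).symm k, by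
      simp [bb, bas, Basis.reindex_apply, Basis.mk_apply]⟩
    obtain ⟨kb, hkb⟩ := hbS x.2
    rw [hx, ← hkb]
    exact hw kb
  obtain ⟨B, hB⟩ := MaxTv.exists_gl_of_injective (Fintype.linearCombination F bb)
    bb.linearIndependent.fintypeLinearCombination_injective
  have hBe : ∀ j k, (B : M4) j k = bb k j := fun j k => by
    have h := congrFun (hB (Pi.single k 1)) j
    rw [Matrix.mulVec_single_one, Fintype.linearCombination_apply_single, one_smul] at h
    exact h
  have hcB : cG σ B = M * B := Units.ext (by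
    ext j k
    rw [cG_val, Matrix.map_apply, hBe, congrFun (hbb k) j, Units.val_mul, Matrix.mul_apply, Matrix.mulVec, dotProduct]
    exact Finset.sum_congr rfl fun l _ => by rw [hBe])
  -- the rational Gram matrix
  obtain ⟨S, hS⟩ : ∃ S : G4, S = tG B * M * B := ⟨_, rfl⟩
  have hcS : cG σ S = -S := by
    rw [hS, map_mul, map_mul, cG_tG, hcB, eq_inv_of_mul_eq_one_left hMM, tG_mul, hskew]
    simp [mul_assoc]
  obtain ⟨X, hX⟩ : ∃ X, X = τ • (S : M4) := ⟨_, rfl⟩
  have hXfix : ∀ j k, σ (X j k) = X j k := fun j k => by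
    have h := congrArg (fun u : G4 => (u : M4) j k) hcS
    simp only [cG_val, Matrix.map_apply, Units.val_neg, Matrix.neg_apply] at h
    rw [hX, Matrix.smul_apply, smul_eq_mul, map_mul, hτ, h, neg_mul_neg]
  obtain ⟨X₀, hX₀⟩ : ∃ X₀ : Matrix (Fin 4) (Fin 4) F₀, X₀.map F₀.subtype = X :=
    ⟨fun j k => ⟨X j k, (hfix _).1 (hXfix j k)⟩, rfl⟩
  have hSs : (S : M4)ᵀ = -(S : M4) := by
    rw [hS, ← tG_val, ← Units.val_neg]
    congr 1
    rw [tG_mul, tG_mul, hskew, show tG (tG B) = B from Units.ext (Matrix.transpose_transpose _)]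
    simp [mul_assoc]
  have hX₀s : X₀ᵀ = -X₀ := Matrix.map_injective F₀.subtype.injective (by
    show X₀ᵀ.map F₀.subtype = (-X₀).map F₀.subtype
    rw [Matrix.transpose_map, hX₀, Matrix.map_neg _ (map_neg _), hX₀, hX, Matrix.transpose_smul, hSs, smul_neg])
  have hX₀d : X₀.det ≠ 0 := fun e => by
    have h := congrArg F₀.subtype e
    rw [map_zero, RingHom.map_det, RingHom.mapMatrix_apply, hX₀, hX, Matrix.det_smul] at h
    exact mul_ne_zero (pow_ne_zero _ hτ0) S.det_ne_zero h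
  have h20 : (2 : F₀) ≠ 0 := fun e => h2 (by simpa [map_ofNat] using congrArg F₀.subtype e)
  have hsim : FormSim.Similar X₀ ((Matrix.J (Fin 2) F₀).submatrix (finSumFinEquiv : Fin 2 ⊕ Fin 2 ≃ Fin 4).symm (finSumFinEquiv : Fin 2 ⊕ Fin 2 ≃ Fin 4).symm) :=
    (FormSim.similar_J X₀ (by simp) hX₀d (FormSim.bf_self_zero_of_skew h20 hX₀s)).trans
      (FormSim.similar_reindex _ (finSumFinEquiv : Fin 2 ⊕ Fin 2 ≃ Fin 4).symm)
  obtain ⟨P₀, c, hP₀⟩ := hsim.exists_matrix
  obtain ⟨P', hP'⟩ : ∃ P' : G4, P' = Matrix.GeneralLinearGroup.map F₀.subtype P₀ := ⟨_, rfl⟩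
  have hcP' : cG σ P' = P' := Units.ext (by
    ext j k
    rw [cG_val, Matrix.map_apply, hP']
    exact (hfix _).2 ((P₀ : Matrix (Fin 4) (Fin 4) F₀) j k).2)
  refine ⟨B * P', τ⁻¹ * ((c : F₀) : F), mul_ne_zero (inv_ne_zero hτ0) fun e => c.ne_zero (Subtype.ext e), ?_, ?_⟩
  · rw [map_mul, hcB, hcP', mul_assoc]
  · have h := congrArg (fun Y : Matrix (Fin 4) (Fin 4) F₀ => Y.map F₀.subtype) hP₀
    simp only [Matrix.map_mul, Matrix.transpose_map, hX₀] at h
    have hP'v : (P' : M4) = (P₀ : Matrix (Fin 4) (Fin 4) F₀).map F₀.subtype := by rw [hP']; rfl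
    have hJ : ((c : F₀) • (Matrix.J (Fin 2) F₀).submatrix (finSumFinEquiv : Fin 2 ⊕ Fin 2 ≃ Fin 4).symm (finSumFinEquiv : Fin 2 ⊕ Fin 2 ≃ Fin 4).symm).map F₀.subtype =
        ((c : F₀) : F) • jStd F := by
      ext j k
      rcases hj : (finSumFinEquiv : Fin 2 ⊕ Fin 2 ≃ Fin 4).symm j with a | a <;> rcases hk : (finSumFinEquiv : Fin 2 ⊕ Fin 2 ≃ Fin 4).symm k with b | b <;>
        simp [jStd, hj, hk, Matrix.J, Matrix.one_apply, apply_ite Subtype.val]
    rw [hJ, ← hP'v, hX, Matrix.mul_smul, Matrix.smul_mul, hS, Units.val_mul, Units.val_mul, tG_val] at h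
    rw [Units.val_mul, Matrix.transpose_mul, mul_smul, ← h, smul_smul, inv_mul_cancel₀ hτ0, one_smul]
    simp only [mul_assoc]

end Cfsg.Agent.Classical.LinFour
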