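import Cfsg.Agent.Lib.Classical.LinFour.C6
import Cfsg.Agent.Lib.Classical.LinFour.C6Real
import Cfsg.Agent.Lib.Classical.MaxUnitSymp

/-!
The normaliser of a two-group of symplectic type with centre of order four is maximal in the special unitary group of
degree four over a field of prime square order.
-/

set_option autoImplicit false
set_option linter.unusedSectionVars false
set_option linter.style.haveILetI false
set_option quotPrecheck false

namespace Cfsg.Agent.Classical.LinFour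

open Matrix Module CliffordFour Cfsg

variable {F : Type*} [Field F]

local notation "G4" => GL (Fin 4) F
local notation "M4" => Matrix (Fin 4) (Fin 4) F
local notation "I4" => (Fin 2 ⊕ Fin 2)

/-- The rational matrices, re-indexed. -/
def ratHom (F₀ : Subfield F) : Matrix (Fin 2 ⊕ Fin 2) (Fin 2 ⊕ Fin 2) F₀ →+* Matrix (Fin 4) (Fin 4) F :=
  (F₀.subtype.mapMatrix).comp
    (Matrix.reindexAlgEquiv F₀ F₀ (finSumFinEquiv : Fin 2 ⊕ Fin 2 ≃ Fin 4)).toRingEquiv.toRingHom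

/-- The group of matrices rational for a basis. -/
def ratGL (F₀ : Subfield F) (P : GL (Fin 4) F) : GL (Fin 2 ⊕ Fin 2) F₀ →* GL (Fin 4) F :=
  (MulAut.conj P).toMonoidHom.comp (Units.map (ratHom F₀).toMonoidHom)

theorem ratHom_apply (F₀ : Subfield F) (X : Matrix (Fin 2 ⊕ Fin 2) (Fin 2 ⊕ Fin 2) F₀) (a b : Fin 4) :
    ratHom F₀ X a b = ((X ((finSumFinEquiv : Fin 2 ⊕ Fin 2 ≃ Fin 4).symm a)
      ((finSumFinEquiv : Fin 2 ⊕ Fin 2 ≃ Fin 4).symm b) : F₀) : F) := rfl

theorem ratHom_injective (F₀ : Subfield F) : Function.Injective (ratHom F₀) := fun X Y h => by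
  ext a b
  have := congrFun (congrFun h ((finSumFinEquiv : Fin 2 ⊕ Fin 2 ≃ Fin 4) a))
    ((finSumFinEquiv : Fin 2 ⊕ Fin 2 ≃ Fin 4) b)
  simpa [ratHom_apply] using this

theorem ratHom_transpose (F₀ : Subfield F) (X : Matrix (Fin 2 ⊕ Fin 2) (Fin 2 ⊕ Fin 2) F₀) :
    ratHom F₀ Xᵀ = (ratHom F₀ X)ᵀ := rfl

theorem ratHom_J (F₀ : Subfield F) : ratHom F₀ (Matrix.J (Fin 2) F₀) = jStd F := by
  ext a b
  rw [ratHom_apply]
  rcases ha : (finSumFinEquiv : Fin 2 ⊕ Fin 2 ≃ Fin 4).symm a with u | u <;>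
    rcases hb : (finSumFinEquiv : Fin 2 ⊕ Fin 2 ≃ Fin 4).symm b with v | v <;>
    simp [jStd, ha, hb, Matrix.J, Matrix.one_apply, apply_ite Subtype.val]

theorem mem_spGL_iff_J {F' : Type*} [Field F'] {g : GL (Fin 2 ⊕ Fin 2) F'} :
    g ∈ spGL 2 F' ↔ (g : Matrix (Fin 2 ⊕ Fin 2) (Fin 2 ⊕ Fin 2) F')ᵀ * Matrix.J (Fin 2) F' *
      (g : Matrix (Fin 2 ⊕ Fin 2) (Fin 2 ⊕ Fin 2) F') = Matrix.J (Fin 2) F' :=
  MaxTv.mem_spGL.trans (mem_symplecticGroup_iff_form.symm.trans SymplecticGroup.mem_iff')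

variable {σ : F ≃+* F}

theorem conj_of_gu {g : G4} (h : tG g * cG σ g = 1) : cG σ g = (tG g)⁻¹ :=
  (inv_eq_of_mul_eq_one_right h).symm

theorem cG_of_sq {a : G4} (ha : a * a = -1) (h : tG a * cG σ a = 1) : cG σ a = -tG a := by
  rw [conj_of_gu h, ← tG_inv, show a⁻¹ = -a from inv_eq_of_mul_eq_one_right (by rw [mul_neg, ha, neg_neg]), tG_neg]

theorem gu_three (h2 : (2 : F) ≠ 0) {a b : G4} (ha : a * a = -1) (hb : b * b = -1) (hua : tG a * cG σ a = 1)
    (hub : tG b * cG σ b = 1) :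
    tG (CliffordFour.three h2 a b ha hb) * cG σ (CliffordFour.three h2 a b ha hb) = 1 := by
  obtain ⟨A, hA⟩ : ∃ A, A = (a : M4)ᵀ := ⟨_, rfl⟩
  obtain ⟨B, hB⟩ : ∃ B, B = (b : M4)ᵀ := ⟨_, rfl⟩
  have hcA : (a : M4).map σ = -A := by
    rw [hA, ← cG_val, cG_of_sq ha hua, Units.val_neg, tG_val]
  have hcB : (b : M4).map σ = -B := by
    rw [hB, ← cG_val, cG_of_sq hb hub, Units.val_neg, tG_val]
  have hAA : A * A = -1 := by
    rw [hA, ← Matrix.transpose_mul, ← Units.val_mul, ha, Units.val_neg, Units.val_one, Matrix.transpose_neg,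
      Matrix.transpose_one]
  have hBB : B * B = -1 := by
    rw [hB, ← Matrix.transpose_mul, ← Units.val_mul, hb, Units.val_neg, Units.val_one, Matrix.transpose_neg,
      Matrix.transpose_one]
  have key : ∀ C : M4, C * C = -1 → (1 - C) * (1 + C) = (2 : F) • (1 : M4) := fun C hC => by
    rw [show (1 - C) * (1 + C) = 1 - C * C by noncomm_ring, hC, sub_neg_eq_add, two_smul]
  apply Units.ext
  rw [Units.val_mul, tG_val, cG_val, coe_three, Units.val_one]
  obtain ⟨k, hk⟩ : ∃ k : F, k = -(2 : F)⁻¹ := ⟨_, rfl⟩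
  have hσk : σ k = k := by rw [hk, map_neg, map_inv₀, map_ofNat]
  have e1 : (k • (1 - (a : M4) - (b : M4) + (a : M4) * (b : M4)))ᵀ = k • ((1 - B) * (1 - A)) := by
    rw [hA, hB, Matrix.transpose_smul, Matrix.transpose_add, Matrix.transpose_sub, Matrix.transpose_sub,
      Matrix.transpose_one, Matrix.transpose_mul]
    congr 1
    noncomm_ring
  have e2 : (k • (1 - (a : M4) - (b : M4) + (a : M4) * (b : M4))).map σ = k • ((1 + A) * (1 + B)) := by
    rw [show ∀ X : M4, (k • X).map σ = k • σ.mapMatrix X from fun X => by ext i j; simp [hσk]]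
    rw [map_add, map_sub, map_sub, map_one, map_mul]
    simp only [RingEquiv.mapMatrix_apply, hcA, hcB]
    congr 1
    noncomm_ring
  rw [← hk, e1, e2, Matrix.smul_mul, Matrix.mul_smul, smul_smul, mul_assoc, ← mul_assoc (1 - A), key A hAA,
    Matrix.smul_mul, one_mul, Matrix.mul_smul, key B hBB, smul_smul, smul_smul]
  rw [show k * k * 2 * 2 = 1 by rw [hk]; field_simp, one_smul]

theorem sc_of_sim {M y e : G4} (he : Sc e) (h : tG y * M * y = e * M) :
    ∃ c : Fˣ, (y : M4)ᵀ * (M : M4) * (y : M4) = (c : F) • (M : M4) := by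
  obtain ⟨z, hz⟩ := he
  have hz0 : z ≠ 0 := fun e0 => e.ne_zero (by rw [hz, e0, zero_smul])
  refine ⟨Units.mk0 z hz0, ?_⟩
  have h' := congrArg Units.val h
  rwa [Units.val_mul, Units.val_mul, tG_val, Units.val_mul, hz, Matrix.smul_mul, one_mul] at h'

set_option maxHeartbeats 1000000 in
/-- Maximality in the special unitary group of degree four. -/
theorem unitary_four_normalizer_maximal [Fintype F] (q : ℕ) (hF : Fintype.card F = q ^ 2) :
    ∀ (p : ℕ) (R : Subgroup (Matrix.GeneralLinearGroup (Fin 4) F)), p.Prime → q = p → p % 4 = 3 →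
      Cfsg.Geo.IsSymplecticTypeGroup 2 R → Cfsg.Geo.ActsAbsolutelyIrreducibly (Cfsg.Geo.matrixSet R) →
      R ≤ Cfsg.GU 4 F q → Nat.card R = 64 → Nat.card (Subgroup.center R) = 4 →
      Cfsg.Geo.IsMaximalIn (Cfsg.GU 4 F q ⊓ Cfsg.Geo.specialLinear (Fin 4) F)
        (Cfsg.Geo.subgroupNormalizer R ⊓ (Cfsg.GU 4 F q ⊓ Cfsg.Geo.specialLinear (Fin 4) F)) := by
  classical
  intro p R hp hqp hp4 hR hirr hRU h64 hZ
  subst hqp
  haveI : Fact q.Prime := ⟨hp⟩
  haveI : CharP F q := charP_of_card_eq_prime_pow hF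
  have h2 : (2 : F) ≠ 0 := by
    intro h
    have h' : ((2 : ℕ) : F) = 0 := by exact_mod_cast h
    have := (Nat.prime_dvd_prime_iff_eq hp Nat.prime_two).1 ((CharP.cast_eq_zero_iff F q 2).1 h')
    omega
  obtain ⟨σ, hσ⟩ : ∃ σ, σ = MaxTv.qEquiv hF := ⟨_, rfl⟩
  have hs : MaxTv.Herm σ (hermForm 4 F q) := hσ ▸ MaxTv.herm_hermForm hF
  have hinv : ∀ x, σ (σ x) = x := hs.invol
  have hσa : ∀ x, σ x = x ^ q := fun x => hσ ▸ MaxTv.qEquiv_apply hF x
  obtain ⟨F₀, hF₀⟩ : ∃ F₀, F₀ = (⊥ : Subfield F) := ⟨_, rfl⟩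
  have hF₀card : Nat.card F₀ = q := hF₀ ▸ Subfield.card_bot F q
  have hfix : ∀ x : F, σ x = x ↔ x ∈ F₀ := fun x => by rw [hF₀, Subfield.mem_bot_iff_pow_eq_self F q, hσa]
  letI : Fintype F₀ := Fintype.ofFinite _
  have hp₀ : (Fintype.card F₀).Prime := by rw [← Nat.card_eq_fintype_card, hF₀card]; exact hp
  have h20 : (2 : F₀) ≠ 0 := fun e => h2 (by simpa [map_ofNat] using congrArg F₀.subtype e)
  have hGU : ∀ g : G4, g ∈ GU 4 F q ↔ tG g * cG σ g = 1 := fun g => by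
    subst hσ
    refine ⟨fun h => Units.ext (transpose_mul_of_preserves hF h), fun h => ?_⟩
    exact preserves_of_transpose_mul hF (congrArg Units.val h)
  have hSL : ∀ g : G4, g ∈ Geo.specialLinear (Fin 4) F ↔ (g : M4).det = 1 := fun g =>
    MonoidHom.mem_ker.trans Units.ext_iff
  obtain ⟨-, M₁, γ, i, D₁, -⟩ := exists_five h2 hR hirr h64 hZ
  have hRc : ∀ g ∈ R, tG g * cG σ g = 1 := fun g hg => (hGU g).1 (hRU hg)
  have hci : cG σ i = -i := by rw [cG_of_sq D₁.isq (hRc i D₁.imem), tG_of_sc D₁.isc]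
  obtain ⟨μ, hμ⟩ := D₁.isc
  have hμ0 : μ ≠ 0 := fun e => i.ne_zero (by rw [hμ, e, zero_smul])
  have hσμ : σ μ = -μ := by
    have h := congrArg (fun u : G4 => (u : M4) 0 0) hci
    simpa [cG_val, hμ] using h
  -- the form with inverse its conjugate
  obtain ⟨M, lam, hM, hMM⟩ : ∃ (M : G4) (lam : Fˣ), M = scal lam * M₁ ∧ cG σ M * M = 1 := by
    have hcγ : ∀ j, cG σ (γ j) = M₁ * γ j * M₁⁻¹ := fun j => by
      rw [conj_of_gu (hRc _ (D₁.mem j)), show tG (γ j) = M₁ * γ j * M₁⁻¹ by rw [← D₁.tr j, mul_inv_cancel_right]]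
      simp [_root_.mul_inv_rev, mul_assoc, D₁.inv_γ]
    obtain ⟨N, hN⟩ : ∃ N, N = cG σ M₁ * M₁ := ⟨_, rfl⟩
    have hNγ : ∀ j, N * γ j = γ j * N := fun j => by
      have h := congrArg (cG σ) (hcγ j)
      rw [show cG σ (cG σ (γ j)) = γ j from Units.ext (by ext a b; simp [cG_val, hinv]), map_mul, map_mul, map_inv,
        hcγ j] at h
      rw [hN]
      conv_rhs => rw [h]
      group
    have hNcl : ∀ w ∈ Subgroup.closure (Set.range γ), Commute N w := fun w hw => by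
      induction hw using Subgroup.closure_induction with
      | mem x hx => obtain ⟨j, rfl⟩ := hx; exact hNγ j
      | one => exact Commute.one_right N
      | mul a b _ _ ha hb => exact ha.mul_right hb
      | inv a _ ha => exact ha.inv_right
    obtain ⟨c, hc⟩ := D₁.sym.sc (N : M4) fun g hg => by
      rw [← Units.val_mul, ← Units.val_mul]
      congr 1
      obtain ⟨w, hw, e | e⟩ := D₁.dec g hg <;> rw [e]
      · exact (hNcl w hw).eq
      · exact ((hNcl w hw).mul_right (D₁.isc.comm N).symm).eq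
    have hc0 : c ≠ 0 := fun e => N.ne_zero (by rw [hc, e, zero_smul])
    have hσc : σ c = c := by
      have hsc : Sc N := ⟨c, hc⟩
      have h1 : cG σ N = N := by
        rw [hN, map_mul, show cG σ (cG σ M₁) = M₁ from Units.ext (by ext a b; simp [cG_val, hinv])]
        exact mul_right_cancel (b := M₁) (by rw [mul_assoc M₁]; exact ((hN ▸ hsc).comm M₁).symm)
      have h := congrArg (fun u : G4 => (u : M4) 0 0) h1
      simpa [cG_val, hc] using h
    obtain ⟨s, hs'⟩ := hs.exists_norm (t := c⁻¹) (by rw [map_inv₀, hσc])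
    have hs0 : s ≠ 0 := fun e => inv_ne_zero hc0 (by rw [← hs', e, zero_mul])
    refine ⟨_, Units.mk0 s hs0, rfl, ?_⟩
    rw [map_mul, show cG σ (scal (Units.mk0 s hs0)) = scal (Units.mk0 (σ s) (by simpa using hs0)) from
      Units.ext (by rw [cG_val, coe_scal, coe_scal]; ext a b; by_cases h : a = b <;> simp [h]),
      mul_assoc, ← mul_assoc (cG σ M₁), ← (scal_sc _).comm (cG σ M₁), mul_assoc, ← hN]
    apply Units.ext
    rw [Units.val_mul, Units.val_mul, coe_scal, coe_scal, hc, Matrix.smul_mul, one_mul, Matrix.smul_mul, one_mul,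
      smul_smul, smul_smul, Units.val_mk0, Units.val_mk0, mul_comm (σ s) s, hs', inv_mul_cancel₀ hc0, one_smul,
      Units.val_one]
  have D : Five R M γ i := ⟨D₁.sym, D₁.card, D₁.imem, D₁.isc, D₁.isq,
    by rw [hM, tG_mul, D₁.skew, tG_of_sc (scal_sc lam), neg_mul, (scal_sc lam).comm M₁],
    D₁.mem, D₁.sq, D₁.anti,
    fun j => by
      rw [hM, (scal_sc lam).comm M₁, ← mul_assoc, D₁.tr, mul_assoc, ← (scal_sc lam).comm (γ j), ← mul_assoc],
    D₁.dec⟩
  obtain ⟨P, ν, hν, hcP, hPJ⟩ := exists_real hinv hfix h2 hμ0 hσμ M D.skew hMM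
  have hPJ' : (P : M4)ᵀ * (P : M4).map σ = ν • jStd F := by rw [← cG_val, hcP, Units.val_mul, ← mul_assoc, hPJ]
  -- rational coordinates
  obtain ⟨θ, hθ⟩ : ∃ θ, θ = ratGL F₀ P := ⟨_, rfl⟩
  have hθv : ∀ x, (θ x : M4) = (P : M4) * ratHom F₀ (x : Matrix I4 I4 F₀) * ((P⁻¹ : G4) : M4) := fun x => by
    rw [hθ]; rfl
  have hθinj : Function.Injective θ := fun x y h => by
    rw [hθ] at h
    exact Units.ext (ratHom_injective F₀ (congrArg Units.val ((MulAut.conj P).injective h)))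
  have hθneg : ∀ x, θ (-x) = -θ x := fun x => Units.ext (by
    rw [hθv, Units.val_neg, map_neg, Units.val_neg, hθv, mul_neg, neg_mul])
  have hθc : ∀ x, cG σ (θ x) = M * θ x * M⁻¹ := fun x => by
    have h : cG σ (Units.map (ratHom F₀).toMonoidHom x) = Units.map (ratHom F₀).toMonoidHom x := Units.ext (by
      ext a b
      exact (hfix _).2 (SetLike.coe_mem _))
    rw [hθ, show ratGL F₀ P x = P * Units.map (ratHom F₀).toMonoidHom x * P⁻¹ from rfl, map_mul, map_mul, map_inv, h,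
      hcP]
    simp [mul_assoc]
  have hguiso : ∀ g : G4, cG σ g = M * g * M⁻¹ → (g ∈ GU 4 F q ↔ g ∈ isoG M) := fun g hg => by
    rw [hGU, hg, mem_isoG, mul_assoc M, ← mul_assoc, ← mul_assoc, mul_inv_eq_one]
  have hisoc : ∀ g : G4, g ∈ isoG M → g ∈ GU 4 F q → cG σ g = M * g * M⁻¹ := fun g h1 h2' => by
    rw [conj_of_gu ((hGU g).1 h2'), eq_comm, ← mul_eq_one_iff_eq_inv', ← mul_assoc, ← mul_assoc,
      show tG g * M * g = M from h1, mul_inv_cancel]
  have hθiso : ∀ x, θ x ∈ isoG M ↔ x ∈ spGL 2 F₀ := fun x => by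
    rw [mem_spGL_iff_J]
    obtain ⟨X, hX⟩ : ∃ X, X = ratHom F₀ (x : Matrix I4 I4 F₀) := ⟨_, rfl⟩
    have e : (θ x : M4)ᵀ * (M : M4) * (θ x : M4) =
        ((P⁻¹ : G4) : M4)ᵀ * (ν • (Xᵀ * jStd F * X)) * ((P⁻¹ : G4) : M4) := by
      rw [hθv, ← hX, ← Matrix.smul_mul, ← Matrix.mul_smul, ← hPJ, Matrix.transpose_mul, Matrix.transpose_mul]
      simp only [mul_assoc]
    have eM : (M : M4) = ((P⁻¹ : G4) : M4)ᵀ * (ν • jStd F) * ((P⁻¹ : G4) : M4) := by
      rw [← hPJ, ← mul_assoc, ← mul_assoc, ← Matrix.transpose_mul, Units.mul_inv, Matrix.transpose_one, one_mul,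
        Units.mul_inv_cancel_right]
    rw [mem_isoG, Units.ext_iff, Units.val_mul, Units.val_mul, tG_val, e]
    conv_lhs => rw [eM]
    have hu : IsUnit ((P⁻¹ : G4) : M4)ᵀ := (Matrix.isUnit_transpose _).2 P⁻¹.isUnit
    rw [P⁻¹.isUnit.mul_left_inj, hu.mul_right_inj, (smul_right_injective M4 hν).eq_iff, hX, ← ratHom_transpose,
      ← ratHom_J F₀, ← map_mul, ← map_mul, (ratHom_injective F₀).eq_iff]
  have hθS : ∀ x ∈ spGL 2 F₀, θ x ∈ isoG M ∧ θ x ∈ GU 4 F q ⊓ Geo.specialLinear (Fin 4) F := fun x hx =>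
    have h := (hθiso x).2 hx
    ⟨h, (hguiso _ (hθc x)).2 h, (hSL _).2 (D.det_iso h)⟩
  have hsurj : ∀ g : G4, g ∈ isoG M → g ∈ GU 4 F q → ∃ x ∈ spGL 2 F₀, θ x = g := fun g h1 h2' => by
    have hfixh : ∀ u : G4, cG σ u = M * u * M⁻¹ → ∃ X : Matrix I4 I4 F₀, ratHom F₀ X = ((P⁻¹ * u * P : G4) : M4) :=
        fun u hu => by
      have h : cG σ (P⁻¹ * u * P) = P⁻¹ * u * P := by
        rw [map_mul, map_mul, map_inv, hu, hcP]; simp [mul_assoc]
      refine ⟨fun a b => ⟨((P⁻¹ * u * P : G4) : M4) (finSumFinEquiv a) (finSumFinEquiv b),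
        (hfix _).1 (congrArg (fun v : G4 => (v : M4) (finSumFinEquiv a) (finSumFinEquiv b)) h)⟩, ?_⟩
      ext a b
      show ((P⁻¹ * u * P : G4) : M4) ((finSumFinEquiv : Fin 2 ⊕ Fin 2 ≃ Fin 4) ((finSumFinEquiv : Fin 2 ⊕ Fin 2 ≃ Fin 4).symm a))
        ((finSumFinEquiv : Fin 2 ⊕ Fin 2 ≃ Fin 4) ((finSumFinEquiv : Fin 2 ⊕ Fin 2 ≃ Fin 4).symm b)) = _
      rw [Equiv.apply_symm_apply, Equiv.apply_symm_apply]
    obtain ⟨X, hX⟩ := hfixh g (hisoc g h1 h2')
    obtain ⟨Y, hY⟩ := hfixh g⁻¹ (hisoc _ (inv_mem h1) (inv_mem h2'))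
    obtain ⟨x, hx⟩ : ∃ x : GL I4 F₀, (x : Matrix I4 I4 F₀) = X :=
      ⟨⟨X, Y, ratHom_injective F₀ (by rw [map_mul, map_one, hX, hY, ← Units.val_mul]; simp [mul_assoc]),
        ratHom_injective F₀ (by rw [map_mul, map_one, hX, hY, ← Units.val_mul]; simp [mul_assoc])⟩, rfl⟩
    have hxg : θ x = g := Units.ext (by rw [hθv, hx, hX, Units.val_mul, Units.val_mul]; simp [mul_assoc])
    exact ⟨x, (hθiso x).1 (hxg ▸ h1), hxg⟩
  -- the rational Clifford system
  choose γ₀ hγ₀S hγ₀ using fun j => hsurj (γ j) (D.gamma_iso j) (hRU (D.mem j))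
  obtain ⟨R₀, hR₀⟩ : ∃ R₀, R₀ = R.comap θ ⊓ spGL 2 F₀ := ⟨_, rfl⟩
  have hmem₀ : ∀ x, x ∈ R₀ ↔ θ x ∈ R ∧ θ x ∈ isoG M := fun x => by
    rw [hR₀, Subgroup.mem_inf, Subgroup.mem_comap, hθiso]
  have hγR₀ : ∀ j, γ₀ j ∈ R₀ := fun j => (hmem₀ _).2 (by rw [hγ₀]; exact ⟨D.mem j, D.gamma_iso j⟩)
  have hcz : ∀ X : Matrix I4 I4 F₀,
      (∀ j, X * (γ₀ j : Matrix I4 I4 F₀) = (γ₀ j : Matrix I4 I4 F₀) * X) → ∃ z : F₀, X = z • 1 := by
    intro X hX
    obtain ⟨Y, hY⟩ : ∃ Y, Y = (P : M4) * ratHom F₀ X * ((P⁻¹ : G4) : M4) := ⟨_, rfl⟩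
    have hYγ : ∀ j, Commute Y (γ j : M4) := fun j => by
      have h := congrArg (fun Z => (P : M4) * ratHom F₀ Z * ((P⁻¹ : G4) : M4)) (hX j)
      rw [← hγ₀ j, hY, hθv]
      simpa [Commute, SemiconjBy, map_mul, mul_assoc] using h
    have hw : ∀ w ∈ Subgroup.closure (Set.range γ), Commute Y (w : M4) := fun w hw => by
      induction hw using Subgroup.closure_induction with
      | mem x hx => obtain ⟨j, rfl⟩ := hx; exact hYγ j
      | one => simp
      | mul a b _ _ ha hb => rw [Units.val_mul]; exact ha.mul_right hb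
      | inv a _ ha => exact ha.units_inv_right
    obtain ⟨z, hz⟩ := D.sym.sc Y fun g hg => by
      obtain ⟨w, hw', e | e⟩ := D.dec g hg <;> rw [e]
      · exact (hw w hw').eq
      · rw [Units.val_mul, hμ, Matrix.mul_smul, mul_one, Matrix.mul_smul, Matrix.smul_mul, (hw w hw').eq]
    have hXz : ratHom F₀ X = z • 1 := by
      have h := congrArg (fun Z => ((P⁻¹ : G4) : M4) * Z * (P : M4)) hz
      rw [hY] at h
      simpa [mul_assoc, Matrix.mul_smul, Matrix.smul_mul] using h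
    have hent : ∀ a b, ((X a b : F₀) : F) = if a = b then z else 0 := fun a b => by
      have h := congrFun (congrFun hXz (finSumFinEquiv a)) (finSumFinEquiv b)
      simpa [ratHom_apply, Matrix.one_apply] using h
    refine ⟨X (.inl 0) (.inl 0), ?_⟩
    ext a b
    by_cases h : a = b
    · subst h; simp [hent]
    · simp [hent, h]
  have hθγ : θ '' Set.range γ₀ = Set.range γ := by
    rw [← Set.range_comp]; exact congrArg Set.range (funext hγ₀)
  have hgen : R₀ ≤ Subgroup.closure (Set.range γ₀) := fun x hx => by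
    obtain ⟨h1, h2'⟩ := (hmem₀ x).1 hx
    have h := D.mem_closure h1 h2'
    rw [← hθγ, ← MonoidHom.map_closure] at h
    obtain ⟨y, hy, e⟩ := h
    exact hθinj e ▸ hy
  have hnegR : (-1 : GL I4 F₀) ∈ R₀ := (hmem₀ _).2 (by
    rw [hθneg, map_one]
    exact ⟨D.sym.neg, by rw [mem_isoG, tG_neg, tG_one]; simp⟩)
  have hsc' : ∀ X : Matrix I4 I4 F₀, (∀ g ∈ R₀, X * (g : Matrix I4 I4 F₀) = (g : Matrix I4 I4 F₀) * X) →
      ∃ z : F₀, X = z • 1 := fun X hX => hcz X fun j => hX _ (hγR₀ j)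
  have hRiso : ∀ u ∈ R, u ∈ isoG M → ∃ x ∈ R₀, θ x = u := fun u hu hi => by
    obtain ⟨x, -, rfl⟩ := hsurj u hi (hRU hu)
    exact ⟨x, (hmem₀ x).2 ⟨hu, hi⟩, rfl⟩
  have hcard : Nat.card R₀ = 32 := by
    let f : Bool × R₀ → R := fun t =>
      ⟨θ (t.2 : GL I4 F₀) * (if t.1 then i else 1), mul_mem ((hmem₀ _).1 t.2.2).1 (by
        split_ifs
        · exact D.imem
        · exact one_mem _)⟩
    have hni : ∀ x x' : R₀, θ (x : GL I4 F₀) ≠ θ (x' : GL I4 F₀) * i := fun x x' h => D.i_not_iso (by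
      rw [show i = (θ (x' : GL I4 F₀))⁻¹ * θ (x : GL I4 F₀) by rw [h, inv_mul_cancel_left]]
      exact mul_mem (inv_mem ((hmem₀ _).1 x'.2).2) ((hmem₀ _).1 x.2).2)
    have hbij : Function.Bijective f := by
      refine ⟨?_, ?_⟩
      · rintro ⟨t, x⟩ ⟨t', x'⟩ h
        have h' : θ (x : GL I4 F₀) * (if t then i else 1) = θ (x' : GL I4 F₀) * (if t' then i else 1) :=
          congrArg Subtype.val h
        cases t <;> cases t' <;> simp at h'
        · rw [Subtype.ext (hθinj h')]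
        · exact absurd h' (hni x x')
        · exact absurd h'.symm (hni x' x)
        · rw [Subtype.ext (hθinj h')]
      · rintro ⟨u, hu⟩
        obtain ⟨w, hw, e | e⟩ := D.dec u hu <;> obtain ⟨x, hx, hxw⟩ := hRiso w (D.closure_le hw) (D.closure_iso hw)
        · exact ⟨⟨false, x, hx⟩, Subtype.ext (by simp [f, e, hxw])⟩
        · exact ⟨⟨true, x, hx⟩, Subtype.ext (by simp [f, e, hxw])⟩
    have h := Nat.card_eq_of_bijective f hbij
    rw [Nat.card_prod, Nat.card_eq_fintype_card (α := Bool), Fintype.card_bool, D.card] at h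
    omega
  have hcen : Nat.card (Subgroup.center R₀) = 2 := by
    let T : Set (GL I4 F₀) := {1, -1}
    have himg : (fun z : Subgroup.center R₀ => ((z : R₀) : GL I4 F₀)) '' Set.univ = T := by
      refine Set.eq_of_subset_of_subset ?_ ?_
      · rintro _ ⟨⟨⟨x, hx⟩, hxc⟩, -, rfl⟩
        obtain ⟨z, hz⟩ := hsc' (x : Matrix I4 I4 F₀) fun g hg => by
          have e := congrArg (fun y : R₀ => ((y : GL I4 F₀) : Matrix I4 I4 F₀))
            (Subgroup.mem_center_iff.1 hxc ⟨g, hg⟩)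
          simpa using e.symm
        have hxs : x ∈ spGL 2 F₀ := (hθiso x).1 ((hmem₀ x).1 hx).2
        rw [mem_spGL_iff_J, hz, Matrix.transpose_smul, Matrix.transpose_one, Matrix.smul_mul, one_mul, Matrix.mul_smul,
          mul_one, smul_smul] at hxs
        have hz2 : z * z = 1 := by
          have h := congrFun (congrFun hxs (.inl 0)) (.inr 0)
          simpa [Matrix.J] using h
        rcases mul_self_eq_one_iff.1 hz2 with rfl | rfl
        · exact Or.inl (Units.ext (by rw [hz, one_smul, Units.val_one]))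
        · exact Or.inr (Units.ext (by rw [hz, neg_one_smul, Units.val_neg, Units.val_one]))
      · rintro x (rfl | rfl)
        · exact ⟨1, trivial, rfl⟩
        · exact ⟨⟨⟨-1, hnegR⟩, Subgroup.mem_center_iff.2 fun g => Subtype.ext (by simp)⟩, trivial, rfl⟩
    have h := congrArg Set.ncard himg
    rw [Set.ncard_image_of_injective _ (fun z z' e => Subtype.ext (Subtype.ext e)), Set.ncard_univ,
      Set.ncard_pair (ne_neg_self h20 (1 : GL I4 F₀))] at h
    exact h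
  have G : SpClifford.Ga R₀ γ₀ :=
    { two := h20
      sym :=
        { fin := inferInstance
          dim := by simp
          two := h20
          comm := fun g hg h hh => by
            rcases D.sym.comm _ ((hmem₀ g).1 hg).1 _ ((hmem₀ h).1 hh).1 with e | e
            · exact Or.inl (hθinj (by rw [map_mul, map_mul, e]))
            · exact Or.inr (hθinj (by rw [hθneg, map_mul, map_mul, e]))
          sq := fun g hg => by
            rcases D.sym.sq _ ((hmem₀ g).1 hg).1 with e | e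
            · exact Or.inl (hθinj (by rw [map_mul, e, map_one]))
            · exact Or.inr (hθinj (by rw [map_mul, e, hθneg, map_one]))
          neg := hnegR
          sc := hsc'
          card := by rw [hcard, hcen] }
      le := hR₀ ▸ inf_le_right
      mem := hγR₀
      sq := fun j => hθinj (by rw [map_mul, hγ₀, D.sq, map_one])
      anti := fun j k h => hθinj (by rw [hθneg, map_mul, map_mul, hγ₀, hγ₀, D.anti j k h])
      gen := hgen
      cz := hcz }
  obtain ⟨hlt₀, hmax₀⟩ := G.maximal hp₀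
  -- the two normalisers
  have hNup : ∀ x, x ∈ Geo.subgroupNormalizer R₀ → x ∈ spGL 2 F₀ → θ x ∈ Geo.subgroupNormalizer R := fun x hx hxs => by
    refine CliffordFour.mem_normalizer D.sym fun r hr => ⟨θ x * r * (θ x)⁻¹, ?_, by rw [inv_mul_cancel_right]⟩
    have key : ∀ w ∈ Subgroup.closure (Set.range γ), θ x * w * (θ x)⁻¹ ∈ R := fun w hw => by
      obtain ⟨y, hy, rfl⟩ := hRiso w (D.closure_le hw) (D.closure_iso hw)
      rw [← map_inv, ← map_mul, ← map_mul]
      exact ((hmem₀ _).1 ((Subgroup.mem_normalizer_iff.1 hx y).1 hy)).1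
    obtain ⟨w, hw, rfl | rfl⟩ := D.dec r hr
    · exact key _ hw
    · rw [show θ x * (w * i) * (θ x)⁻¹ = θ x * w * (θ x)⁻¹ * i by
        rw [← mul_assoc, mul_assoc (θ x * w), D.isc.comm (θ x)⁻¹]; group]
      exact mul_mem (key _ hw) D.imem
  have hNdown : ∀ x, x ∈ spGL 2 F₀ → θ x ∈ Geo.subgroupNormalizer R → x ∈ Geo.subgroupNormalizer R₀ := fun x hxs hx => by
    refine Subgroup.mem_normalizer_iff.2 fun y => ?_
    have hi := (hθiso x).2 hxs
    rw [hmem₀, hmem₀, map_mul, map_mul, map_inv]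
    exact and_congr (Subgroup.mem_normalizer_iff.1 hx (θ y))
      (by rw [mul_mem_cancel_right (inv_mem hi), mul_mem_cancel_left hi])
  refine MaxTv.isMaximalIn_intro inf_le_right (fun hle => ?_) fun K hK hKG g₀ hg₀ hg₀' => ?_
  · exact hlt₀.not_ge fun x hx => ⟨hNdown x hx (hle (hθS x hx).2).1, hx⟩
  have hg₀N : g₀ ∉ Subgroup.normalizer (R : Set G4) := fun h => hg₀' ⟨h, hKG hg₀⟩
  have hdetK : ∀ g ∈ K, (g : M4).det = 1 := fun g hg => (hSL g).1 (hKG hg).2
  have hin : ∀ u, u ∈ Geo.subgroupNormalizer R → tG u * cG σ u = 1 → (u : M4).det = 1 → u ∈ K := fun u h1 h2' h3 =>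
    hK ⟨h1, (hGU u).2 h2', (hSL u).2 h3⟩
  have hiK : i ∈ K := hin i (Subgroup.le_normalizer D.imem) (hRc i D.imem) D.det_i
  have O : OrthFrame.Fr (K.map D.k6.chi) := D.fr_of hdetK
    (fun a b _ => hin _ (Subgroup.le_normalizer (D.rr_mem a b)) (hRc _ (D.rr_mem a b)) D.k6.det_rr)
    fun a b c hab hbc hac => hin _ (CliffordFour.three_mem D.k6.two _ _ D.sym (D.rr_mem _ _) (D.rr_mem _ _))
      (gu_three D.k6.two (D.k6.rr_sq hab) (D.k6.rr_sq hbc) (hRc _ (D.rr_mem _ _)) (hRc _ (D.rr_mem _ _)))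
      (CliffordFour.three_det D.k6.two _ _ D.sym (D.k6.rr_anti hab hbc hac))
  obtain ⟨g, hgK, hgN, hgiso⟩ := D.exists_iso O hg₀ (hdetK _ hg₀) hg₀N
  obtain ⟨x, hxs, rfl⟩ := hsurj g hgiso (hKG hgK).1
  -- all isometries
  have hall : spGL 2 F₀ ≤ K.comap θ := by
    rcases hmax₀ (K.comap θ ⊓ spGL 2 F₀) (fun y hy => ⟨hK ⟨hNup y hy.1 hy.2, (hθS y hy.2).2⟩, hy.2⟩) inf_le_right
      with h | h
    · exact absurd (hNup x (h.le (show x ∈ K.comap θ ⊓ spGL 2 F₀ from ⟨hgK, hxs⟩)).1 hxs) hgN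
    · exact fun y hy => (h.ge hy).1
  have hiso : ∀ u, u ∈ isoG M → u ∈ GU 4 F q → u ∈ K := fun u h1 h2' => by
    obtain ⟨y, hy, rfl⟩ := hsurj u h1 h2'
    exact hall hy
  -- the subfield group
  obtain ⟨L, hL⟩ : ∃ L, L = Geo.subfieldSubgroup F₀ P ⊓ (GU 4 F q ⊓ Geo.specialLinear (Fin 4) F) := ⟨_, rfl⟩
  have hLsim : ∀ y ∈ L, ∃ c : Fˣ, (y : M4)ᵀ * (M : M4) * (y : M4) = (c : F) • (M : M4) := fun y hy => by
    rw [hL] at hy
    obtain ⟨⟨C, hC, hCy⟩, hyG⟩ := hy
    obtain ⟨_, ⟨u, rfl⟩, s, hs', rfl⟩ := Subgroup.mem_sup_of_normal_right.1 hC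
    obtain ⟨l, hl⟩ := (Geo.mem_scalars_iff s).1 hs'
    have hsc : Sc s := ⟨_, hl⟩
    have hsc' : Sc (cG σ s) := ⟨σ l, by rw [cG_val, hl]; ext a b; by_cases h : a = b <;> simp [h]⟩
    have hd : Sc (cG σ s * s⁻¹) := by
      obtain ⟨z, hz⟩ := hsc'
      refine ⟨z * ((l⁻¹ : Fˣ) : F), ?_⟩
      have hsi : ((s⁻¹ : G4) : M4) = ((l⁻¹ : Fˣ) : F) • 1 := Units.inv_eq_of_mul_eq_one_right (by
        rw [hl, Matrix.smul_mul, one_mul, smul_smul, Units.mul_inv, one_smul])
      rw [Units.val_mul, hz, hsi, Matrix.smul_mul, one_mul, smul_smul]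
    have hu : cG σ (Matrix.GeneralLinearGroup.map F₀.subtype u) = Matrix.GeneralLinearGroup.map F₀.subtype u :=
      Units.ext (by ext a b; exact (hfix _).2 (SetLike.coe_mem _))
    have hy' : y = P * (Matrix.GeneralLinearGroup.map F₀.subtype u * s) * P⁻¹ := hCy.symm
    obtain ⟨d, hd'⟩ : ∃ d, d = cG σ s * s⁻¹ := ⟨_, rfl⟩
    rw [← hd'] at hd
    have hdi : Sc d⁻¹ := by
      obtain ⟨z, hz⟩ := hd
      have hz0 : z ≠ 0 := fun e => d.ne_zero (by rw [hz, e, zero_smul])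
      exact ⟨z⁻¹, Units.inv_eq_of_mul_eq_one_right (by
        rw [hz, Matrix.smul_mul, one_mul, smul_smul, mul_inv_cancel₀ hz0, one_smul])⟩
    obtain ⟨U, hU⟩ : ∃ U, U = Matrix.GeneralLinearGroup.map F₀.subtype u := ⟨_, rfl⟩
    rw [← hU] at hu hy'
    have hcy : cG σ y = d * (M * y * M⁻¹) := by
      rw [hy', map_mul, map_mul, map_mul, map_inv, hu, hcP,
        show cG σ s = d * s by rw [hd', inv_mul_cancel_right], ← mul_assoc U d s, ← hd.comm U, mul_assoc d U s,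
        ← mul_assoc (M * P) d, ← hd.comm (M * P)]
      group
    refine sc_of_sim hdi (eq_inv_mul_iff_mul_eq.2 ?_)
    have h := (hGU y).1 hyG.1
    rw [hcy] at h
    calc d * (tG y * M * y) = tG y * (d * (M * y * M⁻¹)) * M := by
          rw [← mul_assoc (tG y) d, ← hd.comm (tG y)]; group
      _ = M := by rw [h, one_mul]
  have hLK : L ≤ K := fun y hy => by
    obtain ⟨c, hc⟩ := hLsim y hy
    rw [hL] at hy
    have hd := D.det_sim hc
    rw [(hSL y).1 hy.2.2] at hd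
    rcases mul_self_eq_one_iff.1 (show (c : F) * c = 1 by rw [← sq]; exact hd.symm) with e | e
    · refine hiso y (mem_isoG.2 (Units.ext ?_)) hy.2.1
      rw [Units.val_mul, Units.val_mul, tG_val, hc, e, one_smul]
    · have hym : tG y * M * y = -M := Units.ext (by
        rw [Units.val_mul, Units.val_mul, tG_val, hc, e, neg_one_smul, Units.val_neg])
      have hyi : y * i ∈ isoG M := by
        rw [mem_isoG, tG_mul, tG_of_sc D.isc]
        calc i * tG y * M * (y * i) = i * (tG y * M * y) * i := by group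
          _ = M := by rw [hym, mul_neg, D.isc.comm M, neg_mul, mul_assoc, D.isq]; simp
      have := mul_mem (hiso _ hyi (mul_mem hy.2.1 (hRU D.imem))) (inv_mem hiK)
      rwa [mul_inv_cancel_right] at this
  have halt : ∀ u : Fin 4 → F₀, ∀ v : Fin 4 → F₀, hermForm 4 F q ((P : M4) *ᵥ fun a => (u a : F))
      ((P : M4) *ᵥ fun a => (v a : F)) = ν * ((fun a => (u a : F)) ⬝ᵥ jStd F *ᵥ fun a => (v a : F)) := fun u v => by
    have h : (fun a => σ (((P : M4) *ᵥ fun a => (v a : F)) a)) = (P : M4).map σ *ᵥ fun a => (v a : F) := by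
      funext a
      simp only [Matrix.mulVec, dotProduct, map_sum, map_mul, Matrix.map_apply, (hfix _).2 (SetLike.coe_mem _)]
    have e : hermForm 4 F q ((P : M4) *ᵥ fun a => (u a : F)) ((P : M4) *ᵥ fun a => (v a : F)) =
        ((P : M4) *ᵥ fun a => (u a : F)) ⬝ᵥ fun a => σ (((P : M4) *ᵥ fun a => (v a : F)) a) := by
      simp only [hermForm, dotProduct, hσa]
    rw [e, h, Matrix.dotProduct_mulVec, ← Matrix.vecMul_transpose, Matrix.vecMul_vecMul, hPJ', ← Matrix.dotProduct_mulVec,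
      Matrix.smul_mulVec, dotProduct_smul, smul_eq_mul]
  have hskJ : (jStd F)ᵀ = -jStd F := by
    rw [jStd, Matrix.transpose_submatrix, Matrix.J_transpose, Matrix.submatrix_neg]; rfl
  have hLmax : Geo.IsMaximalIn (GU 4 F q ⊓ Geo.specialLinear (Fin 4) F) L := hL ▸
    MaxTv.unitary_symplectic_maximal_of hF le_rfl F₀ (by rw [hF, hF₀card]) ν⁻¹ (inv_ne_zero hν) P
      (fun u v hu hv => by
        have h := halt (fun a => ⟨u a, hu a⟩) (fun a => ⟨v a, hv a⟩)
        rw [h, inv_mul_cancel_left₀ hν]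
        simp only [dotProduct, Matrix.mulVec]
        refine sum_mem fun a _ => mul_mem (hu a) (sum_mem fun b _ => mul_mem ?_ (hv b))
        rw [← ratHom_J F₀, ratHom_apply]
        exact SetLike.coe_mem _)
      (fun u hu => by
        rw [halt (fun a => ⟨u a, hu a⟩) (fun a => ⟨u a, hu a⟩)]
        have h := FormSim.bf_self_zero_of_skew h2 hskJ u
        rw [FormSim.bf] at h
        rw [h, mul_zero])
  rcases hLmax.2 K hLK hKG with h | h
  · exact absurd (D.exists_not_sim O fun y hy => hLsim y (h ▸ hy)) id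
  · exact h.ge

end Cfsg.Agent.Classical.LinFour
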