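import Cfsg.Agent.Lib.Classical.CliffordFourElements
import Cfsg.Agent.Lib.Classical.MaxFrameEngine
import Cfsg.Agent.Lib.Classical.SLNormal
import Cfsg.Agent.Lib.Fus.KleinSix

/-!
Six pairwise orthogonal alternating matrices in dimension four: the action of the general linear group on them.
-/

set_option autoImplicit false
set_option linter.unusedSectionVars false
set_option linter.style.haveILetI false
set_option quotPrecheck false

namespace Cfsg.Agent.Classical.LinFour

open Matrix Module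

variable {F : Type*} [Field F]

local notation "G4" => GL (Fin 4) F
local notation "M4" => Matrix (Fin 4) (Fin 4) F
local notation "V6" => (Fin 6 → F)

/-- The transpose of an invertible matrix. -/
def tG (g : GL (Fin 4) F) : GL (Fin 4) F where
  val := (g : M4)ᵀ
  inv := ((g⁻¹ : G4) : M4)ᵀ
  val_inv := by rw [← Matrix.transpose_mul, Units.inv_mul, Matrix.transpose_one]
  inv_val := by rw [← Matrix.transpose_mul, Units.mul_inv, Matrix.transpose_one]

theorem tG_val (g : G4) : ((tG g : G4) : M4) = (g : M4)ᵀ := rfl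

theorem tG_mul (g h : G4) : tG (g * h) = tG h * tG g :=
  Units.ext (by rw [Units.val_mul, tG_val, tG_val, tG_val, Units.val_mul, Matrix.transpose_mul])

theorem tG_inv (g : G4) : tG g⁻¹ = (tG g)⁻¹ := Units.ext rfl

open Fus.KleinSix in
theorem toA_ofA_of_skew (h2 : (2 : F) ≠ 0) {X : M4} (h : Xᵀ = -X) : toA (ofA X) = X := by
  have e : ∀ i j, X j i = -X i j := fun i j => by
    have := congrFun (congrFun h i) j
    simpa using this
  have d : ∀ i, X i i = 0 := fun i =>
    (mul_eq_zero.1 (show (2 : F) * X i i = 0 by linear_combination e i i)).resolve_left h2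
  ext i j
  fin_cases i <;> fin_cases j <;>
    simp [toA, ofA, d, e 0 1, e 0 2, e 0 3, e 1 2, e 1 3, e 2 3]

open Fus.KleinSix in
theorem toA_transpose (v : Fin 3 ⊕ Fin 3 → F) : (toA v)ᵀ = -toA v := by
  ext i j
  fin_cases i <;> fin_cases j <;> simp [toA]

open Fus.KleinSix in
theorem toA_mul_star (v : Fin 3 ⊕ Fin 3 → F) : toA v * toA (Fus.KleinSix.star v) = -(pf v • (1 : M4)) := by
  ext i j
  fin_cases i <;> fin_cases j <;>
    simp [toA, Fus.KleinSix.star, pf, Matrix.mul_apply, Fin.sum_univ_four, Fin.sum_univ_three] <;> ring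

open Fus.KleinSix in
theorem det_toA (v : Fin 3 ⊕ Fin 3 → F) : (toA v).det = pf v ^ 2 := by
  simp [toA, pf, Matrix.det_succ_row_zero, Fin.sum_univ_succ, Fin.sum_univ_three, Fin.succAbove]
  ring

/-- The Pfaffian of a matrix. -/
def pfM (X : Matrix (Fin 4) (Fin 4) F) : F := Fus.KleinSix.pf (Fus.KleinSix.ofA X)

theorem pfM_congr (h2 : (2 : F) ≠ 0) (g : M4) {X : M4} (hX : Xᵀ = -X) : pfM (g * X * gᵀ) = g.det * pfM X := by
  have h := Fus.KleinSix.pf_act g (Fus.KleinSix.ofA X)
  rw [show Fus.KleinSix.act g (Fus.KleinSix.ofA X) = Fus.KleinSix.ofA (g * Fus.KleinSix.toA (Fus.KleinSix.ofA X) * gᵀ)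
    from rfl, toA_ofA_of_skew h2 hX] at h
  exact h

theorem det_eq_pfM_sq (h2 : (2 : F) ≠ 0) {X : M4} (hX : Xᵀ = -X) : X.det = pfM X ^ 2 := by
  conv_lhs => rw [← toA_ofA_of_skew h2 hX, det_toA]
  rfl

theorem pfM_smul (μ : F) (X : M4) : pfM (μ • X) = μ ^ 2 * pfM X := by
  simp only [pfM, Fus.KleinSix.ofA_smul, Fus.KleinSix.pf, Pi.smul_apply, smul_eq_mul, Finset.mul_sum]
  exact Finset.sum_congr rfl fun i _ => by ring

/-- Six pairwise orthogonal invertible alternating matrices. -/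
structure K6 (A : Fin 6 → GL (Fin 4) F) : Prop where
  two : (2 : F) ≠ 0
  skew : ∀ a, ((A a : GL (Fin 4) F) : Matrix (Fin 4) (Fin 4) F)ᵀ = -(A a : Matrix (Fin 4) (Fin 4) F)
  anti : ∀ a b, a ≠ b → A a * (A b)⁻¹ = -(A b * (A a)⁻¹)

variable (A : Fin 6 → GL (Fin 4) F)

/-- The products. -/
def rr (a b : Fin 6) : GL (Fin 4) F := A a * (A b)⁻¹

/-- The matrix with given coordinates. -/
def cmb (x : Fin 6 → F) : Matrix (Fin 4) (Fin 4) F := ∑ a, x a • (A a : Matrix (Fin 4) (Fin 4) F)

/-- The coordinates of a matrix. -/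
def crd : Matrix (Fin 4) (Fin 4) F →ₗ[F] (Fin 6 → F) :=
  LinearMap.pi fun a => (4 : F)⁻¹ • (Matrix.traceLinearMap (Fin 4) F F ∘ₗ
    LinearMap.mulRight F (((A a)⁻¹ : GL (Fin 4) F) : Matrix (Fin 4) (Fin 4) F))

theorem crd_apply (X : M4) (a : Fin 6) : crd A X a = (4 : F)⁻¹ * (X * (((A a)⁻¹ : G4) : M4)).trace := rfl

/-- The matrix of the congruence action in coordinates. -/
noncomputable def kact (g : GL (Fin 4) F) : Matrix (Fin 6) (Fin 6) F :=
  LinearMap.toMatrix'
    { toFun := fun x => crd A ((g : M4) * cmb A x * (g : M4)ᵀ)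
      map_add' := fun x y => by
        rw [← map_add, ← Matrix.add_mul, ← Matrix.mul_add]
        congr 3
        simp [cmb, add_smul, Finset.sum_add_distrib]
      map_smul' := fun c x => by
        rw [RingHom.id_apply, ← map_smul, ← Matrix.smul_mul, ← Matrix.mul_smul]
        congr 3
        simp [cmb, Finset.smul_sum, smul_smul] }

theorem kact_mulVec (g : G4) (x : V6) : kact A g *ᵥ x = crd A ((g : M4) * cmb A x * (g : M4)ᵀ) := by
  rw [kact, LinearMap.toMatrix'_mulVec]; rfl

theorem cmb_single (a : Fin 6) (c : F) : cmb A (Pi.single a c) = c • (A a : M4) := by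
  simp [cmb, Pi.single_apply, ite_smul]

namespace K6

variable {A} (K : K6 A)
include K

theorem four : (4 : F) ≠ 0 := by
  rw [show (4 : F) = 2 * 2 by norm_num]; exact mul_ne_zero K.two K.two

theorem tG_A (a : Fin 6) : tG (A a) = -A a := Units.ext (by rw [tG_val, K.skew, Units.val_neg])

theorem anti' {a b : Fin 6} (h : a ≠ b) : (A b)⁻¹ * A a = -((A a)⁻¹ * A b) := by
  calc (A b)⁻¹ * A a = (A a)⁻¹ * (A a * (A b)⁻¹) * A a := by group
    _ = _ := by rw [K.anti a b h]; simp [mul_assoc]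

theorem rr_sq {a b : Fin 6} (h : a ≠ b) : rr A a b * rr A a b = -1 := by
  calc rr A a b * rr A a b = -(A b * (A a)⁻¹) * rr A a b := by rw [rr, ← K.anti a b h]
    _ = _ := by simp [rr, mul_assoc]

theorem rr_swap {a b : Fin 6} (h : a ≠ b) : rr A b a = -rr A a b := by rw [rr, rr, K.anti a b h, neg_neg]

theorem rr_mul (a b c : Fin 6) : rr A a b * rr A b c = rr A a c := by simp [rr, mul_assoc]

theorem rr_mul' {a b c : Fin 6} (hab : a ≠ b) (hbc : b ≠ c) (hac : a ≠ c) :
    rr A b c * rr A a b = -rr A a c := by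
  calc rr A b c * rr A a b = A b * ((A c)⁻¹ * A a) * (A b)⁻¹ := by simp [rr, mul_assoc]
    _ = -(rr A b a * rr A c b) := by rw [K.anti' hac]; simp [rr, mul_assoc]
    _ = _ := by rw [K.rr_swap hab, K.rr_swap hbc, neg_mul_neg, K.rr_mul]

theorem rr_anti {a b c : Fin 6} (hab : a ≠ b) (hbc : b ≠ c) (hac : a ≠ c) :
    rr A a b * rr A b c = -(rr A b c * rr A a b) := by rw [K.rr_mul, K.rr_mul' hab hbc hac, neg_neg]

theorem trace_rr {a b : Fin 6} (h : a ≠ b) : ((rr A a b : G4) : M4).trace = 0 := by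
  obtain ⟨c, hca, hcb⟩ : ∃ c : Fin 6, c ≠ a ∧ c ≠ b :=
    (show ∀ a b : Fin 6, ∃ c : Fin 6, c ≠ a ∧ c ≠ b by decide) a b
  have e : rr A a b * rr A b c * (rr A a b)⁻¹ * (rr A b c)⁻¹ = -1 := by
    rw [K.rr_anti h hcb.symm hca.symm]; simp [mul_assoc]
  have e' : rr A b c * rr A a b * (rr A b c)⁻¹ = -rr A a b := by
    have h1 : rr A b c * rr A a b = -(rr A a b * rr A b c) := by
      rw [K.rr_anti h hcb.symm hca.symm, neg_neg]
    rw [h1, neg_mul, mul_inv_cancel_right]
  have ht := congrArg (fun u : G4 => (u : M4).trace) e'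
  simp only [Units.val_mul, Units.val_neg, Matrix.trace_neg, Matrix.trace_units_conj] at ht
  exact (mul_eq_zero.1 (show (2 : F) * _ = 0 by linear_combination ht)).resolve_left K.two

theorem crd_A (a b : Fin 6) : crd A (A b : M4) a = if b = a then 1 else 0 := by
  rw [crd_apply, ← Units.val_mul]
  rcases eq_or_ne b a with rfl | h
  · rw [if_pos rfl, mul_inv_cancel, Units.val_one, Matrix.trace_one, Fintype.card_fin]
    exact inv_mul_cancel₀ (by exact_mod_cast K.four)
  · rw [if_neg h, show A b * (A a)⁻¹ = rr A b a from rfl, K.trace_rr h, mul_zero]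

theorem crd_cmb (x : V6) : crd A (cmb A x) = x := funext fun a => by
  simp [cmb, map_sum, Finset.sum_apply, K.crd_A]

theorem cmb_skew (x : V6) : (cmb A x)ᵀ = -cmb A x := by
  simp [cmb, Matrix.transpose_sum, K.skew, Finset.sum_neg_distrib]

theorem cmb_crd {X : M4} (hX : Xᵀ = -X) : cmb A (crd A X) = X := by
  obtain ⟨L, hL⟩ : ∃ L : V6 →ₗ[F] (Fin 3 ⊕ Fin 3 → F), ∀ x, L x = Fus.KleinSix.ofA (cmb A x) :=
    ⟨{ toFun := fun x => Fus.KleinSix.ofA (cmb A x)
       map_add' := fun x y => by rw [← Fus.KleinSix.ofA_add]; congr 1; simp [cmb, add_smul, Finset.sum_add_distrib]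
       map_smul' := fun c x => by
        rw [RingHom.id_apply, ← Fus.KleinSix.ofA_smul]; congr 1; simp [cmb, Finset.smul_sum, smul_smul] },
      fun _ => rfl⟩
  have hinj : Function.Injective L := fun x y h => by
    rw [hL, hL] at h
    have h' := congrArg Fus.KleinSix.toA h
    rw [toA_ofA_of_skew K.two (K.cmb_skew x), toA_ofA_of_skew K.two (K.cmb_skew y)] at h'
    rw [← K.crd_cmb x, h', K.crd_cmb]
  obtain ⟨x, hx⟩ := (LinearMap.injective_iff_surjective_of_finrank_eq_finrank (by simp)).1 hinj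
    (Fus.KleinSix.ofA X)
  rw [hL] at hx
  have h := congrArg Fus.KleinSix.toA hx
  rw [toA_ofA_of_skew K.two (K.cmb_skew x), toA_ofA_of_skew K.two hX] at h
  rw [← h, K.crd_cmb]

theorem congr_skew (g : M4) {X : M4} (hX : Xᵀ = -X) : (g * X * gᵀ)ᵀ = -(g * X * gᵀ) := by
  rw [Matrix.transpose_mul, Matrix.transpose_mul, Matrix.transpose_transpose, hX]
  simp [mul_assoc]

theorem cmb_kact (g : G4) (x : V6) : cmb A (kact A g *ᵥ x) = (g : M4) * cmb A x * (g : M4)ᵀ := by
  rw [kact_mulVec, K.cmb_crd (K.congr_skew _ (K.cmb_skew x))]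

theorem kact_one : kact A (1 : G4) = 1 := Matrix.ext_iff_mulVec.2 fun x => by
  simp [kact_mulVec, K.crd_cmb]

theorem kact_mul (g h : G4) : kact A (g * h) = kact A g * kact A h := Matrix.ext_iff_mulVec.2 fun x => by
  rw [← Matrix.mulVec_mulVec, kact_mulVec A g, K.cmb_kact, kact_mulVec, Units.val_mul, Matrix.transpose_mul]
  simp only [mul_assoc]

/-- The representation in dimension six. -/
noncomputable def chi : GL (Fin 4) F →* GL (Fin 6) F :=
  MonoidHom.toHomUnits { toFun := kact A, map_one' := K.kact_one, map_mul' := K.kact_mul }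

theorem chi_val (g : G4) : ((K.chi g : GL (Fin 6) F) : Matrix (Fin 6) (Fin 6) F) = kact A g := rfl

theorem pf_cmb : ∃ c : F, c ≠ 0 ∧ (∀ a, pfM (A a : M4) = c) ∧ ∀ x, pfM (cmb A x) = c * OrthFrame.qs F 6 x := by
  obtain ⟨S, hS⟩ : ∃ S : M4 →ₗ[F] M4, ∀ X, S X = -Fus.KleinSix.toA (Fus.KleinSix.star (Fus.KleinSix.ofA X)) :=
    ⟨{ toFun := fun X => -Fus.KleinSix.toA (Fus.KleinSix.star (Fus.KleinSix.ofA X))
       map_add' := fun X Y => by
        rw [Fus.KleinSix.ofA_add, ← neg_add, ← Fus.KleinSix.toA_add]; rfl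
       map_smul' := fun c X => by
        rw [Fus.KleinSix.ofA_smul, RingHom.id_apply, smul_neg, ← Fus.KleinSix.toA_smul]; rfl }, fun _ => rfl⟩
  have hXS : ∀ X : M4, Xᵀ = -X → X * S X = pfM X • 1 := fun X hX => by
    conv_lhs => arg 1; rw [← toA_ofA_of_skew K.two hX]
    rw [hS, mul_neg, toA_mul_star, neg_neg]; rfl
  have hSa : ∀ a, S (A a : M4) = pfM (A a : M4) • (((A a)⁻¹ : G4) : M4) := fun a => by
    have h := congrArg (fun X => (((A a)⁻¹ : G4) : M4) * X) (hXS _ (K.skew a))
    simpa [← mul_assoc] using h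
  have hpq : ∀ a b, pfM (A a : M4) = pfM (A b : M4) := fun a b => by
    rcases eq_or_ne a b with rfl | h
    · rfl
    obtain ⟨X, hX⟩ : ∃ X : M4, X = (A a : M4) + A b := ⟨_, rfl⟩
    have h1 := hXS X (by rw [hX, Matrix.transpose_add, K.skew, K.skew, neg_add])
    have ea : (A a : M4) * (((A b)⁻¹ : G4) : M4) = ((rr A a b : G4) : M4) := (Units.val_mul _ _).symm
    have eb : (A b : M4) * (((A a)⁻¹ : G4) : M4) = -((rr A a b : G4) : M4) := by
      rw [← Units.val_mul, ← Units.val_neg, ← K.rr_swap h]; rfl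
    rw [hX, map_add, Matrix.add_mul, Matrix.mul_add, Matrix.mul_add, hXS _ (K.skew a), hXS _ (K.skew b), hSa, hSa,
      Matrix.mul_smul, Matrix.mul_smul, ea, eb, ← hX] at h1
    have h2 := congrArg Matrix.trace h1
    simp only [Matrix.trace_add, Matrix.trace_smul, Matrix.trace_neg, Matrix.trace_one, K.trace_rr h, smul_eq_mul,
      mul_zero, neg_zero, add_zero, zero_add, Fintype.card_fin] at h2
    have hP : pfM X = pfM (A a : M4) + pfM (A b : M4) := by
      have h3 : (4 : F) * (pfM X - (pfM (A a : M4) + pfM (A b : M4))) = 0 := by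
        push_cast at h2; linear_combination -h2
      exact sub_eq_zero.1 ((mul_eq_zero.1 h3).resolve_left K.four)
    rw [hP, add_smul] at h1
    have h3 : (pfM (A b : M4) - pfM (A a : M4)) • ((rr A a b : G4) : M4) = 0 := by
      rw [sub_smul, sub_eq_zero]
      rw [smul_neg] at h1
      exact sub_eq_zero.1 (by linear_combination (norm := module) h1)
    exact (sub_eq_zero.1 ((smul_eq_zero.1 h3).resolve_right (rr A a b).ne_zero)).symm
  obtain ⟨c, hc⟩ : ∃ c, c = pfM (A 0 : M4) := ⟨_, rfl⟩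
  refine ⟨c, fun h0 => ?_, fun a => hc ▸ hpq a 0, fun x => ?_⟩
  · have h := hXS _ (K.skew 0)
    rw [hSa, ← hc, h0, zero_smul, mul_zero, zero_smul] at h
    have hd := det_eq_pfM_sq K.two (K.skew 0)
    rw [← hc, h0] at hd
    exact (A 0).det_ne_zero (by rw [hd]; simp)
  have hval : S (cmb A x) = c • ∑ a, x a • (((A a)⁻¹ : G4) : M4) := by
    rw [cmb, map_sum, Finset.smul_sum]
    exact Finset.sum_congr rfl fun a _ => by rw [map_smul, hSa, hpq a 0, ← hc, smul_comm]
  have hprod : cmb A x * ∑ a, x a • (((A a)⁻¹ : G4) : M4) = OrthFrame.qs F 6 x • 1 := by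
    refine smul_right_injective M4 K.two ?_
    show (2 : F) • _ = (2 : F) • _
    have e : cmb A x * ∑ a, x a • (((A a)⁻¹ : G4) : M4) =
        ∑ a, ∑ b, (x a * x b) • ((rr A a b : G4) : M4) := by
      simp only [cmb, Finset.sum_mul, Finset.mul_sum, smul_mul_smul_comm, rr, Units.val_mul]
      rw [Finset.sum_comm]
    rw [e, two_smul, smul_smul, OrthFrame.qs_apply, Finset.mul_sum, Finset.sum_smul]
    conv_lhs => arg 2; rw [Finset.sum_comm]
    rw [← Finset.sum_add_distrib]
    refine Finset.sum_congr rfl fun a _ => ?_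
    rw [← Finset.sum_add_distrib, Finset.sum_eq_single a (fun b _ hb => by
      rw [K.rr_swap hb.symm, Units.val_neg, smul_neg, mul_comm (x b), add_neg_cancel]) (by simp),
      show rr A a a = 1 from mul_inv_cancel _, Units.val_one, ← add_smul]
    congr 1; ring
  have h := hXS _ (K.cmb_skew x)
  rw [hval, Matrix.mul_smul, hprod, smul_smul] at h
  have := congrFun (congrFun h 0) 0
  simpa using this.symm

theorem chi_iso {g : G4} (hg : (g : M4).det = 1) (x : V6) :
    OrthFrame.qs F 6 ((K.chi g : Matrix (Fin 6) (Fin 6) F) *ᵥ x) = OrthFrame.qs F 6 x := by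
  obtain ⟨c, hc, -, hq⟩ := K.pf_cmb
  refine mul_left_cancel₀ hc ?_
  rw [K.chi_val, ← hq, K.cmb_kact, pfM_congr K.two _ (K.cmb_skew x), hg, one_mul, hq]

theorem chi_det [Fintype F] {g : G4} (hg : (g : M4).det = 1) :
    (K.chi g : Matrix (Fin 6) (Fin 6) F).det = 1 := by
  classical
  have h := Abelianization.commutator_subset_ker
    ((Matrix.GeneralLinearGroup.det.comp K.chi).comp Matrix.SpecialLinearGroup.toGL) (x := ⟨(g : M4), hg⟩)
    (by rw [SL_commutator_eq_top fun h => absurd h (by simp)]; exact Subgroup.mem_top _)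
  have e : (Matrix.SpecialLinearGroup.toGL ⟨(g : M4), hg⟩ : G4) = g := Units.ext rfl
  have h1 : Matrix.GeneralLinearGroup.det (K.chi (Matrix.SpecialLinearGroup.toGL ⟨(g : M4), hg⟩)) = 1 :=
    MonoidHom.mem_ker.1 h
  rw [e] at h1
  rw [← Matrix.GeneralLinearGroup.val_det_apply, h1, Units.val_one]

theorem det_rr {a b : Fin 6} : ((rr A a b : G4) : M4).det = 1 := by
  obtain ⟨c, hc, hp, -⟩ := K.pf_cmb
  have hd : ∀ a, (A a : M4).det = c ^ 2 := fun a => by rw [det_eq_pfM_sq K.two (K.skew a), hp]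
  have h : ((rr A a b : G4) : M4).det * (A b : M4).det = (A a : M4).det := by
    rw [← Matrix.det_mul, ← Units.val_mul, rr, inv_mul_cancel_right]
  rw [hd, hd] at h
  exact mul_right_cancel₀ (pow_ne_zero 2 hc) (by rw [h, one_mul])

theorem chi_eq_sp (g : G4) (π : Equiv.Perm (Fin 6)) (ε : Fin 6 → Fˣ)
    (h : ∀ a, (g : M4) * (A a : M4) * (g : M4)ᵀ = (ε a : F) • (A (π a) : M4)) :
    K.chi g = OrthFrame.sp π ε := by
  refine OrthFrame.ext_single fun a => ?_
  rw [K.chi_val, OrthFrame.sp_single, kact_mulVec, cmb_single, one_smul, h, ← cmb_single, K.crd_cmb]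

theorem pair_act {a b : Fin 6} (h : a ≠ b) : K.chi (rr A a b) = OrthFrame.dg {a, b} := by
  rw [OrthFrame.dg]
  refine K.chi_eq_sp _ _ _ fun x => ?_
  have ht : tG (rr A a b) = (A b)⁻¹ * A a := by
    rw [rr, tG_mul, tG_inv, K.tG_A, K.tG_A]; simp
  have e : rr A a b * A x * tG (rr A a b) = (if x ∈ ({a, b} : Finset (Fin 6)) then -A x else A x) := by
    rw [ht]
    rcases eq_or_ne x a with rfl | hxa
    · rw [if_pos (by simp)]
      calc rr A x b * A x * ((A b)⁻¹ * A x) = rr A x b * rr A x b * A x := by simp [rr, mul_assoc]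
        _ = _ := by rw [K.rr_sq h, neg_one_mul]
    rcases eq_or_ne x b with rfl | hxb
    · rw [if_pos (by simp)]
      calc rr A a x * A x * ((A x)⁻¹ * A a) = rr A a x * A a := by simp [mul_assoc]
        _ = -rr A x a * A a := by rw [K.rr_swap h, neg_neg]
        _ = _ := by simp [rr]
    · rw [if_neg (by simp [hxa, hxb])]
      calc rr A a b * A x * ((A b)⁻¹ * A a) = A a * ((A b)⁻¹ * A x) * (A b)⁻¹ * A a := by simp [rr, mul_assoc]
        _ = -(A a * (A x)⁻¹ * A a) := by rw [K.anti' hxb]; simp [mul_assoc]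
        _ = _ := by rw [K.anti a x hxa.symm]; simp [mul_assoc]
  have e' := congrArg Units.val e
  rw [Units.val_mul, Units.val_mul, tG_val] at e'
  rw [e', Equiv.Perm.one_apply]
  by_cases hx : x ∈ ({a, b} : Finset (Fin 6)) <;> simp [OrthFrame.sgn, hx]

theorem flip {a b : Fin 6} (h : a ≠ b) (x : Fin 6) :
    (1 - ((rr A a b : G4) : M4)) * (A x : M4) * (1 - ((rr A a b : G4) : M4))ᵀ =
      if x = a then (2 : F) • (A b : M4) else if x = b then -((2 : F) • (A a : M4)) else (2 : F) • (A x : M4) := by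
  obtain ⟨U, hU⟩ : ∃ U : M4, U = ((rr A a b : G4) : M4) := ⟨_, rfl⟩
  rw [← hU]
  obtain ⟨s, hs, hUAU⟩ : ∃ s : F, s = (if x ∈ ({a, b} : Finset (Fin 6)) then -1 else 1) ∧
      U * (A x : M4) * Uᵀ = s • (A x : M4) := by
    refine ⟨_, rfl, ?_⟩
    have h1 := congrArg (fun u : GL (Fin 6) F => (u : Matrix (Fin 6) (Fin 6) F) *ᵥ Pi.single x 1) (K.pair_act h)
    simp only [K.chi_val, OrthFrame.dg_single] at h1
    have h2 := congrArg (cmb A) h1
    rw [K.cmb_kact, cmb_single, one_smul, ← Pi.single_smul, cmb_single, smul_eq_mul, mul_one, ← hU] at h2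
    rw [h2]
    by_cases hx : x ∈ ({a, b} : Finset (Fin 6)) <;> simp [OrthFrame.sgn, hx]
  have hUU : Uᵀ * Uᵀ = -1 := by
    rw [← Matrix.transpose_mul, hU, ← Units.val_mul, K.rr_sq h, Units.val_neg, Units.val_one, Matrix.transpose_neg,
      Matrix.transpose_one]
  have hAU : (A x : M4) * Uᵀ * Uᵀ = -(A x : M4) := by rw [mul_assoc, hUU, mul_neg, mul_one]
  have hR : (A x : M4) * Uᵀ = -(s • (U * (A x : M4))) := by
    have h1 := congrArg (fun X => U * X) hUAU
    have hUU' : U * U = -1 := by rw [hU, ← Units.val_mul, K.rr_sq h, Units.val_neg, Units.val_one]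
    rw [← mul_assoc, ← mul_assoc, hUU', neg_one_mul, neg_mul, Matrix.mul_smul] at h1
    rw [← h1, neg_neg]
  have hexp : (1 - U) * (A x : M4) * (1 - U)ᵀ = (1 + s) • (A x : M4) + (s - 1) • (U * (A x : M4)) := by
    rw [Matrix.transpose_sub, Matrix.transpose_one, sub_mul, one_mul, sub_mul, mul_sub, mul_sub, mul_one, mul_one,
      hUAU, hR]
    module
  rw [hexp, hs]
  rcases eq_or_ne x a with rfl | hxa
  · have e : U * (A x : M4) = -(A b : M4) := by
      rw [hU, ← Units.val_mul, ← Units.val_neg]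
      congr 1
      rw [← neg_neg (rr A x b), ← K.rr_swap h, neg_mul, rr, inv_mul_cancel_right]
    rw [if_pos (by simp), if_pos rfl, e]; module
  rcases eq_or_ne x b with rfl | hxb
  · have e : U * (A x : M4) = (A a : M4) := by
      rw [hU, ← Units.val_mul]
      congr 1
      rw [rr, inv_mul_cancel_right]
    rw [if_pos (by simp), if_neg hxa, if_pos rfl, e]; module
  · rw [if_neg (by simp [hxa, hxb]), if_neg hxa, if_neg hxb]; module

/-- The three cycles. -/
theorem three_act {a b c : Fin 6} (hab : a ≠ b) (hbc : b ≠ c) (hac : a ≠ c) :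
    K.chi (CliffordFour.three K.two (rr A a b) (rr A b c) (K.rr_sq hab) (K.rr_sq hbc)) =
      OrthFrame.sp (Equiv.swap a b * Equiv.swap b c) (fun _ => 1) := by
  refine K.chi_eq_sp _ _ _ fun x => ?_
  rw [CliffordFour.three, Units.val_mul, Units.val_mul, CliffordFour.coe_scal, CliffordFour.coe_oneSub,
    CliffordFour.coe_oneSub, Units.val_mk0, Matrix.smul_mul, one_mul, Matrix.transpose_smul, Matrix.smul_mul,
    Matrix.smul_mul, Matrix.mul_smul, smul_smul, Matrix.transpose_mul]
  simp only [mul_assoc]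
  rw [← mul_assoc (1 - ((rr A b c : G4) : M4)) _ ((1 - ((rr A b c : G4) : M4))ᵀ * _),
    ← mul_assoc ((1 - ((rr A b c : G4) : M4)) * (A x : M4)), K.flip hbc]
  have hw : (-(2 : F)⁻¹) * -(2 : F)⁻¹ * 2 * 2 = 1 := by field_simp [K.two]
  have step : ∀ (y : Fin 6) (t : F), (1 - ((rr A a b : G4) : M4)) * (t • (A y : M4) * (1 - ((rr A a b : G4) : M4))ᵀ) =
      t • if y = a then (2 : F) • (A b : M4) else if y = b then -((2 : F) • (A a : M4)) else (2 : F) • (A y : M4) :=
    fun y t => by rw [Matrix.smul_mul, Matrix.mul_smul, ← mul_assoc, K.flip hab]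
  rcases eq_or_ne x b with rfl | hxb
  · rw [if_pos rfl, step, if_neg hac.symm, if_neg hbc.symm, Equiv.Perm.mul_apply, Equiv.swap_apply_left,
      Equiv.swap_apply_of_ne_of_ne hac.symm hbc.symm, smul_smul, smul_smul, hw, Units.val_one]
  rcases eq_or_ne x c with rfl | hxc
  · rw [if_neg hxb, if_pos rfl, ← neg_smul, step, if_neg hab.symm, if_pos rfl, Equiv.Perm.mul_apply,
      Equiv.swap_apply_right, Equiv.swap_apply_right, smul_neg, smul_neg, smul_smul, smul_smul, ← neg_smul,
      Units.val_one]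
    congr 1
    linear_combination hw
  · rw [if_neg hxb, if_neg hxc, step, Equiv.Perm.mul_apply, Equiv.swap_apply_of_ne_of_ne hxb hxc]
    rcases eq_or_ne x a with rfl | hxa
    · rw [if_pos rfl, Equiv.swap_apply_left, smul_smul, smul_smul, hw, Units.val_one]
    · rw [if_neg hxa, if_neg hxb, Equiv.swap_apply_of_ne_of_ne hxa hxb, smul_smul, smul_smul, hw, Units.val_one]

end K6

end Cfsg.Agent.Classical.LinFour
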