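import Cfsg.Agent.Lib.Classical.MaxMonomialLines

/-!
The monomial subgroup of `SL` in dimension four is maximal over fields of at least seven elements: a monomial
conjugate of a diagonal element is recognised by its trace and its fixed coordinate lines.
-/

set_option autoImplicit false
set_option linter.unusedSectionVars false

namespace Cfsg.Agent.Classical.LinFour

open Matrix Module MaxTv MaxMon

variable {F : Type*} [Field F] [Fintype F] {ι : Type} [Fintype ι] [DecidableEq ι]

local notation "V" => (ι → F)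
local notation "Mn" => Matrix ι ι F

theorem exists_scalar (hq : 7 ≤ Fintype.card F) :
    ∃ l : F, l ≠ 0 ∧ l ≠ 1 ∧ l ^ 2 ≠ 1 ∧ l ^ 3 ≠ 1 ∧ l ^ 4 ≠ 1 := by
  obtain ⟨g, hg⟩ := IsCyclic.exists_ofOrder_eq_natCard (α := Fˣ)
  have hc : 6 ≤ orderOf g := by
    rw [hg, Nat.card_units, Nat.card_eq_fintype_card]; omega
  have key : ∀ n : ℕ, 0 < n → n ≤ 4 → (g : F) ^ n ≠ 1 := fun n h0 h4 e => by
    have : orderOf g ∣ n := orderOf_dvd_of_pow_eq_one (Units.ext (by simpa using e))
    exact absurd (Nat.le_of_dvd h0 this) (by omega)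
  exact ⟨g, g.ne_zero, by simpa using key 1 (by omega) (by omega), key 2 (by omega) (by omega),
    key 3 (by omega) (by omega), key 4 (by omega) le_rfl⟩

/-- The trace of a monomial matrix comes from its fixed lines. -/
theorem trace_mon {g : Mn} {π : Equiv.Perm ι} {x : ι → F}
    (h : ∀ j, g *ᵥ Pi.single j 1 = Pi.single (π j) (x j)) :
    g.trace = ∑ j ∈ Finset.univ.filter (fun j => π j = j), x j := by
  rw [Matrix.trace, Finset.sum_filter]
  refine Finset.sum_congr rfl fun j _ => ?_
  rw [Matrix.diag_apply, ← MaxMon.col_apply g j j, h]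
  by_cases hj : π j = j
  · rw [if_pos hj, hj, Pi.single_eq_same]
  · rw [if_neg hj, Pi.single_eq_of_ne (Ne.symm hj)]

theorem trace_conj (g d : GL ι F) : ((g * d * g⁻¹ : GL ι F) : Mn).trace = (d : Mn).trace := by
  rw [Units.val_mul, Units.val_mul, Matrix.trace_mul_comm, ← mul_assoc, ← Units.val_mul, inv_mul_cancel,
    Units.val_one, one_mul]

variable {M : Subgroup (GL ι F)}

/-- No column of a non-monomial element is a coordinate column. -/
theorem col_not_single (hM : MonLe M) (hF : FixMon M) {g : GL ι F} (hg : g ∈ M) (hmon : ¬ IsMon (g : Mn)) (a x : ι)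
    (μ : F) : (g : Mn) *ᵥ Pi.single a 1 ≠ Pi.single x μ := by
  intro h
  set ε : F := ((Equiv.Perm.sign (Equiv.swap x a) : ℤ) : F) with hε
  have hε2 : ε * ε = 1 := by
    rcases Int.units_eq_one_or (Equiv.Perm.sign (Equiv.swap x a)) with h | h <;> simp [hε, h]
  have hf : ∀ j, Function.update (1 : ι → F) x ε j ≠ 0 := fun j => by
    by_cases hj : j = x
    · subst hj; simpa using left_ne_zero_of_mul_eq_one hε2
    · simp [hj]
  obtain ⟨m, hm, hmm, hmd⟩ := exists_mon (Equiv.swap x a) _ hf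
  have hmM : m ∈ M := hM m hmm (by
    rw [hmd, Finset.prod_update_of_mem (Finset.mem_univ x), ← hε, Finset.prod_eq_one (fun i _ => Pi.one_apply i), mul_one, hε2])
  have h1 : ((m * g : GL ι F) : Mn) *ᵥ Pi.single a 1 = Pi.single a (μ * ε) := by
    rw [Units.val_mul, ← Matrix.mulVec_mulVec, h, show (Pi.single x μ : V) = μ • Pi.single x 1 by
      rw [← Pi.single_smul, smul_eq_mul, mul_one], Matrix.mulVec_smul, hm, Function.update_self,
      Equiv.swap_apply_left, ← Pi.single_smul, smul_eq_mul]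
  have h2 := hmm.inv.mul (hF _ (mul_mem hmM hg) a _ h1)
  rw [← Units.val_mul, inv_mul_cancel_left] at h2
  exact hmon h2

/-- A monomial conjugate of a diagonal element has its fixed coordinates on eigenvectors. -/
theorem fixed_eigen {g d : GL ι F} {f : ι → F} (hd : (d : Mn) = Matrix.diagonal f) {π : Equiv.Perm ι} {x : ι → F}
    (hπ : ∀ j, ((g * d * g⁻¹ : GL ι F) : Mn) *ᵥ Pi.single j 1 = Pi.single (π j) (x j)) {r : ι} (hr : π r = r)
    (i : ι) : ((g⁻¹ : GL ι F) : Mn) i r = 0 ∨ f i = x r := by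
  have h1 := congrArg (fun z => ((g⁻¹ : GL ι F) : Mn) *ᵥ z) (hπ r)
  simp only [hr, Units.val_mul, ← Matrix.mulVec_mulVec, inv_mulVec_cancel, hd] at h1
  rw [show (Pi.single r (x r) : V) = x r • Pi.single r 1 by rw [← Pi.single_smul, smul_eq_mul, mul_one],
    Matrix.mulVec_smul] at h1
  have h2 := congrFun h1 i
  rw [Matrix.mulVec_diagonal, Pi.smul_apply, smul_eq_mul, MaxMon.col_apply] at h2
  rcases eq_or_ne (((g⁻¹ : GL ι F) : Mn) i r) 0 with e | e
  · exact Or.inl e
  · exact Or.inr (mul_right_cancel₀ e h2)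

theorem single_of_zeros {v : V} {i : ι} (h : ∀ j, j ≠ i → v j = 0) : v = Pi.single i (v i) := by
  funext j
  by_cases hj : j = i
  · subst hj; rw [Pi.single_eq_same]
  · rw [Pi.single_eq_of_ne hj, h j hj]

theorem inv_not_mon {g : GL ι F} (hmon : ¬ IsMon (g : Mn)) : ¬ IsMon ((g⁻¹ : GL ι F) : Mn) := fun h =>
  hmon (by simpa using h.inv)

theorem trace_pairFun (hn : Fintype.card ι = 4) {a b : ι} (hab : a ≠ b) (l : F) :
    (Matrix.diagonal (pairFun a b l) : Mn).trace = 2 + l + l⁻¹ := by
  rw [Matrix.trace_diagonal, ← Finset.sum_add_sum_compl ({a, b} : Finset ι), Finset.sum_pair hab, pairFun_left,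
    pairFun_right hab, Finset.sum_congr rfl (g := fun _ => (1 : F)) (fun i hi => by
      simp only [Finset.mem_compl, Finset.mem_insert, Finset.mem_singleton, not_or] at hi
      exact pairFun_other hi.1 hi.2), Finset.sum_const, Finset.card_compl, Finset.card_pair hab, hn]
  simp; ring

/-- A column of the inverse of a non-monomial element has no two zeros. -/
theorem no_two_zeros (hM : MonLe M) (hF : FixMon M) (hn : Fintype.card ι = 4) (hq : 7 ≤ Fintype.card F)
    {g : GL ι F} (hg : g ∈ M) (hmon : ¬ IsMon (g : Mn)) {c a b : ι} (hab : a ≠ b)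
    (ha : ((g⁻¹ : GL ι F) : Mn) a c = 0) (hb : ((g⁻¹ : GL ι F) : Mn) b c = 0) : False := by
  obtain ⟨l, hl0, hl1, -, hl3, hl4⟩ := exists_scalar hq
  obtain ⟨d, hdM, hd⟩ := hM.diag (pairFun a b l) (pairFun_ne hl0) (pairFun_prod hab hl0)
  have hfix : ((g * d * g⁻¹ : GL ι F) : Mn) *ᵥ Pi.single c 1 = Pi.single c 1 := by
    rw [Units.val_mul, Units.val_mul, ← Matrix.mulVec_mulVec, ← Matrix.mulVec_mulVec]
    refine (congrArg ((g : Mn) *ᵥ ·) ?_).trans (mulVec_inv_cancel g _)
    funext i
    rw [hd, Matrix.mulVec_diagonal, MaxMon.col_apply]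
    rcases eq_or_ne i a with rfl | hia
    · rw [ha, mul_zero]
    rcases eq_or_ne i b with rfl | hib
    · rw [hb, mul_zero]
    rw [pairFun_other hia hib, one_mul]
  obtain ⟨π, x, -, hπ⟩ := (hF _ (mul_mem (mul_mem hg hdM) (inv_mem hg)) c 1 hfix).exists_perm
  have hπc : π c = c := by
    by_contra hne
    have h1 := congrFun ((hπ c).symm.trans hfix) c
    rw [Pi.single_eq_of_ne (Ne.symm hne), Pi.single_eq_same] at h1
    exact zero_ne_one h1
  set Fx := Finset.univ.filter fun j => π j = j with hFx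
  have hfx : ∀ r ∈ Fx, x r = 1 := fun r hr => by
    rw [hFx, Finset.mem_filter] at hr
    by_contra hx1
    have hz : ∀ i, i ≠ a → i ≠ b → ((g⁻¹ : GL ι F) : Mn) i r = 0 := fun i hia hib =>
      (fixed_eigen hd hπ hr.2 i).resolve_right (by rw [pairFun_other hia hib]; exact Ne.symm hx1)
    rcases fixed_eigen hd hπ hr.2 a with e | e
    · refine col_not_single hM hF (inv_mem hg) (inv_not_mon hmon) r b _ (single_of_zeros (i := b) fun j hj => ?_)
      rw [MaxMon.col_apply]
      by_cases hja : j = a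
      · rw [hja, e]
      · exact hz j hja hj
    · refine col_not_single hM hF (inv_mem hg) (inv_not_mon hmon) r a _ (single_of_zeros (i := a) fun j hj => ?_)
      rw [MaxMon.col_apply]
      by_cases hjb : j = b
      · refine (fixed_eigen hd hπ hr.2 j).resolve_right fun e' => hl4 ?_
        rw [hjb, pairFun_right hab] at e'
        rw [pairFun_left] at e
        have h2 : l * l = 1 := by
          nth_rewrite 2 [e.trans e'.symm]
          exact mul_inv_cancel₀ hl0
        linear_combination (l * l + 1) * h2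
      · exact hz j hj hjb
  have htr : (Fx.card : F) = 2 + l + l⁻¹ := by
    rw [← trace_pairFun hn hab l, ← hd, ← trace_conj g d, trace_mon hπ, Finset.sum_congr rfl hfx,
      Finset.sum_const, nsmul_one]
  have h4 : Fx.card ≤ 4 := hn ▸ Finset.card_le_univ _
  have h1 : 0 < Fx.card := Finset.card_pos.2 ⟨c, by simp [hFx, hπc]⟩
  have h3 : Fx.card ≠ 3 := fun e => by
    have hs : π.support = Fxᶜ := by ext j; simp [hFx]
    exact Equiv.Perm.card_support_ne_one π (by rw [hs, Finset.card_compl, hn, e])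
  obtain e | e | e : Fx.card = 1 ∨ Fx.card = 2 ∨ Fx.card = 4 := by omega
  · rw [e, Nat.cast_one] at htr
    refine hl3 ?_
    have h5 : l * l + l + 1 = 0 := by field_simp at htr; linear_combination -htr
    linear_combination (l - 1) * h5
  · rw [e, Nat.cast_ofNat] at htr
    refine hl4 ?_
    have h5 : l * l + 1 = 0 := by field_simp at htr; linear_combination -htr
    linear_combination (l * l - 1) * h5
  · have huniv : Fx = Finset.univ := Finset.eq_univ_of_card _ (by rw [e, hn])
    have hk1 : g * d * g⁻¹ = 1 := Units.ext (Matrix.ext_iff_mulVec.2 fun z => funext fun j => by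
      have hj : j ∈ Fx := huniv ▸ Finset.mem_univ j
      have h6 := mon_apply hπ z j
      rw [hfx j hj, one_mul] at h6
      rw [Units.val_one, Matrix.one_mulVec]
      rw [hFx, Finset.mem_filter] at hj
      rwa [hj.2] at h6)
    refine hl1 ?_
    have h6 : d = 1 := by
      rw [show d = g⁻¹ * (g * d * g⁻¹) * g by simp [mul_assoc], hk1, mul_one, inv_mul_cancel]
    have h7 := congrFun (congrFun (congrArg (fun u : GL ι F => (u : Mn)) h6) a) a
    simpa [hd, pairFun_left] using h7

/-- The inverse of a non-monomial element has no zero. -/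
theorem no_zero (hM : MonLe M) (hF : FixMon M) (hn : Fintype.card ι = 4) (hq : 7 ≤ Fintype.card F)
    {g : GL ι F} (hg : g ∈ M) (hmon : ¬ IsMon (g : Mn)) (o c : ι) : ((g⁻¹ : GL ι F) : Mn) o c ≠ 0 := by
  intro ho
  obtain ⟨μ, hμ0, -, -, -, hμ4⟩ := exists_scalar hq
  obtain ⟨f, hf⟩ : ∃ f, f = fun i => if i = o then μ⁻¹ ^ 3 else μ := ⟨_, rfl⟩
  obtain ⟨d, hdM, hd⟩ := hM.diag f (fun i => by
      rw [hf]; show ite _ _ _ ≠ _; split_ifs <;> simp [hμ0]) (by
    rw [← Finset.prod_mul_prod_compl {o}, Finset.prod_singleton, Finset.prod_congr rfl (g := fun _ => μ) (fun i hi => by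
      simp only [Finset.mem_compl, Finset.mem_singleton] at hi
      rw [hf]; exact if_neg hi), Finset.prod_const, Finset.card_compl, Finset.card_singleton, hn]
    rw [hf]
    simp [hμ0])
  have hdx : ∀ z : V, (d : Mn) *ᵥ z = μ • z + ((μ⁻¹ ^ 3 - μ) * z o) • Pi.single o 1 := fun z => by
    funext i
    rw [hd, Matrix.mulVec_diagonal, hf]
    rcases eq_or_ne i o with rfl | hio
    · simp; ring
    · simp [hio]
  set v := ((g⁻¹ : GL ι F) : Mn) *ᵥ Pi.single c 1 with hv
  have hkx : ∀ z : V, ((g * d * g⁻¹ : GL ι F) : Mn) *ᵥ z =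
      μ • z + ((μ⁻¹ ^ 3 - μ) * (((g⁻¹ : GL ι F) : Mn) *ᵥ z) o) • ((g : Mn) *ᵥ Pi.single o 1) := fun z => by
    rw [Units.val_mul, Units.val_mul, ← Matrix.mulVec_mulVec, ← Matrix.mulVec_mulVec, hdx, Matrix.mulVec_add,
      Matrix.mulVec_smul, Matrix.mulVec_smul, mulVec_inv_cancel]
  have hfix : ((g * d * g⁻¹ : GL ι F) : Mn) *ᵥ Pi.single c 1 = Pi.single c μ := by
    rw [hkx, MaxMon.col_apply, ho, mul_zero, zero_smul, add_zero, ← Pi.single_smul, smul_eq_mul, mul_one]
  obtain ⟨π, x, -, hπ⟩ := (hF _ (mul_mem (mul_mem hg hdM) (inv_mem hg)) c μ hfix).exists_perm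
  -- the centre has two zeros
  obtain ⟨j, hj⟩ : ∃ j, ((g⁻¹ : GL ι F) : Mn) o j ≠ 0 := by
    by_contra hc
    push Not at hc
    have h1 := congrFun (inv_mulVec_cancel g (Pi.single o (1 : F))) o
    rw [Matrix.mulVec, dotProduct, Finset.sum_eq_zero (fun i _ => by rw [hc i, zero_mul]), Pi.single_eq_same] at h1
    exact zero_ne_one h1
  have hne : μ⁻¹ ^ 3 - μ ≠ 0 := fun e => hμ4 (by
    have : μ⁻¹ ^ 3 = μ := sub_eq_zero.1 e
    rw [inv_pow] at this
    field_simp at this
    linear_combination -this)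
  have hsupp : ∀ i, i ≠ j → i ≠ π j → (g : Mn) i o = 0 := fun i h1 h2 => by
    have h3 := congrFun ((hπ j).symm.trans (hkx _)) i
    rw [Pi.add_apply, Pi.smul_apply, Pi.smul_apply, MaxMon.col_apply, MaxMon.col_apply, Pi.single_eq_of_ne h1,
      Pi.single_eq_of_ne h2, smul_zero, zero_add, smul_eq_mul, eq_comm] at h3
    exact (mul_eq_zero.1 h3).resolve_left (mul_ne_zero hne hj)
  obtain ⟨a, b, hab, ha, hb⟩ : ∃ a b, a ≠ b ∧ a ∉ ({j, π j} : Finset ι) ∧ b ∉ ({j, π j} : Finset ι) := by
    have h5 : 1 < ({j, π j} : Finset ι)ᶜ.card := by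
      rw [Finset.card_compl, hn]; have := Finset.card_le_two (a := j) (b := π j); omega
    obtain ⟨a, ha, b, hb, hab⟩ := Finset.one_lt_card.1 h5
    exact ⟨a, b, hab, Finset.mem_compl.1 ha, Finset.mem_compl.1 hb⟩
  simp only [Finset.mem_insert, Finset.mem_singleton, not_or] at ha hb
  refine no_two_zeros hM hF hn hq (inv_mem hg) (inv_not_mon hmon) (c := o) hab ?_ ?_ <;> rw [inv_inv]
  exacts [hsupp a ha.1 ha.2, hsupp b hb.1 hb.2]

/-- A conjugate of a diagonal element which is monomial without fixed line has trace zero. -/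
theorem trace_zero (hM : MonLe M) (hF : FixMon M) (hn : Fintype.card ι = 4) (hq : 7 ≤ Fintype.card F)
    {g : GL ι F} (hg : g ∈ M) (hmon : ¬ IsMon (g : Mn)) {d : GL ι F} (hdM : d ∈ M) {f : ι → F}
    (hd : (d : Mn) = Matrix.diagonal f) {a b : ι} (hab : f a ≠ f b) {i c : ι}
    (hzero : ∑ s, (g : Mn) i s * f s * ((g⁻¹ : GL ι F) : Mn) s c = 0) : (Matrix.diagonal f : Mn).trace = 0 := by
  have hkM : g * d * g⁻¹ ∈ M := mul_mem (mul_mem hg hdM) (inv_mem hg)
  have hkmon : IsMon ((g * d * g⁻¹ : GL ι F) : Mn) := by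
    by_contra hk
    refine no_zero hM hF hn hq (inv_mem hkM) (inv_not_mon hk) i c ?_
    rw [inv_inv, Units.val_mul, Units.val_mul, hd, Matrix.mul_apply]
    simpa [Matrix.mul_diagonal] using hzero
  obtain ⟨π, x, -, hπ⟩ := hkmon.exists_perm
  rw [← hd, ← trace_conj g d, trace_mon hπ, Finset.filter_eq_empty_iff.2, Finset.sum_empty]
  intro r _ hr
  have h := fun s => (fixed_eigen hd hπ hr s).resolve_left (no_zero hM hF hn hq hg hmon s r)
  exact hab ((h a).trans (h b).symm)

/-- Monomial elements with one non-monomial element generate `SL`, dimension four. -/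
theorem specialLinear_le_of_monLe_four (hM : MonLe M) (hn : Fintype.card ι = 4) (hq : 7 ≤ Fintype.card F)
    {g : GL ι F} (hg : g ∈ M) (hmon : ¬ IsMon (g : Mn)) : Geo.specialLinear ι F ≤ M := by
  classical
  by_contra hcon
  have hF : FixMon M := fun k hk c ν h => by_contra fun h' =>
    hcon (specialLinear_le_of_fix hM (by omega) hn.ge hk h' h)
  obtain ⟨c⟩ : Nonempty ι := Fintype.card_pos_iff.1 (by omega)
  obtain ⟨w, hw⟩ : ∃ w : ι → ι → F, w = fun i s => (g : Mn) i s * ((g⁻¹ : GL ι F) : Mn) s c := ⟨_, rfl⟩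
  have hw0 : ∀ i s, w i s ≠ 0 := fun i s => by
    rw [hw]
    refine mul_ne_zero (fun e => no_zero hM hF hn hq (inv_mem hg) (inv_not_mon hmon) i s ?_)
      (no_zero hM hF hn hq hg hmon s c)
    rwa [inv_inv]
  have hsum : ∀ i, i ≠ c → ∑ s, w i s = 0 := fun i hi => by
    have h1 := congrFun (mulVec_inv_cancel g (Pi.single c (1 : F))) i
    rw [Pi.single_eq_of_ne hi, Matrix.mulVec, dotProduct] at h1
    simpa [hw, MaxMon.col_apply] using h1
  -- two contributions to one entry differ at most by sign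
  have hsign : ∀ i, i ≠ c → ∀ a b, w i b = w i a ∨ w i b = -w i a := fun i hi a b => by
    by_contra hne
    push Not at hne
    have hab : a ≠ b := fun e => hne.1 (by rw [e])
    set l := w i b / w i a with hl
    have hl0 : l ≠ 0 := div_ne_zero (hw0 i b) (hw0 i a)
    obtain ⟨d, hdM, hd⟩ := hM.diag (pairFun a b l) (pairFun_ne hl0) (pairFun_prod hab hl0)
    have hl1 : l ≠ 1 := fun e => hne.1 ((div_eq_one_iff_eq (hw0 i a)).1 e)
    have hlm : l ≠ -1 := fun e => hne.2 (by
      rw [hl, div_eq_iff (hw0 i a)] at e; rw [e, neg_one_mul])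
    have htr := trace_zero hM hF hn hq hg hmon hdM hd (a := a) (b := b) (i := i) (c := c) (by
      rw [pairFun_left, pairFun_right hab]
      intro e
      rcases mul_self_eq_one_iff.1 (show l * l = 1 by nth_rewrite 2 [e]; exact mul_inv_cancel₀ hl0) with e | e
      exacts [hl1 e, hlm e]) (by
      have h1 : ∀ s, (g : Mn) i s * pairFun a b l s * ((g⁻¹ : GL ι F) : Mn) s c =
          w i s + ((if s = a then (l - 1) * w i a else 0) + if s = b then (l⁻¹ - 1) * w i b else 0) := fun s => by
        rcases eq_or_ne s a with rfl | hsa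
        · rw [pairFun_left, if_pos rfl, if_neg hab, hw]; ring
        rcases eq_or_ne s b with rfl | hsb
        · rw [pairFun_right hab, if_neg hsa, if_pos rfl, hw]; ring
        rw [pairFun_other hsa hsb, if_neg hsa, if_neg hsb, hw]; ring
      rw [Finset.sum_congr rfl fun s _ => h1 s, Finset.sum_add_distrib, Finset.sum_add_distrib, hsum i hi,
        Finset.sum_ite_eq', Finset.sum_ite_eq']
      simp only [Finset.mem_univ, if_true, hl]
      have := hw0 i a
      have := hw0 i b
      field_simp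
      ring)
    rw [trace_pairFun hn hab] at htr
    refine hlm ?_
    have h5 : (l + 1) * (l + 1) = 0 := by field_simp at htr; linear_combination htr
    linear_combination mul_self_eq_zero.1 h5
  obtain ⟨i, hi⟩ := Fintype.exists_ne_of_one_lt_card (by omega) c
  by_cases h2 : (2 : F) = 0
  · -- all contributions are equal: the rows are proportional
    have hneg : ∀ a : F, -a = a := fun a => by linear_combination -a * h2
    have heq : ∀ i, i ≠ c → ∀ a, w i a = w i c := fun i hi a => by
      rcases hsign i hi c a with e | e <;> simp [e, hneg]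
    obtain ⟨j, hj⟩ : ∃ j, j ∉ ({c, i} : Finset ι) := by
      by_contra hc
      push Not at hc
      have := (Finset.card_le_card (fun x _ => hc x : (Finset.univ : Finset ι) ⊆ {c, i})).trans Finset.card_le_two
      rw [Finset.card_univ] at this
      omega
    simp only [Finset.mem_insert, Finset.mem_singleton, not_or] at hj
    have hrow : ∀ y : V, w i c * ((g : Mn) *ᵥ y) j = w j c * ((g : Mn) *ᵥ y) i := fun y => by
      simp only [Matrix.mulVec, dotProduct, Finset.mul_sum]
      refine Finset.sum_congr rfl fun a _ => ?_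
      refine mul_right_cancel₀ (no_zero hM hF hn hq hg hmon a c) ?_
      have e1 : (g : Mn) j a * ((g⁻¹ : GL ι F) : Mn) a c = w j c := by rw [← heq j hj.1 a, hw]
      have e2 : (g : Mn) i a * ((g⁻¹ : GL ι F) : Mn) a c = w i c := by rw [← heq i hi a, hw]
      linear_combination w i c * y a * e1 - w j c * y a * e2
    have := hrow (((g⁻¹ : GL ι F) : Mn) *ᵥ Pi.single j 1)
    rw [mulVec_inv_cancel, Pi.single_eq_same, Pi.single_eq_of_ne (Ne.symm hj.2), mul_zero, mul_one] at this
    exact hw0 i c this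
  -- two contributions of each sign
  set S := Finset.univ.filter fun s => w i s = w i c with hS
  have hout : ∀ s ∈ Sᶜ, w i s = -w i c := fun s hs => by
    rw [Finset.mem_compl, hS, Finset.mem_filter] at hs
    exact (hsign i hi c s).resolve_left fun e => hs ⟨Finset.mem_univ _, e⟩
  have hcard : S.card = 2 := by
    have h1 := hsum i hi
    rw [← Finset.sum_add_sum_compl S, Finset.sum_congr rfl (fun s hs => (Finset.mem_filter.1 hs).2),
      Finset.sum_congr rfl hout, Finset.sum_const, Finset.sum_const, Finset.card_compl, hn, nsmul_eq_mul,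
      nsmul_eq_mul, mul_neg, ← sub_eq_add_neg, ← sub_mul, mul_eq_zero, or_iff_left (hw0 i c)] at h1
    have h4 : S.card ≤ 4 := hn ▸ Finset.card_le_univ _
    rw [Nat.cast_sub h4] at h1
    interval_cases hk : S.card
    · exact absurd (by push_cast at h1; linear_combination -h1 : (2 : F) * 2 = 0) (mul_ne_zero h2 h2)
    · exact absurd (by push_cast at h1; linear_combination -h1 : (2 : F) = 0) h2
    · rfl
    · exact absurd (by push_cast at h1; linear_combination h1 : (2 : F) = 0) h2
    · exact absurd (by push_cast at h1; linear_combination h1 : (2 : F) * 2 = 0) (mul_ne_zero h2 h2)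
  obtain ⟨a₁, a₂, ha, hSa⟩ := Finset.card_eq_two.1 hcard
  obtain ⟨b₁, b₂, hb, hSb⟩ := Finset.card_eq_two.1 (show Sᶜ.card = 2 by rw [Finset.card_compl, hn, hcard])
  have hmem : ∀ s, s = a₁ ∨ s = a₂ → s ≠ b₁ ∧ s ≠ b₂ := fun s hs => by
    have h1 : s ∈ S := by rw [hSa]; simpa using hs
    have h3 : s ∉ Sᶜ := fun h => Finset.mem_compl.1 h h1
    rw [hSb] at h3
    simpa using h3
  obtain ⟨l, hl0, -, hl2, -, hl4⟩ := exists_scalar hq
  obtain ⟨d₁, hd₁M, hd₁⟩ := hM.diag (pairFun a₁ a₂ l) (pairFun_ne hl0) (pairFun_prod ha hl0)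
  obtain ⟨d₂, hd₂M, hd₂⟩ := hM.diag (pairFun b₁ b₂ l) (pairFun_ne hl0) (pairFun_prod hb hl0)
  have hd : ((d₁ * d₂ : GL ι F) : Mn) = Matrix.diagonal fun s => pairFun a₁ a₂ l s * pairFun b₁ b₂ l s := by
    rw [Units.val_mul, hd₁, hd₂, Matrix.diagonal_mul_diagonal]
  obtain ⟨m1, m2⟩ := hmem a₁ (Or.inl rfl)
  obtain ⟨m3, m4⟩ := hmem a₂ (Or.inr rfl)
  have fa1 : pairFun a₁ a₂ l a₁ * pairFun b₁ b₂ l a₁ = l := by rw [pairFun_left, pairFun_other m1 m2, mul_one]
  have fa2 : pairFun a₁ a₂ l a₂ * pairFun b₁ b₂ l a₂ = l⁻¹ := by rw [pairFun_right ha, pairFun_other m3 m4, mul_one]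
  have fb1 : pairFun a₁ a₂ l b₁ * pairFun b₁ b₂ l b₁ = l := by
    rw [pairFun_left, pairFun_other m1.symm m3.symm, one_mul]
  have fb2 : pairFun a₁ a₂ l b₂ * pairFun b₁ b₂ l b₂ = l⁻¹ := by
    rw [pairFun_right hb, pairFun_other m2.symm m4.symm, one_mul]
  have hll : l ≠ l⁻¹ := fun e => hl2 (by rw [sq]; nth_rewrite 2 [e]; exact mul_inv_cancel₀ hl0)
  have hsplit : ∀ φ : ι → F, ∑ s, φ s = φ a₁ + φ a₂ + (φ b₁ + φ b₂) := fun φ => by
    rw [← Finset.sum_add_sum_compl S φ, hSb, hSa, Finset.sum_pair ha, Finset.sum_pair hb]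
  have htr := trace_zero hM hF hn hq hg hmon (mul_mem hd₁M hd₂M) hd (a := a₁) (b := a₂) (i := i) (c := c)
    (by rw [fa1, fa2]; exact hll) (by
      rw [hsplit, fa1, fa2, fb1, fb2]
      have e : ∀ s, s ∈ S → (g : Mn) i s * ((g⁻¹ : GL ι F) : Mn) s c = w i c := fun s hs => by
        rw [← (Finset.mem_filter.1 hs).2, hw]
      have e' : ∀ s, s ∈ Sᶜ → (g : Mn) i s * ((g⁻¹ : GL ι F) : Mn) s c = -w i c := fun s hs => by
        rw [← hout s hs, hw]
      linear_combination l * e a₁ (by simp [hSa]) + l⁻¹ * e a₂ (by simp [hSa]) + l * e' b₁ (by simp [hSb]) +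
        l⁻¹ * e' b₂ (by simp [hSb]))
  rw [Matrix.trace_diagonal, hsplit, fa1, fa2, fb1, fb2] at htr
  refine hl4 ?_
  have h5 : l * l + 1 = 0 := by
    have h6 : (2 : F) * (l + l⁻¹) = 0 := by linear_combination htr
    have h7 := (mul_eq_zero.1 h6).resolve_left h2
    field_simp at h7
    linear_combination h7
  linear_combination (l * l - 1) * h5

/-- Stabilisers of decompositions into four lines. -/
theorem lines_maximal_four {t : ℕ} (hq : 7 ≤ Fintype.card F) {D : Fin t → Submodule F (Fin 4 → F)}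
    (hD : Geo.IsMDecomposition 1 D) :
    Geo.IsMaximalIn (Geo.specialLinear (Fin 4) F) (Geo.decompositionStabilizer D ⊓ Geo.specialLinear (Fin 4) F) :=
  lines_maximal_of (by norm_num) (by omega)
    (fun _ hM _ hg hmon => specialLinear_le_of_monLe_four hM (by simp) hq hg hmon) hD

end Cfsg.Agent.Classical.LinFour
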