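import Cfsg.Agent.Lib.Classical.MaxUnitary
import Cfsg.Agent.Lib.Fus.UnitTransvection

/-!
All unitary transvections give all of the special unitary group in degree at least three.
-/

set_option autoImplicit false
set_option linter.unusedSectionVars false

namespace Cfsg.Agent.Classical.LinFour

open Matrix MaxTv PSUAut

variable {F : Type*} [Field F] [Fintype F] {n q : ℕ}

theorem guSL_le_three (hF : Fintype.card F = q ^ 2) (hn : 3 ≤ n) (h32 : ¬ (n = 3 ∧ q = 2))
    {M : Subgroup (GL (Fin n) F)}
    (h : ∀ v, hermForm n F q v v = 0 → UPt (qEquiv hF) (hermForm n F q) M v) :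
    GU n F q ⊓ Geo.specialLinear (Fin n) F ≤ M := by
  intro g hg
  have hs := herm_hermForm (n := n) hF
  have hd : (g : Matrix (Fin n) (Fin n) F).det = 1 := (MonoidHom.mem_ker.trans Units.ext_iff).1 hg.2
  obtain ⟨A, hA⟩ : ∃ A : SU n F q, (Matrix.SpecialLinearGroup.toGL A.1 : GL (Fin n) F) = g :=
    ⟨⟨⟨(g : Matrix (Fin n) (Fin n) F), hd⟩, mem_GU.1 hg.1⟩, Units.ext rfl⟩
  have hall : ∀ B : SU n F q, (Matrix.SpecialLinearGroup.toGL B.1 : GL (Fin n) F) ∈ M := fun B => by
    have hB : B ∈ Subgroup.closure {A : SU n F q | ∃ (v : Fin n → F) (c : F), hermForm n F q v v = 0 ∧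
        suVal A = unitaryTransvection n q v c} :=
      (Fus.UnitTv.closure_transvections hF hn h32).symm ▸ Subgroup.mem_top B
    induction hB using Subgroup.closure_induction with
    | mem B hB =>
      obtain ⟨v, c, hv, hBv⟩ := hB
      rcases eq_or_ne v 0 with rfl | hv0
      · rw [show (Matrix.SpecialLinearGroup.toGL B.1 : GL (Fin n) F) = 1 from Units.ext (hBv.trans (by
          simp [unitaryTransvection]))]
        exact one_mem M
      have hBi : ∀ x, (Matrix.SpecialLinearGroup.toGL B.1 : Matrix (Fin n) (Fin n) F) *ᵥ x =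
          x + (c * hermForm n F q x v) • v := fun x => by
        show suVal B *ᵥ x = _
        rw [hBv, unitaryTransvection, Matrix.add_mulVec, Matrix.one_mulVec, Matrix.smul_mulVec,
          Matrix.vecMulVec_mulVec, show (fun j => v j ^ q) ⬝ᵥ x = hermForm n F q x v by
            simp [hermForm, dotProduct, mul_comm], op_smul_eq_smul, smul_smul]
      obtain ⟨y, hy⟩ := hs.toSesq.exists_left hv0
      have hform : ∀ x z, hermForm n F q ((Matrix.SpecialLinearGroup.toGL B.1 : Matrix (Fin n) (Fin n) F) *ᵥ x)
          ((Matrix.SpecialLinearGroup.toGL B.1 : Matrix (Fin n) (Fin n) F) *ᵥ z) = hermForm n F q x z :=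
        fun x z => B.2 x z
      have h1 := hform y y
      rw [hBi, hs.add_left, hs.add_right, hs.add_right, hs.smul_left, hs.smul_left, hs.smul_right, hs.smul_right, hv,
        hs.herm v y, map_mul] at h1
      have hc : c + qEquiv hF c = 0 := by
        refine (mul_eq_zero.1 (show (hermForm n F q y v * qEquiv hF (hermForm n F q y v)) * (c + qEquiv hF c) = 0 by
          linear_combination h1)).resolve_left (mul_ne_zero hy (by simpa using hy))
      obtain ⟨t, ht, htx⟩ := h v hv c hc
      rw [show (Matrix.SpecialLinearGroup.toGL B.1 : GL (Fin n) F) = t from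
        Units.ext (Matrix.ext_iff_mulVec.2 fun x => by rw [hBi, htx])]
      exact ht
    | one => simp
    | mul a b _ _ pa pb => rw [Subgroup.coe_mul, map_mul]; exact mul_mem pa pb
    | inv a _ pa => rw [InvMemClass.coe_inv, map_inv]; exact inv_mem pa
  exact hA ▸ hall A

end Cfsg.Agent.Classical.LinFour
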